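import Cfsg.Agent.H830.Sl2Form
import Cfsg.Agent.H464.L2Cover
import Cfsg.Agent.H915.LD

/-!
# The type of the form fixed by a core with socle `PSL₂(q)` in cross characteristic (helper830)

`form_swap` : a bilinear form fixed by an absolutely irreducible image of `SL₂(K)` satisfies `f v u = ω f u v`,
`ω = ±1` the scalar of `-1`;
`sl2_type`, `l2_type` : in odd characteristic, trivial centre: never symplectic, and quadratic if self-dual;
non-trivial centre: never quadratic, and symplectic if self-dual.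
-/

set_option autoImplicit false
set_option linter.unusedSectionVars false

namespace Cfsg.Agent.H830.Sl2Form

open Matrix Module Cfsg Cfsg.Geo Cfsg.Agent.H464.Sl2 Cfsg.Agent.H915.LD

universe u v

section gen

variable {ι : Type} [Fintype ι] [DecidableEq ι] {F : Type u} [Field F] {K : Type v} [Field K] [Fintype K]

theorem reGL_coe' {ι' : Type} [Fintype ι'] [DecidableEq ι'] (e : ι ≃ ι') (g : GL ι F) :
    (reGL e g : Matrix ι' ι' F) = Matrix.reindex e e (g : Matrix ι ι F) := rfl

/-- matrix version on a general index type -/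
theorem form_type' (hK : (Fintype.card K : F) ≠ 0) (ρ : SpecialLinearGroup (Fin 2) K →* GL ι F) (hρ : ρ ≠ 1)
    (habs : ActsAbsolutelyIrreducibly (matrixSet ρ.range)) {ω : F}
    (hω : ((ρ (t (-1)) : GL ι F) : Matrix ι ι F) = ω • 1) {M : Matrix ι ι F}
    (hM : ∀ g, ((ρ g : GL ι F) : Matrix ι ι F)ᵀ * M * (ρ g : Matrix ι ι F) = M) :
    Mᵀ = ω • M := by
  let ee := Fintype.equivFin ι
  let re := reGL (F := F) ee
  have h1 : (re.toMonoidHom.comp ρ).range = ρ.range.map re.toMonoidHom := by rw [MonoidHom.range_comp]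
  have h2 : re.toMonoidHom.comp ρ ≠ 1 := by
    intro h
    apply hρ
    ext1 g
    apply re.injective
    have h2 := DFunLike.congr_fun h g
    rw [MonoidHom.one_apply, map_one]
    exact h2
  have h3 := form_type (M := Matrix.reindex ee ee M) (ω := ω) hK (re.toMonoidHom.comp ρ) h2
    (by rw [h1]; exact absIrr_reGL _ habs) (by
      change (reGL ee (ρ (t (-1))) : Matrix (Fin (Fintype.card ι)) (Fin (Fintype.card ι)) F) = _
      rw [reGL_coe, hω, map_smul, map_one]) (by
      intro g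
      change (reGL ee (ρ g) : Matrix (Fin (Fintype.card ι)) (Fin (Fintype.card ι)) F)ᵀ * _ *
        (reGL ee (ρ g) : Matrix (Fin (Fintype.card ι)) (Fin (Fintype.card ι)) F) = _
      rw [reGL_coe']
      have h4 := congrArg (Matrix.reindex ee ee) (hM g)
      simp only [Matrix.reindex_apply] at h4 ⊢
      rw [← Matrix.submatrix_mul_equiv _ _ _ ee.symm, ← Matrix.submatrix_mul_equiv _ _ _ ee.symm] at h4
      rw [Matrix.transpose_submatrix]
      exact h4)
  have h5 := congrArg (Matrix.reindex ee.symm ee.symm) h3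
  ext i j
  have h6 := congrFun (congrFun h5 i) j
  simpa using h6

theorem scalar_t (ρ : SpecialLinearGroup (Fin 2) K →* GL ι F)
    (habs : ActsAbsolutelyIrreducibly (matrixSet ρ.range)) : ∃ ω : F, (ω = 1 ∨ ω = -1) ∧
      ((ρ (t (-1)) : GL ι F) : Matrix ι ι F) = ω • 1 := by
  have htop := Cfsg.Agent.H919.adjoin_eq_top_of_absIrr habs
  have h1 : ∀ A : Matrix ι ι F, (ρ (t (-1)) : Matrix ι ι F) * A = A * (ρ (t (-1)) : Matrix ι ι F) := by
    intro A
    have hA : A ∈ Algebra.adjoin F (matrixSet ρ.range) := by rw [htop]; trivial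
    induction hA using Algebra.adjoin_induction with
    | mem x hx =>
      obtain ⟨_, ⟨g, rfl⟩, rfl⟩ := hx
      rw [← Units.val_mul, ← Units.val_mul, ← map_mul, ← map_mul, t_sq_central (by simp)]
    | algebraMap r => exact (Algebra.commutes r _).symm
    | add x y _ _ hx hy => rw [mul_add, add_mul, hx, hy]
    | mul x y _ _ hx hy => rw [← mul_assoc, hx, mul_assoc, hy, mul_assoc]
  obtain ⟨ω, hω⟩ := Matrix.mem_range_scalar_of_commute_single (M := (ρ (t (-1)) : Matrix ι ι F))
      (fun i j _ => (h1 (Matrix.single i j 1)).symm)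
  have hω' : ((ρ (t (-1)) : GL ι F) : Matrix ι ι F) = ω • 1 := by
    rw [← hω, Matrix.scalar_apply, ← Matrix.smul_one_eq_diagonal]
  rcases isEmpty_or_nonempty ι with hι | ⟨⟨i⟩⟩
  · exact ⟨1, Or.inl rfl, Subsingleton.elim _ _⟩
  · refine ⟨ω, ?_, hω'⟩
    have h2 : ((ρ (t (-1)) : GL ι F) : Matrix ι ι F) * (ρ (t (-1)) : Matrix ι ι F) = 1 := by
      rw [← Units.val_mul, ← map_mul, ← t_mul]
      simp [t_one]
    rw [hω', smul_mul_assoc, one_mul, smul_smul] at h2
    have h3 := congrFun (congrFun h2 i) i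
    rw [Matrix.smul_apply, Matrix.one_apply_eq, smul_eq_mul, mul_one] at h3
    exact mul_self_eq_one_iff.1 h3

/-- the matrix of a bilinear form -/
theorem exists_matrix {f : (ι → F) → (ι → F) → F} (hf : IsBilinearForm f) {P : Subgroup (GL ι F)}
    (hfix : FixesForm (matrixSet P) f) : ∃ M : Matrix ι ι F, (∀ a b, f a b = a ⬝ᵥ M *ᵥ b) ∧
      ∀ g ∈ P, (g : Matrix ι ι F)ᵀ * M * (g : Matrix ι ι F) = M := by
  let B : (ι → F) →ₗ[F] (ι → F) →ₗ[F] F := LinearMap.mk₂ F f hf.add_left (fun c x y => hf.smul_left c x y)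
    (fun x y z => hf.add_right x y z) (fun c x y => hf.smul_right c x y)
  have hB : ∀ a b, B a b = f a b := fun a b => rfl
  refine ⟨LinearMap.toMatrix₂' F B, ?_, ?_⟩
  · intro a b
    rw [← Matrix.toLinearMap₂'_apply', Matrix.toLinearMap₂'_toMatrix', hB]
  · intro g hg
    have h1 : B.compl₁₂ (Matrix.toLin' (g : Matrix ι ι F)) (Matrix.toLin' (g : Matrix ι ι F)) = B := by
      apply LinearMap.ext₂
      intro a b
      rw [LinearMap.compl₁₂_apply, hB, hB, Matrix.toLin'_apply, Matrix.toLin'_apply]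
      exact hfix _ ⟨g, hg, rfl⟩ a b
    have h2 := LinearMap.toMatrix₂'_compl₁₂ (R := F) B (Matrix.toLin' (g : Matrix ι ι F)) (Matrix.toLin' (g : Matrix ι ι F))
    rw [h1, LinearMap.toMatrix'_toLin'] at h2
    exact h2.symm

/-- **Symmetry of the form.** -/
theorem form_swap (hK : (Fintype.card K : F) ≠ 0) (ρ : SpecialLinearGroup (Fin 2) K →* GL ι F) (hρ : ρ ≠ 1)
    (habs : ActsAbsolutelyIrreducibly (matrixSet ρ.range)) {ω : F}
    (hω : ((ρ (t (-1)) : GL ι F) : Matrix ι ι F) = ω • 1) {f : (ι → F) → (ι → F) → F} (hf : IsBilinearForm f)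
    (hfix : FixesForm (matrixSet ρ.range) f) (a b : ι → F) : f b a = ω * f a b := by
  obtain ⟨M, hM, hinv⟩ := exists_matrix hf hfix
  have h1 := form_type' hK ρ hρ habs hω (fun g => hinv _ ⟨g, rfl⟩)
  rw [hM, hM, Matrix.dotProduct_mulVec, dotProduct_comm, ← Matrix.mulVec_transpose, h1, Matrix.smul_mulVec,
    dotProduct_smul, smul_eq_mul]

/-- **The two types.** -/
theorem sl2_type (h2 : (2 : F) ≠ 0) (hK : (Fintype.card K : F) ≠ 0) (ρ : SpecialLinearGroup (Fin 2) K →* GL ι F)
    {P : Subgroup (GL ι F)} (hP : ρ.range = P) (hC : Core P) [Finite F] :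
    (ρ (t (-1)) = 1 → ¬ FixA P ∧ (SD P → FixQ P)) ∧ (ρ (t (-1)) ≠ 1 → ¬ FixQ P ∧ (SD P → FixA P)) := by
  subst hP
  have hne := hC.nonempty
  obtain ⟨i⟩ := hne
  have hρ : ρ ≠ 1 := by
    rintro rfl
    apply hC.nonabelian
    have h3 : Subsingleton (1 : SpecialLinearGroup (Fin 2) K →* GL ι F).range := by
      rw [MonoidHom.range_one]
      infer_instance
    have h2 : Subsingleton (Soc (1 : SpecialLinearGroup (Fin 2) K →* GL ι F).range) :=
      (toSoc_surjective _).subsingleton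
    exact ⟨⟨fun a b => Subsingleton.elim _ _⟩⟩
  obtain ⟨ω, hω1, hω⟩ := scalar_t ρ hC.absIrred
  have hone : ρ (t (-1)) = 1 ↔ ω = 1 := by
    constructor
    · intro h
      rw [h, Units.val_one] at hω
      have h3 := congrFun (congrFun hω i) i
      rw [Matrix.smul_apply, Matrix.one_apply_eq, smul_eq_mul, mul_one] at h3
      exact h3.symm
    · rintro rfl
      apply Units.ext
      rw [hω, one_smul, Units.val_one]
  have hnd0 : ∀ f : (ι → F) → (ι → F) → F, IsNondegenerateForm f → ¬ ∀ a b, f a b = 0 := by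
    intro f hf h
    have h0 : (Pi.single i 1 : ι → F) ≠ 0 := by
      intro h4
      have h5 := congrFun h4 i
      rw [Pi.single_eq_same] at h5
      exact one_ne_zero h5
    obtain ⟨⟨x, hx⟩, -⟩ := hf _ h0
    exact hx (h _ _)
  have hneg : ∀ x : F, x = -x → x = 0 := by
    intro x hx
    have h3 : 2 * x = 0 := by linear_combination hx
    exact (mul_eq_zero.1 h3).resolve_left h2
  constructor
  · intro h
    have hω' := hone.1 h
    have hA : ¬ FixA ρ.range := by
      rintro ⟨f, hf, hfix⟩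
      apply hnd0 f hf.nondegenerate
      intro a b
      have h3 := form_swap hK ρ hρ hC.absIrred hω hf.bilinear hfix a b
      rw [hω', one_mul] at h3
      apply hneg
      exact (hf.skew a b).trans (by rw [h3])
    exact ⟨hA, fun hsd => (hC.forms_of_sd hsd).resolve_right hA⟩
  · intro h
    have hω' : ω = -1 := hω1.resolve_left (fun h3 => h (hone.2 h3))
    have hQ : ¬ FixQ ρ.range := by
      rintro ⟨Q, hQ, hfix⟩
      apply hnd0 _ hQ.nondegenerate
      intro a b
      have hfix' : FixesForm (matrixSet ρ.range) (QuadraticMap.polar Q) := by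
        intro s hs a b
        unfold QuadraticMap.polar
        rw [← Matrix.mulVec_add, hfix s hs, hfix s hs, hfix s hs]
      have h3 := form_swap hK ρ hρ hC.absIrred hω hQ.polar_bilinear hfix' a b
      rw [hω', neg_one_mul] at h3
      apply hneg
      rw [← h3]
      exact QuadraticMap.polar_comm Q a b
    exact ⟨hQ, fun hsd => (hC.forms_of_sd hsd).resolve_left hQ⟩

/-- The scalars in an image of `SL₂(K)`. -/
theorem scalars_bot_iff (ρ : SpecialLinearGroup (Fin 2) K →* GL ι F)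
    {P : Subgroup (GL ι F)} (hP : ρ.range = P) (habs : ActsAbsolutelyIrreducibly (matrixSet P))
    (hcen : ∀ g, ρ g ∈ scalars ι F → g ∈ Subgroup.center (SpecialLinearGroup (Fin 2) K)) :
    (scalars ι F).subgroupOf P = ⊥ ↔ ρ (t (-1)) = 1 := by
  subst hP
  obtain ⟨ω, hω1, hω⟩ := scalar_t ρ habs
  constructor
  · intro h
    have h1 : (⟨ρ (t (-1)), _, rfl⟩ : ρ.range) ∈ (scalars ι F).subgroupOf ρ.range := by
      rw [Subgroup.mem_subgroupOf, mem_scalars_iff]
      rcases hω1 with h1 | h1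
      · exact ⟨1, by rw [hω, h1]; rfl⟩
      · exact ⟨-1, by rw [hω, h1]; rfl⟩
    rw [h, Subgroup.mem_bot] at h1
    exact congrArg Subtype.val h1
  · intro h
    rw [Subgroup.eq_bot_iff_forall]
    rintro ⟨_, g, rfl⟩ hg
    rw [Subgroup.mem_subgroupOf] at hg
    have h1 := hcen g hg
    have h2 : g = 1 ∨ g = t (-1) := by
      rw [Matrix.SpecialLinearGroup.mem_center_iff] at h1
      obtain ⟨r, hr1, hr2⟩ := h1
      rw [Fintype.card_fin, sq, mul_self_eq_one_iff] at hr1
      rcases hr1 with h3 | h3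
      · left
        apply Subtype.ext
        rw [← hr2, h3]
        simp
      · right
        apply Subtype.ext
        rw [← hr2, h3, t_coe]
        ext i j
        fin_cases i <;> fin_cases j <;> simp [Matrix.scalar_apply]
    apply Subtype.ext
    change ρ g = 1
    rcases h2 with h2 | h2
    · rw [h2, map_one]
    · rw [h2, h]

/-- **The type in terms of the centre.** -/
theorem l2_type [Finite F] (p : ℕ) [hp : Fact p.Prime] [CharP F p] (hp2 : p ≠ 2) {P : Subgroup (GL ι F)} (hC : Core P)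
    (h5 : 5 ≤ Fintype.card K) (h9 : Fintype.card K ≠ 9) (hpK : ¬ p ∣ Fintype.card K)
    (e : Soc P ≃* ProjectiveSpecialLinearGroup (Fin 2) K) :
    ((scalars ι F).subgroupOf P = ⊥ → ¬ FixA P ∧ (SD P → FixQ P)) ∧
      ((scalars ι F).subgroupOf P ≠ ⊥ → ¬ FixQ P ∧ (SD P → FixA P)) := by
  obtain ⟨ρ, hρ, hρe⟩ := exists_rep hC.perfect (by omega) (by omega) h9 e
  have hK : (Fintype.card K : F) ≠ 0 := fun h => hpK ((CharP.cast_eq_zero_iff F p _).1 h)
  have h2 : (2 : F) ≠ 0 := by
    intro h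
    have h3 : ((2 : ℕ) : F) = 0 := by exact_mod_cast h
    rw [CharP.cast_eq_zero_iff F p] at h3
    exact hp2 ((Nat.prime_dvd_prime_iff_eq hp.out Nat.prime_two).1 h3)
  rw [Ne, scalars_bot_iff ρ hρ hC.absIrred]
  · exact sl2_type h2 hK ρ hρ hC
  · intro g hg
    have h3 : ρ g ∈ P := by rw [← hρ]; exact ⟨g, rfl⟩
    have h4 := hρe g h3
    have h5 : (QuotientGroup.mk ⟨ρ g, h3⟩ : Soc P) = 1 := by
      rw [QuotientGroup.eq_one_iff, Subgroup.mem_subgroupOf]
      exact hg
    rw [h5, map_one] at h4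
    exact (QuotientGroup.eq_one_iff g).1 h4.symm

/-- trivial centre, odd characteristic: orthogonal -/
theorem l2_fixQ [Finite F] (p : ℕ) [hp : Fact p.Prime] [CharP F p] (hp2 : p ≠ 2) {P : Subgroup (GL ι F)} (hC : Core P)
    (h5 : 5 ≤ Fintype.card K) (h9 : Fintype.card K ≠ 9) (hpK : ¬ p ∣ Fintype.card K)
    (e : Soc P ≃* ProjectiveSpecialLinearGroup (Fin 2) K) (hcen : (scalars ι F).subgroupOf P = ⊥) (hsd : SD P) :
    FixQ P ∧ ¬ FixA P :=
  ⟨((l2_type p hp2 hC h5 h9 hpK e).1 hcen).2 hsd, ((l2_type p hp2 hC h5 h9 hpK e).1 hcen).1⟩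

/-- non-trivial centre, odd characteristic: symplectic -/
theorem l2_fixA [Finite F] (p : ℕ) [hp : Fact p.Prime] [CharP F p] (hp2 : p ≠ 2) {P : Subgroup (GL ι F)} (hC : Core P)
    (h5 : 5 ≤ Fintype.card K) (h9 : Fintype.card K ≠ 9) (hpK : ¬ p ∣ Fintype.card K)
    (e : Soc P ≃* ProjectiveSpecialLinearGroup (Fin 2) K) (hcen : (scalars ι F).subgroupOf P ≠ ⊥) (hsd : SD P) :
    FixA P ∧ ¬ FixQ P :=
  ⟨((l2_type p hp2 hC h5 h9 hpK e).2 hcen).2 hsd, ((l2_type p hp2 hC h5 h9 hpK e).2 hcen).1⟩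

end gen

end Cfsg.Agent.H830.Sl2Form
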