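import Mathlib

/-!
# Quadratic reciprocity over finite fields in the form needed for discriminants (helper830)
-/

set_option autoImplicit false

namespace Cfsg.Agent.H830.Disc

/-- `(-1)^m (2 m + 1)` is a square in `F` iff `|F|` is a square modulo the prime `r = 2 m + 1`. -/
theorem isSquare_star_iff {F : Type*} [Field F] [Fintype F] (hF : ringChar F ≠ 2) {r m : ℕ} [hr : Fact r.Prime]
    (hrm : r = 2 * m + 1) (hrF : (r : F) ≠ 0) :
    IsSquare ((-1) ^ m * (r : F)) ↔ IsSquare ((Fintype.card F : ℕ) : ZMod r) := by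
  classical
  have hr2 : r ≠ 2 := by omega
  have h1 : ((-1) ^ m * (r : F)) ≠ 0 := mul_ne_zero (pow_ne_zero _ (neg_ne_zero.2 one_ne_zero)) hrF
  have h2 : ((Fintype.card F : ℕ) : ZMod r) ≠ 0 := by
    intro h
    rw [ZMod.natCast_eq_zero_iff] at h
    obtain ⟨n, hp, hn⟩ := FiniteField.card F (ringChar F)
    rw [hn] at h
    have h3 := (Nat.prime_dvd_prime_iff_eq hr.out hp).1 (hr.out.dvd_of_dvd_pow h)
    apply hrF
    rw [h3]
    exact CharP.cast_eq_zero F (ringChar F)
  rw [← quadraticChar_one_iff_isSquare h1, ← quadraticChar_one_iff_isSquare h2]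
  have key : quadraticChar F ((-1) ^ m * (r : F)) = quadraticChar (ZMod r) ((Fintype.card F : ℕ) : ZMod r) := by
    have hne : ringChar F ≠ r := by
      intro h
      apply hrF
      rw [← h]
      exact CharP.cast_eq_zero F (ringChar F)
    have hodd := FiniteField.odd_card_of_char_ne_two hF
    have hr2' : ringChar (ZMod r) ≠ 2 := by rw [ZMod.ringChar_zmod_n]; exact hr2
    have h3 := quadraticChar_odd_prime hF hr2 hne
    have h4 := quadraticChar_neg_one hF
    have h5 := quadraticChar_neg_one (F := ZMod r) hr2'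
    rw [ZMod.card, ZMod.χ₄_eq_neg_one_pow (by omega)] at h5
    have h6 : r / 2 = m := by omega
    rw [h6] at h5
    rw [map_mul, map_pow, h3, h4]
    rcases (show Fintype.card F % 4 = 1 ∨ Fintype.card F % 4 = 3 by omega) with h7 | h7
    · rw [ZMod.χ₄_nat_one_mod_four h7, one_pow, one_mul, Int.cast_one, one_mul]
    · rw [ZMod.χ₄_nat_three_mod_four h7, Int.cast_neg, Int.cast_one, map_mul, h5, ← mul_assoc, ← mul_pow]
      simp
  rw [key]

end Cfsg.Agent.H830.Disc
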