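import Cfsg.Agent.H830.DiscMain
import Cfsg.Agent.H830.QRec
import Cfsg.Agent.H926.MinusA
import Cfsg.Agent.H925.OrthDisc

/-!
# Plus type or minus type for cores with socle `PSL₂(r)` of degree `r ± 1` (helper830)

`r = |K|` prime, `r ≥ 5`; `F` finite of odd characteristic `p ≠ r`; `Q` a non-degenerate quadratic form fixed by `P`.

* `plus_iff_sub_one` : degree `r - 1` : plus type iff `|F|` is a square modulo `r`;
* `plus_iff_add_one` : degree `r + 1 = 2 m` : plus type iff `(-1)^m r (4 - τ²)` is a square, `τ = tr ρ(t a) ≠ ± 2`.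
-/

set_option autoImplicit false
set_option linter.unusedSectionVars false

namespace Cfsg.Agent.H830.Disc

open Matrix Module Polynomial Cfsg Cfsg.Geo Cfsg.Agent.H464.Sl2 Cfsg.Agent.H915.LD Cfsg.Agent.H830.Sl2Form

universe u v

variable {ι : Type} [Fintype ι] [DecidableEq ι] {F : Type u} [Field F]

/-- the Gram matrix of a quadratic form -/
noncomputable def gram (Q : (ι → F) → F) : Matrix ι ι F :=
  Matrix.of fun i j => QuadraticMap.polar Q (Pi.single i 1) (Pi.single j 1)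

theorem gram_eq {Q : (ι → F) → F} (hQ : IsNondegenerateQuadraticForm Q) :
    LinearMap.BilinForm.toMatrix (Pi.basisFun F ι) (Cfsg.Agent.H922.toBilin hQ.polar_bilinear) = gram Q := by
  ext i j
  rw [LinearMap.BilinForm.toMatrix_apply, Pi.basisFun_apply, Pi.basisFun_apply]
  rfl

theorem gram_symm (Q : (ι → F) → F) : (gram Q)ᵀ = gram Q := by
  ext i j
  exact QuadraticMap.polar_comm Q _ _

theorem gram_inv {P : Subgroup (GL ι F)} {Q : (ι → F) → F} (hQ : IsNondegenerateQuadraticForm Q)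
    (hfix : FixesQuadForm (matrixSet P) Q) :
    ∀ g ∈ P, (g : Matrix ι ι F)ᵀ * gram Q * (g : Matrix ι ι F) = gram Q := by
  have hfix' : FixesForm (matrixSet P) (QuadraticMap.polar Q) := by
    intro s hs a b
    unfold QuadraticMap.polar
    rw [← Matrix.mulVec_add, hfix s hs, hfix s hs, hfix s hs]
  obtain ⟨M, hM, hinv⟩ := exists_matrix hQ.polar_bilinear hfix'
  have h1 : M = gram Q := by
    ext i j
    change _ = QuadraticMap.polar Q (Pi.single i 1) (Pi.single j 1)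
    rw [hM]
    simp
  rw [← h1]
  exact hinv

theorem gram_det_ne {Q : (ι → F) → F} (hQ : IsNondegenerateQuadraticForm Q) : (gram Q).det ≠ 0 := by
  rw [← gram_eq hQ]
  exact (LinearMap.BilinForm.nondegenerate_iff_det_ne_zero _).1
    (Cfsg.Agent.H922.toBilin_nondegenerate hQ.polar_bilinear hQ.nondegenerate)

theorem plus_iff_det [Finite F] (h2 : (2 : F) ≠ 0) {Q : (ι → F) → F} (hQ : IsNondegenerateQuadraticForm Q) {m : ℕ}
    (hm : Fintype.card ι = 2 * m) : IsPlusTypeOn Q ⊤ ↔ IsSquare ((-1) ^ m * (gram Q).det) := by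
  constructor
  · intro h
    obtain ⟨s, hs⟩ := Cfsg.Agent.H925.det_plus hQ h hm (Pi.basisFun F ι)
    rw [gram_eq hQ] at hs
    rw [hs, ← mul_assoc, ← mul_pow]
    exact ⟨s, by simp [pow_two]⟩
  · rintro ⟨s, hs⟩
    refine Cfsg.Agent.H926.plus_of_det hQ h2 hm (Pi.basisFun F ι) (s := s) ?_
    rw [gram_eq hQ, pow_two, ← hs, ← mul_assoc, ← mul_pow]
    simp

theorem isSquare_swap {a b : F} (ha : a ≠ 0) (hb : b ≠ 0) (h : IsSquare (a * b)) (c : F) :
    IsSquare (c * b) ↔ IsSquare (c * a) := by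
  obtain ⟨s, hs⟩ := h
  constructor
  · rintro ⟨x, hx⟩
    refine ⟨x * s / b, ?_⟩
    field_simp
    linear_combination a * b * hx + x * x * hs
  · rintro ⟨x, hx⟩
    refine ⟨x * s / a, ?_⟩
    field_simp
    linear_combination a * b * hx + x * x * hs

variable [Finite F] (p : ℕ) [hp : Fact p.Prime] [CharP F p] {P : Subgroup (GL ι F)} {K : Type v} [Field K] [Fintype K]

/-- **Degree `r - 1 = 2 m`**: the type and `(-1)^m r`. -/
theorem plus_iff_sub_one' (hp2 : p ≠ 2) (hC : Core P) (h5 : 5 ≤ Fintype.card K) (hr : (Fintype.card K).Prime)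
    (hpK : ¬ p ∣ Fintype.card K) (e : Soc P ≃* ProjectiveSpecialLinearGroup (Fin 2) K)
    {m : ℕ} (hm : Fintype.card ι = 2 * m) (hn : Fintype.card ι + 1 = Fintype.card K)
    {Q : (ι → F) → F} (hQ : IsNondegenerateQuadraticForm Q) (hfix : FixesQuadForm (matrixSet P) Q) :
    IsPlusTypeOn Q ⊤ ↔ IsSquare ((-1) ^ m * (Fintype.card K : F)) := by
  have hK : (Fintype.card K : F) ≠ 0 := fun h => hpK ((CharP.cast_eq_zero_iff F p _).1 h)
  rw [plus_iff_det (two_ne_zero_of p hp2) hQ hm]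
  exact isSquare_swap hK (gram_det_ne hQ)
    (disc_sub_one p hp2 hC h5 hr hpK e hn (gram_symm Q) (gram_inv hQ hfix)) _

/-- **Degree `r - 1`**: plus type iff `|F|` is a square modulo `r`. -/
theorem plus_iff_sub_one [Fintype F] (hp2 : p ≠ 2) (hC : Core P) {r : ℕ} [hr : Fact r.Prime] (h5 : 5 ≤ r) (hpr : p ≠ r)
    (e : Soc P ≃* ProjectiveSpecialLinearGroup (Fin 2) (ZMod r)) (hn : Fintype.card ι + 1 = r)
    {Q : (ι → F) → F} (hQ : IsNondegenerateQuadraticForm Q) (hfix : FixesQuadForm (matrixSet P) Q) :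
    IsPlusTypeOn Q ⊤ ↔ IsSquare ((Fintype.card F : ℕ) : ZMod r) := by
  have hr2 : r ≠ 2 := by omega
  obtain ⟨m, hm⟩ := hr.out.odd_of_ne_two hr2
  have hcard : Fintype.card (ZMod r) = r := ZMod.card r
  have hpr' : ¬ p ∣ r := fun h => hpr ((Nat.prime_dvd_prime_iff_eq hp.out hr.out).1 h)
  have h1 := plus_iff_sub_one' p hp2 hC (K := ZMod r) (by rw [hcard]; exact h5) (by rw [hcard]; exact hr.out)
    (by rw [hcard]; exact hpr') e (m := m) (by omega) (by rw [hcard]; exact hn) hQ hfix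
  rw [hcard] at h1
  rw [h1]
  refine isSquare_star_iff ?_ hm (fun h => hpr' ((CharP.cast_eq_zero_iff F p _).1 h))
  rw [ringChar.eq F p]
  exact hp2

/-- **Degree `r + 1 = 2 m`**. -/
theorem plus_iff_add_one (hp2 : p ≠ 2) (hC : Core P) (h5 : 5 ≤ Fintype.card K) (hr : (Fintype.card K).Prime)
    (hpK : ¬ p ∣ Fintype.card K) (ρ : SpecialLinearGroup (Fin 2) K →* GL ι F) (hρ : ρ.range = P)
    {m : ℕ} (hm : Fintype.card ι = 2 * m) (hn : Fintype.card ι = Fintype.card K + 1) {a : Kˣ} (ha : a ^ 2 ≠ 1)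
    (hτ : tr (ρ (t a)) ^ 2 ≠ 4)
    {Q : (ι → F) → F} (hQ : IsNondegenerateQuadraticForm Q) (hfix : FixesQuadForm (matrixSet P) Q) :
    IsPlusTypeOn Q ⊤ ↔ IsSquare ((-1) ^ m * ((4 - tr (ρ (t a)) ^ 2) * (Fintype.card K : F))) := by
  have hK : (Fintype.card K : F) ≠ 0 := fun h => hpK ((CharP.cast_eq_zero_iff F p _).1 h)
  have h1 := disc_add_one p hp2 hC h5 hr hpK ρ hρ hn (gram_symm Q) (gram_inv hQ hfix) ha
  rw [mul_comm] at h1
  rw [plus_iff_det (two_ne_zero_of p hp2) hQ hm]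
  exact isSquare_swap (mul_ne_zero (sub_ne_zero.2 hτ.symm) hK) (gram_det_ne hQ) h1 _

end Cfsg.Agent.H830.Disc
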