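import Mathlib
import Cfsg.Agent.SporadicStructure.FischerSpace
import Cfsg.Agent.Fischer480.Defs

set_option autoImplicit false

/-!
# A class of 3-transpositions without twins, modulo the centre, satisfies Fischer's hypotheses
(helper830)

`Nice D`: `D` is a generating class of 3-transpositions of `K` without twins, whose commuting graph
is connected, and in which two different commuting members have a common non-commuting member.
Then the image of `D` in `K / Z(K)` satisfies `FGroup` and has the same commutation.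
-/

namespace Cfsg.Agent.H830.NiceQuot

open Cfsg Cfsg.Agent.Fischer480.Defs Cfsg.Agent.SporadicStructure.FischerSpace

open scoped commutatorElement

universe u

/-- A generating class of 3-transpositions without twins. -/
structure Nice {K : Type u} [Group K] (D : Set K) : Prop where
  fd : FData D
  t2 : ∀ x ∈ D, ∀ y ∈ D, x ≠ y → Commute x y → ∃ w ∈ D, Commute w x ∧ ¬ Commute w y
  t3 : ∀ x ∈ D, ∀ y ∈ D, ¬ Commute x y → ∃ w ∈ D, w ≠ x ∧ Commute w x ∧ ¬ Commute w y
  s4 : ∀ x ∈ D, ∀ y ∈ D, x ≠ y → Commute x y → ∃ c ∈ D, ¬ Commute c x ∧ ¬ Commute c y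
  conn : ∀ S : Set K, S ⊆ D → S.Nonempty → (∀ x ∈ S, ∀ y ∈ D, Commute x y → y ∈ S) → S = D
  nc : ∃ x ∈ D, ∃ y ∈ D, ¬ Commute x y

variable {K : Type u} [Group K] {D : Set K}

local notation "π" => (QuotientGroup.mk' (Subgroup.center K) : K →* K ⧸ Subgroup.center K)

theorem pi_eq_iff {x y : K} : π x = π y ↔ x⁻¹ * y ∈ Subgroup.center K := by
  rw [QuotientGroup.mk'_apply, QuotientGroup.mk'_apply, QuotientGroup.eq]

/-- the projection is injective on `D` -/
theorem inj (h : Nice D) {x y : K} (hx : x ∈ D) (hy : y ∈ D) (e : π x = π y) : x = y := by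
  by_contra hne
  rw [pi_eq_iff] at e
  rw [Subgroup.mem_center_iff] at e
  have hc : Commute x y := by
    have h1 := e x
    -- x * (x⁻¹ * y) = (x⁻¹ * y) * x
    show x * y = y * x
    have h2 : x * (x * (x⁻¹ * y)) = x * ((x⁻¹ * y) * x) := by rw [h1]
    simpa [mul_assoc] using h2
  obtain ⟨w, hw, hwx, hwy⟩ := h.t2 x hx y hy hne hc
  apply hwy
  have h1 := e w
  show w * y = y * w
  calc w * y = w * x * (x⁻¹ * y) := by group
    _ = x * (w * (x⁻¹ * y)) := by rw [hwx.eq]; group
    _ = x * ((x⁻¹ * y) * w) := by rw [h1]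
    _ = y * w := by group

theorem comm_iff (h : Nice D) {x y : K} (hx : x ∈ D) (hy : y ∈ D) :
    Commute (π x) (π y) ↔ Commute x y := by
  constructor
  · intro hc
    by_contra hn
    have hb := h.fd.braid x hx y hy hn
    have hx2 := h.fd.sq x hx
    have hy2 := h.fd.sq y hy
    -- `π (x y x) = π y` and `x y x ∈ D`
    have h1 : π (x * y * x) = π y := by
      rw [map_mul, map_mul, hc.eq, mul_assoc, ← map_mul, hx2, map_one, mul_one]
    have h2 : x * y * x = y := inj h (h.fd.conj' hx hy) hy h1
    exact hn ((h.fd.commute_iff hx y).2 h2)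
  · intro hc
    exact hc.map π

theorem bijOn (h : Nice D) : Set.BijOn π D (π '' D) :=
  Set.InjOn.bijOn_image (fun _ hx _ hy e => inj h hx hy e)

theorem cIso (h : Nice D) : CIso D ((π : K → K ⧸ Subgroup.center K) '' D) :=
  ⟨π, bijOn h, fun _ ha _ hb => (comm_iff h ha hb).symm⟩

theorem fdata_quot (h : Nice D) : FData ((π : K → K ⧸ Subgroup.center K) '' D) where
  sq := by
    rintro _ ⟨x, hx, rfl⟩
    rw [← map_mul, h.fd.sq x hx, map_one]
  ne_one := by
    rintro _ ⟨x, hx, rfl⟩ h1
    obtain ⟨a, ha, b, hb, hab⟩ := h.nc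
    obtain ⟨g, rfl⟩ := h.fd.single x hx a ha
    apply hab
    rw [← comm_iff h ha hb, map_mul, map_mul, h1, mul_one, ← map_mul, mul_inv_cancel, map_one]
    exact Commute.one_left _
  conj := by
    rintro g _ ⟨x, hx, rfl⟩
    obtain ⟨g, rfl⟩ := QuotientGroup.mk'_surjective _ g
    exact ⟨g * x * g⁻¹, h.fd.conj g x hx, by rw [map_mul, map_mul, map_inv]⟩
  braid := by
    rintro _ ⟨x, hx, rfl⟩ _ ⟨y, hy, rfl⟩ hn
    rw [comm_iff h hx hy] at hn
    rw [← map_mul, ← map_mul, ← map_mul, ← map_mul, h.fd.braid x hx y hy hn]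
  single := by
    rintro _ ⟨x, hx, rfl⟩ _ ⟨y, hy, rfl⟩
    obtain ⟨g, rfl⟩ := h.fd.single x hx y hy
    exact ⟨π g, by rw [map_mul, map_mul, map_inv]⟩
  gen := by
    have h1 : Subgroup.closure ((π : K → K ⧸ Subgroup.center K) '' D) =
        (Subgroup.closure D).map π := by rw [MonoidHom.map_closure]
    rw [h1, h.fd.gen, ← MonoidHom.range_eq_map, MonoidHom.range_eq_top]
    exact QuotientGroup.mk'_surjective _
  nonempty := h.fd.nonempty.image _

/-- the conditions pass to the quotient -/
theorem nice_quot (h : Nice D) : Nice ((π : K → K ⧸ Subgroup.center K) '' D) where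
  fd := fdata_quot h
  t2 := by
    rintro _ ⟨x, hx, rfl⟩ _ ⟨y, hy, rfl⟩ hne hc
    obtain ⟨w, hw, h1, h2⟩ := h.t2 x hx y hy (fun e => hne (by rw [e])) ((comm_iff h hx hy).1 hc)
    exact ⟨_, ⟨w, hw, rfl⟩, (comm_iff h hw hx).2 h1, fun h3 => h2 ((comm_iff h hw hy).1 h3)⟩
  t3 := by
    rintro _ ⟨x, hx, rfl⟩ _ ⟨y, hy, rfl⟩ hc
    obtain ⟨w, hw, h0, h1, h2⟩ := h.t3 x hx y hy (fun h3 => hc ((comm_iff h hx hy).2 h3))
    exact ⟨_, ⟨w, hw, rfl⟩, fun e => h0 (inj h hw hx e), (comm_iff h hw hx).2 h1,
      fun h3 => h2 ((comm_iff h hw hy).1 h3)⟩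
  s4 := by
    rintro _ ⟨x, hx, rfl⟩ _ ⟨y, hy, rfl⟩ hne hc
    obtain ⟨w, hw, h1, h2⟩ := h.s4 x hx y hy (fun e => hne (by rw [e])) ((comm_iff h hx hy).1 hc)
    exact ⟨_, ⟨w, hw, rfl⟩, fun h3 => h1 ((comm_iff h hw hx).1 h3),
      fun h3 => h2 ((comm_iff h hw hy).1 h3)⟩
  conn := by
    intro S hS hne hcl
    have h1 : D ∩ π ⁻¹' S = D := by
      apply h.conn _ Set.inter_subset_left
      · obtain ⟨s, hs⟩ := hne
        obtain ⟨x, hx, rfl⟩ := hS hs
        exact ⟨x, hx, hs⟩
      · rintro x ⟨hx, hxS⟩ y hy hc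
        exact ⟨hy, hcl _ hxS _ ⟨y, hy, rfl⟩ ((comm_iff h hx hy).2 hc)⟩
    apply Set.Subset.antisymm hS
    rintro _ ⟨x, hx, rfl⟩
    rw [← h1] at hx
    exact hx.2
  nc := by
    obtain ⟨a, ha, b, hb, hab⟩ := h.nc
    exact ⟨_, ⟨a, ha, rfl⟩, _, ⟨b, hb, rfl⟩, fun h3 => hab ((comm_iff h ha hb).1 h3)⟩

/-- the centre of the quotient is trivial -/
theorem center_quot (h : Nice D) : Subgroup.center (K ⧸ Subgroup.center K) = ⊥ := by
  rw [eq_bot_iff]
  intro z hz
  obtain ⟨z, rfl⟩ := QuotientGroup.mk'_surjective _ z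
  rw [Subgroup.mem_center_iff] at hz
  have h1 : ∀ x ∈ D, Commute z x := by
    intro x hx
    have h2 : π (z * x * z⁻¹) = π x := by
      rw [map_mul, map_mul, map_inv, ← hz (π x), mul_inv_cancel_right]
    have h3 := inj h (h.fd.conj z x hx) hx h2
    show z * x = x * z
    exact mul_inv_eq_iff_eq_mul.1 h3
  have h2 : z ∈ Subgroup.center K := by
    rw [Subgroup.mem_center_iff]
    intro g
    have hg : g ∈ Subgroup.closure D := by rw [h.fd.gen]; trivial
    induction hg using Subgroup.closure_induction with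
    | mem x hx => exact (h1 x hx).symm.eq
    | one => rw [one_mul, mul_one]
    | mul a b _ _ ha hb => rw [mul_assoc, hb, ← mul_assoc, ha, mul_assoc]
    | inv a _ ha =>
      have : Commute a z := ha
      exact this.inv_left.eq
  rw [Subgroup.mem_bot, QuotientGroup.mk'_apply, QuotientGroup.eq_one_iff]
  exact h2

/-- a commutative normal subgroup is central -/
theorem central_of_comm (h : Nice D) {A : Subgroup K} (hA : A.Normal)
    (hc : ∀ a ∈ A, ∀ b ∈ A, a * b = b * a) : A ≤ Subgroup.center K := by
  have key : ∀ a ∈ A, ∀ x ∈ D, a * x * a⁻¹ = x := by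
    intro a ha x hx
    by_contra hne
    set y := a * x * a⁻¹ with hy
    have hyD : y ∈ D := h.fd.conj a x hx
    have hxx := h.fd.sq x hx
    have hyy := h.fd.sq y hyD
    have hxi : x⁻¹ = x := h.fd.inv_eq hx
    have hyi : y⁻¹ = y := h.fd.inv_eq hyD
    -- `x y ∈ A`
    have hxyA : x * y ∈ A := by
      have h1 : x * a * x⁻¹ ∈ A := hA.conj_mem a ha x
      have h2 : x * y = (x * a * x⁻¹) * a⁻¹ := by
        rw [hy, hxi]; group
      rw [h2]
      exact A.mul_mem h1 (A.inv_mem ha)
    by_cases hcm : Commute x y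
    · obtain ⟨w, hw, hwx, hwy⟩ := h.t2 x hx y hyD (fun e => hne e.symm) hcm
      have hww := h.fd.sq w hw
      have hwi : w⁻¹ = w := h.fd.inv_eq hw
      have h1 : w * (x * y) * w⁻¹ ∈ A := hA.conj_mem _ hxyA w
      have h2 : w * (x * y) * w⁻¹ = x * (w * y * w) := by
        rw [hwi]
        calc w * (x * y) * w = (w * x) * y * w := by group
          _ = (x * w) * y * w := by rw [hwx.eq]
          _ = x * (w * y * w) := by group
      rw [h2] at h1
      have h3 := hc _ hxyA _ h1
      -- `(x y) (x v) = (x v) (x y)`, `v = w y w`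
      have e1 : (x * y) * (x * (w * y * w)) = y * (w * y * w) := by
        calc (x * y) * (x * (w * y * w)) = x * (y * x) * (w * y * w) := by group
          _ = x * (x * y) * (w * y * w) := by rw [hcm.eq]
          _ = (x * x) * y * (w * y * w) := by group
          _ = y * (w * y * w) := by rw [hxx, one_mul]
      have e2 : (x * (w * y * w)) * (x * y) = (w * y * w) * y := by
        calc (x * (w * y * w)) * (x * y) = (x * w) * y * (w * x) * y := by group
          _ = (w * x) * y * (x * w) * y := by rw [hwx.eq]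
          _ = w * x * (y * x) * w * y := by group
          _ = w * x * (x * y) * w * y := by rw [hcm.eq]
          _ = w * (x * x) * y * w * y := by group
          _ = (w * y * w) * y := by rw [hxx, mul_one]
      rw [e1, e2] at h3
      have hb := h.fd.braid w hw y hyD hwy
      apply hwy
      rw [hb] at h3
      -- `y (y w y) = (y w y) y`
      have h4 : y * (y * w * y) = w * y := by
        calc y * (y * w * y) = (y * y) * w * y := by group
          _ = w * y := by rw [hyy, one_mul]
      have h5 : (y * w * y) * y = y * w := by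
        calc (y * w * y) * y = y * w * (y * y) := by group
          _ = y * w := by rw [hyy, mul_one]
      rw [h4, h5] at h3
      exact h3
    · obtain ⟨w, hw, hwne, hwx, hwy⟩ := h.t3 x hx y hyD hcm
      have hww := h.fd.sq w hw
      have hwi : w⁻¹ = w := h.fd.inv_eq hw
      have h1 : w * (x * y) * w⁻¹ ∈ A := hA.conj_mem _ hxyA w
      have h2 : w * (x * y) * w⁻¹ = x * (w * y * w) := by
        rw [hwi]
        calc w * (x * y) * w = (w * x) * y * w := by group
          _ = (x * w) * y * w := by rw [hwx.eq]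
          _ = x * (w * y * w) := by group
      rw [h2] at h1
      have hbw := h.fd.braid w hw y hyD hwy
      have hbx := h.fd.braid x hx y hyD hcm
      -- `w y ∈ A`
      have h3 : w * y ∈ A := by
        have h4 : (x * y)⁻¹ * (x * (w * y * w)) ∈ A := A.mul_mem (A.inv_mem hxyA) h1
        have h5 : (x * y)⁻¹ * (x * (w * y * w)) = w * y := by
          rw [mul_inv_rev, hxi, hyi, hbw]
          calc y * x * (x * (y * w * y)) = y * (x * x) * y * w * y := by group
            _ = y * y * w * y := by rw [hxx, mul_one]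
            _ = w * y := by rw [hyy, one_mul]
        rwa [h5] at h4
      have h4 : w * x ∈ A := by
        have h5 : (w * y) * (x * y)⁻¹ ∈ A := A.mul_mem h3 (A.inv_mem hxyA)
        have h6 : (w * y) * (x * y)⁻¹ = w * x := by
          rw [mul_inv_rev, hxi, hyi]
          calc w * y * (y * x) = w * (y * y) * x := by group
            _ = w * x := by rw [hyy, mul_one]
        rwa [h6] at h5
      have h5 := hc _ h4 _ hxyA
      -- `(w x)(x y) = (x y)(w x)`
      have e1 : (w * x) * (x * y) = w * y := by
        calc (w * x) * (x * y) = w * (x * x) * y := by group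
          _ = w * y := by rw [hxx, mul_one]
      rw [e1] at h5
      -- `w y = x y w x`, so `x w y = y w x = y x w`, `x w y w = y x`, `w y w = x y x`
      have h6 : w * y * w = x * y * x := by
        calc w * y * w = (x * y * (w * x)) * w := by rw [h5]
          _ = x * y * (w * x * w) := by group
          _ = x * y * (x * w * w) := by rw [hwx.eq]
          _ = x * y * x * (w * w) := by group
          _ = x * y * x := by rw [hww, mul_one]
      rw [hbw, hbx] at h6
      apply hwne
      exact mul_left_cancel (mul_right_cancel h6)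
  intro a ha
  rw [Subgroup.mem_center_iff]
  intro g
  have hg : g ∈ Subgroup.closure D := by rw [h.fd.gen]; trivial
  induction hg using Subgroup.closure_induction with
  | mem x hx => exact (mul_inv_eq_iff_eq_mul.1 (key a ha x hx)).symm
  | one => rw [one_mul, mul_one]
  | mul a b _ _ ha hb => rw [mul_assoc, hb, ← mul_assoc, ha, mul_assoc]
  | inv b _ hb =>
    have : Commute b a := hb
    exact this.inv_left.eq

/-- A nontrivial solvable normal subgroup contains a nontrivial commutative normal subgroup. -/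
theorem exists_comm_normal {X : Type u} [Group X] {N : Subgroup X} (hN : N.Normal)
    (hs : Group.IsSolvable ↥N) (hne : N ≠ ⊥) :
    ∃ A : Subgroup X, A.Normal ∧ A ≠ ⊥ ∧ ∀ a ∈ A, ∀ b ∈ A, a * b = b * a := by
  classical
  obtain ⟨k, hk⟩ := hs.solvable
  have hex : ∃ k, derivedSeries ↥N k = ⊥ := ⟨k, hk⟩
  set m := Nat.find hex with hm
  have hm1 : derivedSeries ↥N m = ⊥ := Nat.find_spec hex
  have hm0 : m ≠ 0 := by
    intro h0
    rw [h0, derivedSeries_zero] at hm1
    apply hne
    rw [eq_bot_iff]
    intro x hx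
    have : (⟨x, hx⟩ : N) ∈ (⊤ : Subgroup ↥N) := trivial
    rw [hm1, Subgroup.mem_bot] at this
    exact congrArg Subtype.val this
  obtain ⟨j, hj⟩ := Nat.exists_eq_succ_of_ne_zero hm0
  have hj1 : derivedSeries ↥N j ≠ ⊥ := Nat.find_min hex (by omega)
  refine ⟨(derivedSeries ↥N j).map N.subtype, ?_, ?_, ?_⟩
  · have : (derivedSeries ↥N j).Characteristic := inferInstance
    exact ConjAct.normal_of_characteristic_of_normal
  · intro h1
    apply hj1
    rw [Subgroup.map_eq_bot_iff, Subgroup.ker_subtype] at h1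
    exact le_bot_iff.1 h1
  · rintro _ ⟨a, ha, rfl⟩ _ ⟨b, hb, rfl⟩
    have h1 : ⁅a, b⁆ ∈ derivedSeries ↥N (j + 1) := by
      rw [derivedSeries_succ]
      exact Subgroup.commutator_mem_commutator ha hb
    have h2 : j + 1 = m := hj.symm
    rw [h2, hm1, Subgroup.mem_bot, commutatorElement_eq_one_iff_mul_comm] at h1
    show (a : X) * b = b * a
    exact congrArg Subtype.val h1

/-- products of commuting members are in the second derived subgroup -/
theorem mul_mem_second (h : Nice D) {x y : K} (hx : x ∈ D) (hy : y ∈ D) (hxy : Commute x y) :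
    x * y ∈ ⁅commutator K, commutator K⁆ := by
  by_cases hne : x = y
  · rw [hne, h.fd.sq y hy]; exact Subgroup.one_mem _
  obtain ⟨c, hc, hcx, hcy⟩ := h.s4 x hx y hy hne hxy
  have hxx := h.fd.sq x hx
  have hyy := h.fd.sq y hy
  have hcc := h.fd.sq c hc
  have hxi : x⁻¹ = x := h.fd.inv_eq hx
  have hyi : y⁻¹ = y := h.fd.inv_eq hy
  have hci : c⁻¹ = c := h.fd.inv_eq hc
  have hbx := h.fd.braid c hc x hx hcx
  have hby := h.fd.braid c hc y hy hcy
  have m1 : c * x ∈ commutator K := by
    have h1 : ⁅x, c⁆ ∈ commutator K := by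
      rw [commutator_def]
      exact Subgroup.commutator_mem_commutator (Subgroup.mem_top _) (Subgroup.mem_top _)
    have h2 : ⁅x, c⁆ = c * x := by
      rw [commutatorElement_def, hxi, hci]
      calc x * c * x * c = (x * c * x) * c := rfl
        _ = (c * x * c) * c := by rw [hbx]
        _ = c * x * (c * c) := by group
        _ = c * x := by rw [hcc, mul_one]
    rwa [h2] at h1
  have m2 : c * y ∈ commutator K := by
    have h1 : ⁅y, c⁆ ∈ commutator K := by
      rw [commutator_def]
      exact Subgroup.commutator_mem_commutator (Subgroup.mem_top _) (Subgroup.mem_top _)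
    have h2 : ⁅y, c⁆ = c * y := by
      rw [commutatorElement_def, hyi, hci]
      calc y * c * y * c = (y * c * y) * c := rfl
        _ = (c * y * c) * c := by rw [hby]
        _ = c * y * (c * c) := by group
        _ = c * y := by rw [hcc, mul_one]
    rwa [h2] at h1
  have h1 : ⁅c * x, c * y⁆ ∈ ⁅commutator K, commutator K⁆ :=
    Subgroup.commutator_mem_commutator m1 m2
  have h2 : ⁅c * x, c * y⁆ = x * y := by
    rw [commutatorElement_def, mul_inv_rev, mul_inv_rev, hxi, hyi, hci]
    calc c * x * (c * y) * (x * c) * (y * c) = (c * x * c) * (y * x) * (c * y * c) := by group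
      _ = (x * c * x) * (y * x) * (y * c * y) := by rw [hbx, hby]
      _ = (x * c * x) * (x * y) * (y * c * y) := by rw [hxy.eq]
      _ = x * c * (x * x) * (y * y) * c * y := by group
      _ = x * (c * c) * y := by rw [hxx, hyy]; group
      _ = x * y := by rw [hcc, mul_one]
  rwa [h2] at h1

theorem perf (h : Nice D) : ⁅commutator K, commutator K⁆ = commutator K := by
  apply le_antisymm
  · exact Subgroup.commutator_le_right _ _
  set M := ⁅commutator K, commutator K⁆ with hM
  have hMn : M.Normal := inferInstance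
  obtain ⟨x0, hx0⟩ := h.fd.nonempty
  -- all members are congruent modulo `M`
  have hall : {x | x ∈ D ∧ x0 * x ∈ M} = D := by
    apply h.conn _ (fun x hx => hx.1)
    · exact ⟨x0, hx0, by rw [h.fd.sq x0 hx0]; exact M.one_mem⟩
    · rintro x ⟨hx, hxM⟩ y hy hc
      refine ⟨hy, ?_⟩
      have h1 := M.mul_mem hxM (mul_mem_second h hx hy hc)
      have h2 : x0 * x * (x * y) = x0 * y := by
        calc x0 * x * (x * y) = x0 * (x * x) * y := by group
          _ = x0 * y := by rw [h.fd.sq x hx, mul_one]
      rwa [h2] at h1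
  -- every element is congruent to `1` or `x0`
  have hcyc : ∀ g : K, g ∈ M ∨ x0 * g ∈ M := by
    intro g
    have hg : g ∈ Subgroup.closure D := by rw [h.fd.gen]; trivial
    induction hg using Subgroup.closure_induction with
    | mem x hx =>
      right
      rw [← hall] at hx
      exact hx.2
    | one => left; exact M.one_mem
    | mul a b _ _ ha hb =>
      rcases ha with ha | ha
      · rcases hb with hb | hb
        · left; exact M.mul_mem ha hb
        · right
          have : x0 * (a * b) = (x0 * a * x0⁻¹) * (x0 * b) := by group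
          rw [this]
          exact M.mul_mem (hMn.conj_mem a ha x0) hb
      · rcases hb with hb | hb
        · right
          rw [← mul_assoc]
          exact M.mul_mem ha hb
        · left
          have h1 := h.fd.inv_eq hx0
          have : a * b = (x0⁻¹ * (x0 * a) * x0⁻¹⁻¹) * (x0 * b) := by
            rw [inv_inv]
            have h2 : x0 * x0 = 1 := h.fd.sq x0 hx0
            calc a * b = a * (x0 * x0) * b := by rw [h2, mul_one]
              _ = x0⁻¹ * (x0 * a) * x0 * (x0 * b) := by group
          rw [this]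
          exact M.mul_mem (hMn.conj_mem _ ha x0⁻¹) hb
    | inv a _ ha =>
      rcases ha with ha | ha
      · left; exact M.inv_mem ha
      · right
        have h1 := M.inv_mem ha
        have h2 : x0 * a⁻¹ = x0 * (x0 * a)⁻¹ * x0⁻¹ * (x0 * x0) := by
          have h3 := h.fd.inv_eq hx0
          rw [mul_inv_rev, h3]
          have h4 := h.fd.sq x0 hx0
          calc x0 * a⁻¹ = x0 * a⁻¹ * (x0 * x0) * (x0 * x0) := by rw [h4, mul_one, mul_one]
            _ = x0 * (a⁻¹ * x0) * x0 * (x0 * x0) := by group
        rw [h2, h.fd.sq x0 hx0, mul_one]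
        exact hMn.conj_mem _ h1 x0
  rw [commutator_def, Subgroup.commutator_le]
  intro a _ b _
  -- modulo `M` both are powers of `x0`
  have hq : ∀ g : K, (QuotientGroup.mk g : K ⧸ M) = 1 ∨ (QuotientGroup.mk g : K ⧸ M) =
      QuotientGroup.mk x0 := by
    intro g
    rcases hcyc g with hg | hg
    · left; exact (QuotientGroup.eq_one_iff g).2 hg
    · right
      rw [eq_comm, QuotientGroup.eq, h.fd.inv_eq hx0]
      exact hg
  rw [← QuotientGroup.eq_one_iff]
  have h1 : (QuotientGroup.mk (⁅a, b⁆) : K ⧸ M) =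
      ⁅(QuotientGroup.mk a : K ⧸ M), (QuotientGroup.mk b : K ⧸ M)⁆ := rfl
  rw [h1, commutatorElement_eq_one_iff_mul_comm]
  rcases hq a with ha | ha <;> rcases hq b with hb | hb <;> rw [ha, hb] <;> simp

/-- **Fischer's hypotheses modulo the centre.** -/
theorem fgroup (h : Nice D) (hthree : Cfsg.IsThreeTranspositionClass
    ((π : K → K ⧸ Subgroup.center K) '' D)) :
    FGroup ((π : K → K ⧸ Subgroup.center K) '' D) where
  cls := hthree
  sol := by
    intro N hN hs
    by_contra hne
    obtain ⟨A, hA, hA1, hA2⟩ := exists_comm_normal hN hs hne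
    have h1 := central_of_comm (nice_quot h) hA hA2
    rw [center_quot h] at h1
    exact hA1 (le_bot_iff.1 h1)
  perf := perf (nice_quot h)

end Cfsg.Agent.H830.NiceQuot
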