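import Mathlib
import Cfsg.Agent.TSp.Basic
import Cfsg.Agent.Fischer480.Transport
import Cfsg.Agent.H830.NiceQuot

set_option autoImplicit false

/-!
# Closed sets of 3-transpositions with good local spaces (helper830)

`LC E` : elementary conditions on the commutation of a set `E` (no member commutes with all the
others, no twins, connected non-commuting graph). If `A` is a closed set of 3-transpositions with
connected commuting graph, all of whose local spaces satisfy `LC`, then the members of `A` form a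
class `Nice` in the group they generate.
-/

namespace Cfsg.Agent.H830.LocalCond

open Cfsg Cfsg.Agent.Fischer480.Defs Cfsg.Agent.SporadicStructure.FischerSpace
open Cfsg.Agent.ThreeTransPolar.Basic Cfsg.Agent.TSp.Basic
open Cfsg.Agent.H830.NiceQuot

universe u

variable {G : Type u} [Group G]

/-- elementary conditions on the commutation of `E` -/
structure LC (E : Set G) : Prop where
  ne : E.Nonempty
  l1 : ∀ y ∈ E, ∃ w ∈ E, ¬ Commute w y
  l2 : ∀ x ∈ E, ∀ y ∈ E, ¬ Commute x y → ∃ w ∈ E, w ≠ x ∧ Commute w x ∧ ¬ Commute w y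
  l3 : ∀ S : Set G, S ⊆ E → S.Nonempty → (∀ x ∈ S, ∀ y ∈ E, ¬ Commute x y → y ∈ S) → S = E
  l4 : ∀ y ∈ E, ∃ w ∈ E, w ≠ y ∧ Commute w y

/-- the members of `A` in the group they generate -/
def DA (A : Set G) : Set ↥(Subgroup.closure A) := {x | (x : G) ∈ A}

theorem mem_DA {A : Set G} {x : ↥(Subgroup.closure A)} : x ∈ DA A ↔ (x : G) ∈ A := Iff.rfl

theorem commute_coe {A : Set G} {x y : ↥(Subgroup.closure A)} :
    Commute x y ↔ Commute (x : G) (y : G) := by
  constructor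
  · intro h; exact congrArg Subtype.val h
  · intro h; exact Subtype.ext h

variable {A : Set G}

theorem cIso_DA : CIso (DA A) A := by
  refine ⟨fun x => (x : G), ⟨fun x hx => hx, fun x _ y _ h => Subtype.ext h, fun x hx => ?_⟩,
    fun x _ y _ => commute_coe⟩
  exact ⟨⟨x, Subgroup.subset_closure hx⟩, hx, rfl⟩

section

variable (hA : TSet A) (hL : ∀ x ∈ A, LC (Loc A x))
include hA hL

omit hA in
/-- the non-commuting graph is connected -/
theorem nc_conn {S : Set G} (hS : S ⊆ A) (hne : S.Nonempty)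
    (hcl : ∀ x ∈ S, ∀ y ∈ A, ¬ Commute x y → y ∈ S) : S = A := by
  by_contra hSA
  obtain ⟨y0, hy0, hy0S⟩ : ∃ y ∈ A, y ∉ S := by
    by_contra hc
    push Not at hc
    exact hSA (Set.Subset.antisymm hS hc)
  -- members of `S` and of `A \ S` commute
  have hcm : ∀ x ∈ S, ∀ y ∈ A, y ∉ S → Commute x y := by
    intro x hx y hy hyS
    by_contra h
    exact hyS (hcl x hx y hy h)
  -- a closed set `T` (closed under non-commuting) not containing everything misses `Loc A x`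
  have key : ∀ T : Set G, T ⊆ A → (∀ x ∈ T, ∀ y ∈ A, ¬ Commute x y → y ∈ T) →
      ∀ x ∈ T, ∀ y ∈ A, y ∉ T → ∀ w ∈ Loc A x, w ∉ T := by
    intro T hT hTcl x hx y hy hyT w hw hwT
    have hxy : Commute x y := by
      by_contra h
      exact hyT (hTcl x hx y hy h)
    have h1 := (hL x (hT hx)).l3 {z | z ∈ Loc A x ∧ z ∉ T} (fun z hz => hz.1)
      ⟨y, ⟨hy, fun h => hyT (h ▸ hx), hxy⟩, hyT⟩ (by
        rintro a ⟨ha, haT⟩ b hb hab
        refine ⟨hb, fun hbT => ?_⟩
        exact haT (hTcl b hbT a ha.1 (fun h => hab h.symm)))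
    rw [← h1] at hw
    exact hw.2 hwT
  obtain ⟨x0, hx0⟩ := hne
  have hy0L : y0 ∈ Loc A x0 := ⟨hy0, fun h => hy0S (h ▸ hx0), hcm x0 hx0 y0 hy0 hy0S⟩
  obtain ⟨w, hw, hwy, hwc⟩ := (hL x0 (hS hx0)).l4 y0 hy0L
  have hwS : w ∉ S := key S hS hcl x0 hx0 y0 hy0 hy0S w hw
  -- the complement
  have h2 := key {z | z ∈ A ∧ z ∉ S} (fun z hz => hz.1) (by
      rintro a ⟨ha, haS⟩ b hb hab
      refine ⟨hb, fun hbS => ?_⟩
      exact haS (hcl b hbS a ha (fun h => hab h.symm)))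
    y0 ⟨hy0, hy0S⟩ x0 (hS hx0) (fun h => h.2 hx0) w ⟨hw.1, hwy, hwc.symm⟩
  exact h2 ⟨hw.1, hwS⟩

/-- two different commuting members have a common non-commuting one -/
theorem exists_s4 {x y : G} (hx : x ∈ A) (hy : y ∈ A) (hne : x ≠ y) (hxy : Commute x y) :
    ∃ c ∈ A, ¬ Commute c x ∧ ¬ Commute c y := by
  have h1 := nc_conn hL (S := {z | z ∈ A ∧ (z = x ∨ ¬ Commute x z ∨
      ∃ c ∈ A, ¬ Commute c x ∧ ¬ Commute c z)}) (fun z hz => hz.1) ⟨x, hx, Or.inl rfl⟩ (by
    rintro a ⟨ha, hcase⟩ z hz haz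
    refine ⟨hz, ?_⟩
    rcases hcase with rfl | h | ⟨c, hc, hcx, hca⟩
    · exact Or.inr (Or.inl haz)
    · exact Or.inr (Or.inr ⟨a, ha, fun h' => h h'.symm, haz⟩)
    · by_cases hcz : Commute c z
      · by_cases hax : Commute a x
        · -- `x - c - a - z`, `c ⟂ z`, `a ⟂ x`
          refine Or.inr (Or.inr ⟨cj c a, hA.closed c hc a ha, ?_, ?_⟩)
          · -- `cj c a = cj a c`
            rw [hA.braid c hc a ha hca]
            intro h
            rw [hA.commute_cj_left' ha, cj_of_commute hax] at h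
            exact hcx h
          · intro h
            rw [hA.commute_cj_left' hc, cj_of_commute hcz] at h
            exact haz h
        · exact Or.inr (Or.inr ⟨a, ha, hax, haz⟩)
      · exact Or.inr (Or.inr ⟨c, hc, hcx, hcz⟩))
  have h2 : y ∈ {z | z ∈ A ∧ (z = x ∨ ¬ Commute x z ∨ ∃ c ∈ A, ¬ Commute c x ∧ ¬ Commute c z)} := by
    rw [h1]; exact hy
  rcases h2.2 with h | h | h
  · exact absurd h.symm hne
  · exact absurd hxy h
  · exact h

/-- conjugacy in the group generated by `A` -/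
theorem single {x y : G} (hx : x ∈ A) (hy : y ∈ A) : ∃ g ∈ Subgroup.closure A, g * x * g⁻¹ = y := by
  have h1 := nc_conn hL (S := {z | z ∈ A ∧ ∃ g ∈ Subgroup.closure A, g * x * g⁻¹ = z})
    (fun z hz => hz.1) ⟨x, hx, 1, Subgroup.one_mem _, by group⟩ (by
    rintro a ⟨ha, g, hg, hga⟩ z hz haz
    refine ⟨hz, cj a z * g, Subgroup.mul_mem _ ?_ hg, ?_⟩
    · rw [cj_def]
      exact Subgroup.mul_mem _ (Subgroup.mul_mem _ (Subgroup.subset_closure ha)
        (Subgroup.subset_closure hz)) (Subgroup.inv_mem _ (Subgroup.subset_closure ha))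
    · have h2 : cj (cj a z) a = z := hA.cj_third ha hz haz
      have h3 : cj a z * g * x * (cj a z * g)⁻¹ = cj (cj a z) (g * x * g⁻¹) := by
        rw [cj_def (cj a z)]; group
      rw [h3, hga, h2])
  have h2 : y ∈ {z | z ∈ A ∧ ∃ g ∈ Subgroup.closure A, g * x * g⁻¹ = z} := by rw [h1]; exact hy
  exact h2.2

omit hL in
theorem conj_mem_aux {g : G} (hg : g ∈ Subgroup.closure A) :
    (∀ x ∈ A, g * x * g⁻¹ ∈ A) ∧ ∀ x ∈ A, g⁻¹ * x * g ∈ A := by
  induction hg using Subgroup.closure_induction with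
  | mem a ha =>
    have h1 : ∀ x ∈ A, a * x * a⁻¹ ∈ A := fun x hx => hA.closed a ha x hx
    refine ⟨h1, fun x hx => ?_⟩
    have h2 := h1 x hx
    rwa [hA.inv_eq ha] at h2 ⊢
  | one => exact ⟨fun x hx => by simpa using hx, fun x hx => by simpa using hx⟩
  | mul a b _ _ ha hb =>
    refine ⟨fun x hx => ?_, fun x hx => ?_⟩
    · have h1 : a * b * x * (a * b)⁻¹ = a * (b * x * b⁻¹) * a⁻¹ := by group
      rw [h1]
      exact ha.1 _ (hb.1 _ hx)
    · have h1 : (a * b)⁻¹ * x * (a * b) = b⁻¹ * (a⁻¹ * x * a) * b := by group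
      rw [h1]
      exact hb.2 _ (ha.2 _ hx)
  | inv a _ ha =>
    refine ⟨fun x hx => ?_, fun x hx => ?_⟩
    · rw [inv_inv]; exact ha.2 x hx
    · rw [inv_inv]; exact ha.1 x hx

omit hL in
theorem conj_mem {g x : G} (hg : g ∈ Subgroup.closure A) (hx : x ∈ A) : g * x * g⁻¹ ∈ A :=
  (conj_mem_aux hA hg).1 x hx

omit hA hL in
theorem closure_DA : Subgroup.closure (DA A) = ⊤ := Subgroup.closure_closure_coe_preimage

theorem fdata (hne : A.Nonempty) : FData (DA A) where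
  sq := fun x hx => Subtype.ext (hA.sq x hx)
  ne_one := fun x hx h => hA.ne_one x hx (congrArg Subtype.val h)
  conj := fun g x hx => conj_mem hA g.2 hx
  braid := by
    intro x hx y hy hxy
    have h1 : ¬ Commute (x : G) (y : G) := fun h => hxy (commute_coe.2 h)
    have h2 := hA.braid x hx y hy h1
    rw [hA.cj_eq hx, hA.cj_eq hy] at h2
    exact Subtype.ext h2
  single := by
    intro x hx y hy
    obtain ⟨g, hg, h⟩ := single hA hL hx hy
    exact ⟨⟨g, hg⟩, Subtype.ext h⟩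
  gen := closure_DA
  nonempty := by
    obtain ⟨x, hx⟩ := hne
    exact ⟨⟨x, Subgroup.subset_closure hx⟩, hx⟩

omit hA in
theorem t2 {x y : G} (hx : x ∈ A) (hy : y ∈ A) (hne : x ≠ y) (hxy : Commute x y) :
    ∃ w ∈ A, Commute w x ∧ ¬ Commute w y := by
  obtain ⟨w, hw, h⟩ := (hL x hx).l1 y ⟨hy, hne.symm, hxy⟩
  exact ⟨w, hw.1, hw.2.2.symm, h⟩

omit hA in
theorem t3 {x y : G} (hx : x ∈ A) (hy : y ∈ A) (hxy : ¬ Commute x y) :
    ∃ w ∈ A, w ≠ x ∧ Commute w x ∧ ¬ Commute w y := by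
  by_contra hcon
  push Not at hcon
  obtain ⟨w, hw⟩ := (hL x hx).ne
  have hwy : Commute w y := hcon w hw.1 hw.2.1 hw.2.2.symm
  have hxw : x ∈ Loc A w := ⟨hx, fun h => hw.2.1 h.symm, hw.2.2.symm⟩
  have hyw : y ∈ Loc A w := ⟨hy, fun h => hxy (h ▸ hw.2.2), hwy⟩
  obtain ⟨v, hv, hvx, h1, h2⟩ := (hL w hw.1).l2 x hxw y hyw hxy
  exact h2 (hcon v hv.1 hvx h1)

/-- **The class `DA A` is `Nice`.** -/
theorem nice (hne : A.Nonempty)
    (hconn : ∀ S : Set G, S ⊆ A → S.Nonempty → (∀ x ∈ S, ∀ y ∈ A, Commute x y → y ∈ S) → S = A) :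
    Nice (DA A) where
  fd := fdata hA hL hne
  t2 := by
    intro x hx y hy h hc
    obtain ⟨w, hw, h1, h2⟩ := t2 hL hx hy (fun e => h (Subtype.ext e)) (commute_coe.1 hc)
    exact ⟨⟨w, Subgroup.subset_closure hw⟩, hw, commute_coe.2 h1, fun h3 => h2 (commute_coe.1 h3)⟩
  t3 := by
    intro x hx y hy h
    obtain ⟨w, hw, h0, h1, h2⟩ := t3 hL hx hy (fun e => h (commute_coe.2 e))
    exact ⟨⟨w, Subgroup.subset_closure hw⟩, hw, fun e => h0 (congrArg Subtype.val e),
      commute_coe.2 h1, fun h3 => h2 (commute_coe.1 h3)⟩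
  s4 := by
    intro x hx y hy h hc
    obtain ⟨w, hw, h1, h2⟩ := exists_s4 hA hL hx hy (fun e => h (Subtype.ext e)) (commute_coe.1 hc)
    exact ⟨⟨w, Subgroup.subset_closure hw⟩, hw, fun h3 => h1 (commute_coe.1 h3),
      fun h3 => h2 (commute_coe.1 h3)⟩
  conn := by
    intro S hS hSne hcl
    have h1 : Subtype.val '' S = A := by
      apply hconn
      · rintro _ ⟨x, hx, rfl⟩
        exact hS hx
      · exact hSne.image _
      · rintro _ ⟨x, hx, rfl⟩ y hy hc
        exact ⟨⟨y, Subgroup.subset_closure hy⟩, hcl x hx _ hy (commute_coe.2 hc), rfl⟩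
    apply Set.Subset.antisymm hS
    intro x hx
    have h2 : (x : G) ∈ Subtype.val '' S := by rw [h1]; exact hx
    obtain ⟨z, hz, hzx⟩ := h2
    rwa [Subtype.ext hzx] at hz
  nc := by
    obtain ⟨x, hx⟩ := hne
    obtain ⟨y, hy⟩ := (hL x hx).ne
    obtain ⟨w, hw, hwy⟩ := (hL x hx).l1 y hy
    exact ⟨⟨w, Subgroup.subset_closure hw.1⟩, hw.1, ⟨y, Subgroup.subset_closure hy.1⟩, hy.1,
      fun h => hwy (commute_coe.1 h)⟩

end

/-! ### Components of the commuting graph -/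

/-- the component of `x0` in the commuting graph of `A` -/
def Cc (A : Set G) (x0 : G) : Set G :=
  {y | y ∈ A ∧ Relation.ReflTransGen (fun u v => u ∈ A ∧ v ∈ A ∧ Commute u v) x0 y}

theorem Cc_subset (x0 : G) : Cc A x0 ⊆ A := fun _ h => h.1

theorem self_mem_Cc {x0 : G} (h : x0 ∈ A) : x0 ∈ Cc A x0 := ⟨h, Relation.ReflTransGen.refl⟩

theorem Cc_step {x0 x y : G} (hx : x ∈ Cc A x0) (hy : y ∈ A) (h : Commute x y) : y ∈ Cc A x0 :=
  ⟨hy, hx.2.tail ⟨hx.1, hy, h⟩⟩

theorem rel_symm {x y : G}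
    (h : Relation.ReflTransGen (fun u v => u ∈ A ∧ v ∈ A ∧ Commute u v) x y) :
    Relation.ReflTransGen (fun u v => u ∈ A ∧ v ∈ A ∧ Commute u v) y x := by
  induction h with
  | refl => exact Relation.ReflTransGen.refl
  | tail _ hbc ih => exact Relation.ReflTransGen.head ⟨hbc.2.1, hbc.1, hbc.2.2.symm⟩ ih

theorem Cc_eq_of_mem {x0 x : G} (hx : x ∈ Cc A x0) : Cc A x = Cc A x0 := by
  ext y
  constructor
  · rintro ⟨hy, h⟩
    exact ⟨hy, hx.2.trans h⟩
  · rintro ⟨hy, h⟩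
    exact ⟨hy, (rel_symm hx.2).trans h⟩

theorem loc_Cc {x0 x : G} (hx : x ∈ Cc A x0) : Loc (Cc A x0) x = Loc A x := by
  ext y
  constructor
  · rintro ⟨h1, h2, h3⟩
    exact ⟨h1.1, h2, h3⟩
  · rintro ⟨h1, h2, h3⟩
    exact ⟨Cc_step hx h1 h3, h2, h3⟩

theorem Cc_conn (x0 : G) (S : Set G) (hS : S ⊆ Cc A x0) (hne : S.Nonempty)
    (hcl : ∀ x ∈ S, ∀ y ∈ Cc A x0, Commute x y → y ∈ S) : S = Cc A x0 := by
  apply Set.Subset.antisymm hS
  obtain ⟨s, hs⟩ := hne
  intro y hy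
  rw [← Cc_eq_of_mem (hS hs)] at hy
  obtain ⟨hyA, hr⟩ := hy
  induction hr with
  | refl => exact hs
  | tail hab hbc ih =>
    rename_i b c
    have hb : b ∈ S := ih hbc.1
    exact hcl b hb c (Cc_step (hS hb) hbc.2.1 hbc.2.2) hbc.2.2

theorem tset_Cc (hA : TSet A) (x0 : G) : TSet (Cc A x0) where
  sq := fun x hx => hA.sq x hx.1
  ne_one := fun x hx => hA.ne_one x hx.1
  braid := fun x hx y hy h => hA.braid x hx.1 y hy.1 h
  closed := by
    intro x hx y hy
    have h1 : y ∈ Cc A x := by rw [Cc_eq_of_mem hx]; exact hy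
    have h2 : Relation.ReflTransGen (fun u v => u ∈ A ∧ v ∈ A ∧ Commute u v) (cj x x) (cj x y) := by
      have h3 : ∀ v, Relation.ReflTransGen (fun u v => u ∈ A ∧ v ∈ A ∧ Commute u v) x v →
          Relation.ReflTransGen (fun u v => u ∈ A ∧ v ∈ A ∧ Commute u v) (cj x x) (cj x v) := by
        intro v hv
        induction hv with
        | refl => exact Relation.ReflTransGen.refl
        | tail _ hbc ih => exact ih.tail ⟨hA.closed x hx.1 _ hbc.1, hA.closed x hx.1 _ hbc.2.1,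
            commute_cj.2 hbc.2.2⟩
      exact h3 y h1.2
    rw [cj_self] at h2
    exact ⟨hA.closed x hx.1 y hy.1, hx.2.trans h2⟩

end Cfsg.Agent.H830.LocalCond
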