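import Mathlib
import Cfsg.Agent.Fischer919.OmegaIdent
import Cfsg.Agent.Fischer919.OmegaR
import Cfsg.Agent.H830.RCount

set_option autoImplicit false

/-!
# A form of dimension 8 over `F_3` with an orthonormal basis is the form of plus type (helper830)
-/

namespace Cfsg.Agent.H830.PlusForm

open Cfsg Matrix
open Cfsg.Agent.ClassicalGeometry.OddInvolutions
open Cfsg.Agent.LieClassical.OmegaReindex
open Cfsg.Agent.Fischer919.OmegaR
open Cfsg.Agent.Fischer3.Orth3Basic (Form)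
open Cfsg.Agent.H830.RCount
open LinearMap (BilinForm)

theorem exists_gl {n : ℕ} (Q : QuadraticForm (ZMod 3) (Fin n → ZMod 3)) (u : Fin n → Fin n → ZMod 3)
    (h1 : ∀ i, Q (u i) = 1) (h2 : ∀ i j, i ≠ j → QuadraticMap.polar (⇑Q) (u i) (u j) = 0) :
    ∃ P : Matrix.GeneralLinearGroup (Fin n) (ZMod 3), ∀ v : Fin n → ZMod 3,
      Q ((P : Matrix (Fin n) (Fin n) (ZMod 3)) *ᵥ v) = ∑ i, v i * v i := by
  set A : Matrix (Fin n) (Fin n) (ZMod 3) := (Matrix.of u)ᵀ with hA
  have hAv : ∀ v : Fin n → ZMod 3, A *ᵥ v = ∑ i, v i • u i := by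
    intro v
    funext a
    rw [Matrix.mulVec, dotProduct, Finset.sum_apply]
    refine Finset.sum_congr rfl fun i _ => ?_
    rw [Pi.smul_apply, smul_eq_mul, mul_comm]
    rfl
  have hself : ∀ x, QuadraticMap.polar (⇑Q) x x = 2 * Q x := by
    intro x
    rw [QuadraticMap.polar_self, two_nsmul, two_mul]
  have hpol : ∀ (v : Fin n → ZMod 3) (j : Fin n),
      QuadraticMap.polar (⇑Q) (∑ i, v i • u i) (u j) = 2 * v j := by
    intro v j
    have e1 : QuadraticMap.polar (⇑Q) (∑ i, v i • u i) (u j) =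
        ∑ i, v i * QuadraticMap.polar (⇑Q) (u i) (u j) := by
      have : QuadraticMap.polarBilin Q (∑ i, v i • u i) (u j) =
        ∑ i, v i * QuadraticMap.polarBilin Q (u i) (u j) := by
        rw [map_sum, LinearMap.sum_apply]
        refine Finset.sum_congr rfl fun i _ => ?_
        rw [map_smul, LinearMap.smul_apply, smul_eq_mul]
      exact this
    rw [e1, Finset.sum_eq_single j]
    · rw [hself, h1]; ring
    · intro i _ hi
      rw [h2 i j hi, mul_zero]
    · intro h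
      exact absurd (Finset.mem_univ j) h
  have hinj : Function.Injective A.mulVec := by
    intro v w hvw
    funext j
    have e1 := hpol v j
    have e2 := hpol w j
    have e3 : (∑ i, v i • u i) = ∑ i, w i • u i := by
      rw [← hAv, ← hAv]; exact hvw
    rw [e3, e2] at e1
    have h : ∀ a b : ZMod 3, 2 * a = 2 * b → b = a := by decide
    exact h _ _ e1
  have hunit : IsUnit A := Matrix.mulVec_injective_iff_isUnit.1 hinj
  refine ⟨hunit.unit, ?_⟩
  intro v
  have h3 : ((hunit.unit : Matrix.GeneralLinearGroup (Fin n) (ZMod 3)) :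
      Matrix (Fin n) (Fin n) (ZMod 3)) = A := hunit.unit_spec
  rw [h3, hAv]
  have e4 : QuadraticMap.polar (⇑Q) (∑ i, v i • u i) (∑ i, v i • u i) =
      ∑ j, v j * (2 * v j) := by
    have : QuadraticMap.polarBilin Q (∑ i, v i • u i) (∑ j, v j • u j) =
        ∑ j, v j * QuadraticMap.polarBilin Q (∑ i, v i • u i) (u j) := by
      rw [map_sum]
      refine Finset.sum_congr rfl fun j _ => ?_
      rw [map_smul, smul_eq_mul]
    refine Eq.trans this ?_
    refine Finset.sum_congr rfl fun j _ => ?_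
    congr 1
    exact hpol v j
  rw [hself] at e4
  have e5 : ∑ j, v j * (2 * v j) = 2 * ∑ j, v j * v j := by
    rw [Finset.mul_sum]
    refine Finset.sum_congr rfl fun j _ => ?_
    ring
  rw [e5] at e4
  have h : ∀ a b : ZMod 3, 2 * a = 2 * b → a = b := by decide
  exact h _ _ e4

/-- an orthonormal basis of the form of plus type in dimension 8 -/
def uu : Fin 8 → (Fin 4 ⊕ Fin 4) → ZMod 3 :=
  ![Sum.elim ![1, 0, 0, 0] ![1, 0, 0, 0], Sum.elim ![0, 1, 0, 0] ![0, 1, 0, 0],
    Sum.elim ![1, 1, 0, 0] ![-1, -1, 0, 0], Sum.elim ![1, -1, 0, 0] ![-1, 1, 0, 0],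
    Sum.elim ![0, 0, 1, 0] ![0, 0, 1, 0], Sum.elim ![0, 0, 0, 1] ![0, 0, 0, 1],
    Sum.elim ![0, 0, 1, 1] ![0, 0, -1, -1], Sum.elim ![0, 0, 1, -1] ![0, 0, -1, 1]]

theorem uu_norm : ∀ i, quadFormPlus 4 (ZMod 3) (uu i) = 1 := by
  decide

theorem uu_perp : ∀ i j, i ≠ j → QuadraticMap.polar (quadFormPlus 4 (ZMod 3)) (uu i) (uu j) = 0 := by
  decide

theorem ds_one (k : ℕ) : ∀ i, ds k 1 i = 1 := by
  induction k with
  | zero => intro i; fin_cases i; rfl
  | succ k ih =>
    intro i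
    refine Fin.cases ?_ (fun i => ?_) i
    · rfl
    · exact ih i

/-- **`PΩ` of a form with an orthonormal basis of 8 vectors.** -/
theorem equiv_plus {B : BilinForm (ZMod 3) (Fin 8 → ZMod 3)} (F : Form B)
    {u : Fin 8 → Fin 8 → ZMod 3} (hu : OF B (ds 7 1) u) :
    Nonempty (POmega (ZMod 3) (⇑(QB B)) ≃* POmega (ZMod 3) (quadFormPlus 4 (ZMod 3))) := by
  obtain ⟨P, hP⟩ := exists_gl (QB B) u
    (fun i => by
      rw [QB_apply]
      have := hu i i
      rw [if_pos rfl, ds_one] at this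
      exact this)
    (fun i j hij => by
      rw [polar_QB F]
      have := hu i j
      rw [if_neg hij] at this
      rw [this, mul_zero])
  let e : Fin 4 ⊕ Fin 4 ≃ Fin 8 := finSumFinEquiv
  have hcomp : ∀ v : Fin 4 ⊕ Fin 4 → ZMod 3, (v ∘ e.symm) ∘ e = v := fun v => by
    rw [Function.comp_assoc, Equiv.symm_comp_self, Function.comp_id]
  have hQ1 : ∀ v : Fin 4 ⊕ Fin 4 → ZMod 3,
      reindexForm e (quadPlus 4 (ZMod 3)) (v ∘ e.symm) = quadFormPlus 4 (ZMod 3) v := by
    intro v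
    rw [reindexForm_apply, hcomp, coe_quadPlus]
  obtain ⟨P', hP'⟩ := exists_gl (reindexForm e (quadPlus 4 (ZMod 3))) (fun i => uu i ∘ e.symm)
    (fun i => by rw [hQ1]; exact uu_norm i)
    (fun i j hij => by
      have := uu_perp i j hij
      rw [QuadraticMap.polar] at this ⊢
      have hadd : (uu i ∘ e.symm) + (uu j ∘ e.symm) = (uu i + uu j) ∘ e.symm := rfl
      rw [hadd, hQ1, hQ1, hQ1]
      exact this)
  obtain ⟨e1⟩ := pomega_congr (⇑(QB B)) P
  obtain ⟨e2⟩ := pomega_congr (⇑(reindexForm e (quadPlus 4 (ZMod 3)))) P'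
  have hf1 : (fun v => QB B ((P : Matrix (Fin 8) (Fin 8) (ZMod 3)) *ᵥ v)) =
      fun v => ∑ i, v i * v i := funext hP
  have hf2 : (fun v => reindexForm e (quadPlus 4 (ZMod 3))
      ((P' : Matrix (Fin 8) (Fin 8) (ZMod 3)) *ᵥ v)) = fun v => ∑ i, v i * v i := funext hP'
  rw [hf1] at e1
  rw [hf2] at e2
  obtain ⟨e3⟩ := commutator_quot_center_congr
    (isometryGroupReindex e (⇑(quadPlus 4 (ZMod 3))) (⇑(reindexForm e (quadPlus 4 (ZMod 3))))
      (fun v => rfl))
  rw [← coe_quadPlus]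
  exact ⟨e1.symm.trans (e2.trans e3.symm)⟩

end Cfsg.Agent.H830.PlusForm
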