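import Mathlib
import Cfsg.Agent.Fischer919.CentralQuot
import Cfsg.Agent.LieClassical.OrthFinite
import Cfsg.Agent.H830.PlusForm
import Cfsg.Agent.H830.Proj
import Cfsg.Agent.S0480U.PsuOfU

set_option autoImplicit false

/-!
# A Fischer group of type `R 8` with 1080 transpositions has commutator subgroup `PΩ⁺(8, 3)`
(helper830)
-/

namespace Cfsg.Agent.H830.Even

open Cfsg Cfsg.Agent.Fischer480.Defs Cfsg.Agent.SporadicStructure.FischerSpace
open Cfsg.Agent.Fischer919.CentralQuot Cfsg.Agent.Fischer919.OmegaR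
open Cfsg.Agent.H830.RCount
open scoped commutatorElement

/-- **The commutator subgroup of a central quotient of a normal subgroup.** -/
theorem equiv_commutator' {O M : Type*} [Group O] [Group M] (N : Subgroup O) (hN : N.Normal)
    (π : ↥N →* M) (hs : Function.Surjective π) (hk : π.ker ≤ Subgroup.center ↥N)
    (hZ : Subgroup.center ↥(commutator M) = ⊥) (hna : ∃ x y : ↥(commutator M), x * y ≠ y * x)
    (hO : IsSimpleGroup (↥(commutator O) ⧸ Subgroup.center ↥(commutator O))) :
    Nonempty (↥(commutator M) ≃* (↥(commutator O) ⧸ Subgroup.center ↥(commutator O))) := by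
  have hmap : (commutator ↥N).map π = commutator M := by
    rw [_root_.commutator_def, _root_.commutator_def, Subgroup.map_commutator,
      Subgroup.map_top_of_surjective π hs]
  let ψ : ↥(commutator ↥N) →* ↥(commutator M) :=
    (π.comp (commutator ↥N).subtype).codRestrict (commutator M) fun x => by
      rw [← hmap]; exact ⟨x, x.2, rfl⟩
  have hψ : Function.Surjective ψ := by
    rintro ⟨y, hy⟩
    rw [← hmap] at hy
    obtain ⟨x, hx, rfl⟩ := hy
    exact ⟨⟨x, hx⟩, rfl⟩
  have hker : ψ.ker = Subgroup.center ↥(commutator ↥N) := by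
    ext x
    rw [MonoidHom.mem_ker, Subgroup.mem_center_iff]
    constructor
    · intro hx g
      have h1 : (x : ↥N) ∈ π.ker := congrArg Subtype.val hx
      have h2 := Subgroup.mem_center_iff.1 (hk h1)
      exact Subtype.ext (h2 g)
    · intro hx
      have h1 : ψ x ∈ Subgroup.center ↥(commutator M) := by
        rw [Subgroup.mem_center_iff]
        intro g
        obtain ⟨g, rfl⟩ := hψ g
        rw [← map_mul, ← map_mul, hx]
      rw [hZ, Subgroup.mem_bot] at h1
      exact h1
  let e1 : (↥(commutator ↥N) ⧸ Subgroup.center ↥(commutator ↥N)) ≃* ↥(commutator M) :=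
    (QuotientGroup.quotientMulEquivOfEq hker.symm).trans
      (QuotientGroup.quotientKerEquivOfSurjective ψ hψ)
  -- as a subgroup of `O`
  have hP : (commutator ↥N).map N.subtype = ⁅N, N⁆ := by
    rw [_root_.commutator_def, Subgroup.map_commutator]
    congr 1 <;>
    · rw [← MonoidHom.range_eq_map, Subgroup.range_subtype]
  have hle : ⁅N, N⁆ ≤ commutator O := by
    rw [_root_.commutator_def]
    exact Subgroup.commutator_mono le_top le_top
  have hPn : (⁅N, N⁆ : Subgroup O).Normal := Subgroup.commutator_normal N N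
  let e2 : ↥(commutator ↥N) ≃* ↥(⁅N, N⁆ : Subgroup O) :=
    ((commutator ↥N).equivMapOfInjective N.subtype N.subtype_injective).trans
      (MulEquiv.subgroupCongr hP)
  let e3 : ↥((⁅N, N⁆ : Subgroup O).subgroupOf (commutator O)) ≃* ↥(⁅N, N⁆ : Subgroup O) :=
    Subgroup.subgroupOfEquivOfLe hle
  obtain ⟨e4⟩ := equiv_quotient_center (e2.trans e3.symm)
  have h2 : (⁅N, N⁆ : Subgroup O).subgroupOf (commutator O) ⊔
      Subgroup.center ↥(commutator O) = ⊤ := by
    apply sup_center_of_normal hO
    · exact Subgroup.Normal.subgroupOf hPn _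
    · by_contra hcon
      push Not at hcon
      obtain ⟨x, y, hxy⟩ := hna
      obtain ⟨x, rfl⟩ := hψ x
      obtain ⟨y, rfl⟩ := hψ y
      apply hxy
      rw [← map_mul, ← map_mul]
      congr 1
      apply (e2.trans e3.symm).injective
      rw [map_mul, map_mul]
      apply Subtype.ext
      exact hcon _ ((e2.trans e3.symm) x).2 _ ((e2.trans e3.symm) y).2
  obtain ⟨e5⟩ := equiv_of_sup_center _ h2
  exact ⟨e1.symm.trans (e4.trans e5)⟩

variable {K : Type*} [Group K] [Finite K] {D : Set K}

/-- the commutator subgroup of a Fischer group has trivial centre -/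
theorem center_commutator (F : FGroup D) : Subgroup.center ↥(commutator K) = ⊥ := by
  have hn : ((Subgroup.center ↥(commutator K)).map (commutator K).subtype).Normal := by
    constructor
    rintro _ ⟨x, hx, rfl⟩ g
    have hx' := Subgroup.mem_center_iff.1 hx
    have hN : (commutator K).Normal := inferInstance
    refine ⟨⟨g * (x : K) * g⁻¹, hN.conj_mem _ x.2 g⟩, ?_, rfl⟩
    rw [SetLike.mem_coe, Subgroup.mem_center_iff]
    intro y
    apply Subtype.ext
    have h1 : (g⁻¹ * (y : K) * g) ∈ commutator K := by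
      have := hN.conj_mem _ y.2 g⁻¹
      rwa [inv_inv] at this
    have h2 : (g⁻¹ * (y : K) * g) * (x : K) = (x : K) * (g⁻¹ * (y : K) * g) :=
      congrArg Subtype.val (hx' ⟨_, h1⟩)
    show (y : K) * (g * (x : K) * g⁻¹) = g * (x : K) * g⁻¹ * (y : K)
    calc (y : K) * (g * (x : K) * g⁻¹) = g * ((g⁻¹ * (y : K) * g) * (x : K)) * g⁻¹ := by group
      _ = g * ((x : K) * (g⁻¹ * (y : K) * g)) * g⁻¹ := by rw [h2]
      _ = g * (x : K) * g⁻¹ * (y : K) := by group
  have hsol : Group.IsSolvable ↥((Subgroup.center ↥(commutator K)).map (commutator K).subtype) := by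
    apply Group.isSolvable_of_comm
    rintro ⟨_, x, hx, rfl⟩ ⟨_, y, hy, rfl⟩
    apply Subtype.ext
    exact (congrArg Subtype.val ((Subgroup.mem_center_iff.1 hx) y)).symm
  have h := F.sol _ hn hsol
  rw [Subgroup.map_eq_bot_iff_of_injective _ (commutator K).subtype_injective] at h
  exact h

/-- the commutator subgroup of a Fischer group is not abelian -/
theorem ncomm_commutator (F : FGroup D) : ∃ x y : ↥(commutator K), x * y ≠ y * x := by
  by_contra hcon
  push Not at hcon
  have hsol : Group.IsSolvable ↥(commutator K) := Group.isSolvable_of_comm hcon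
  have h1 := F.sol _ inferInstance hsol
  have hFD := fdata_of_class F.cls
  obtain ⟨d, hd, -⟩ := F.cls.2.1
  apply hFD.ne_one d hd
  have hz := Cfsg.Agent.S0480U.PsuOfU.center_eq_bot (Cfsg.Agent.Fischer160.Cases.rk F)
  have h2 : d ∈ Subgroup.center K := by
    rw [Subgroup.mem_center_iff]
    intro g
    have h3 : ⁅g, d⁆ ∈ commutator K :=
      Subgroup.commutator_mem_commutator (Subgroup.mem_top g) (Subgroup.mem_top d)
    rw [h1, Subgroup.mem_bot, commutatorElement_eq_one_iff_mul_comm] at h3
    exact h3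
  rw [hz, Subgroup.mem_bot] at h2
  exact h2

/-- **Type `R 8`** -/
theorem commutator_equiv (F : FGroup D) (hR : IsR 8 D) (hc : D.ncard = 1080) :
    Nonempty (↥(commutator K) ≃* POmega (ZMod 3) (quadFormPlus 4 (ZMod 3))) := by
  obtain ⟨B, f, hsy, hnd, h1, h2, h3, h4⟩ := hR
  have FF := form_of_isR hsy hnd
  obtain ⟨δ, hδ, u, hu⟩ := exists_of FF (by norm_num)
  have hδ0 : δ ≠ 0 := by rcases hδ with h | h <;> rw [h] <;> decide
  have h5 : _ = NS 8 (ds 7 δ) 1 := card_norm_one FF (k := 8) rfl hu (ds_ne 7 hδ0)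
  have h6 := two_mul_ncard h1 h3 h4
  rw [h5] at h6
  have h7 : δ = 1 := by
    rcases NS_eight δ hδ with ⟨h, -⟩ | ⟨-, h⟩
    · exact h
    · exfalso
      omega
  subst h7
  have hFD := fdata_of_class F.cls
  obtain ⟨e, -⟩ := exists_equiv_Gam FF hFD (by norm_num) h1 h2 h3 h4
  have hz := Cfsg.Agent.S0480U.PsuOfU.center_eq_bot (Cfsg.Agent.Fischer160.Cases.rk F)
  let e0 : (K ⧸ Subgroup.center K) ≃* K :=
    (QuotientGroup.quotientMulEquivOfEq hz).trans QuotientGroup.quotientBot
  let π : ↥(Gam B) →* K := (e0 : (K ⧸ Subgroup.center K) →* K).comp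
    ((e.symm : (↥(Gam B) ⧸ Subgroup.center ↥(Gam B)) →* (K ⧸ Subgroup.center K)).comp
      (QuotientGroup.mk' (Subgroup.center ↥(Gam B))))
  have hπs : Function.Surjective π :=
    e0.surjective.comp (e.symm.surjective.comp (QuotientGroup.mk'_surjective _))
  have hπk : π.ker ≤ Subgroup.center ↥(Gam B) := by
    intro x hx
    have hx' : e0 (e.symm (QuotientGroup.mk' (Subgroup.center ↥(Gam B)) x)) = 1 := hx
    rw [MulEquiv.map_eq_one_iff, MulEquiv.map_eq_one_iff] at hx'
    exact (QuotientGroup.eq_one_iff x).1 hx'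
  have hsep : ∀ x, (∀ y, QuadraticMap.polar (⇑(QB B)) x y = 0) → x = 0 := by
    intro x hx
    apply FF.nondeg
    intro y
    have h5 := hx y
    rw [polar_QB FF] at h5
    have h6 : ∀ a : ZMod 3, 2 * a = 0 → a = 0 := by decide
    exact h6 _ h5
  have hs2 : IsSimpleGroup (POmega (ZMod 3) (⇑(QB B))) := by
    apply Cfsg.Agent.LieClassical.OrthFinite.isSimpleGroup_POmega hsep
    rw [Fintype.card_fin]
    omega
  obtain ⟨e1⟩ := equiv_commutator' (Gam B) Gam_normal π hπs hπk (center_commutator F)
    (ncomm_commutator F) hs2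
  obtain ⟨e2⟩ := Cfsg.Agent.H830.PlusForm.equiv_plus FF hu
  exact ⟨e1.trans e2⟩

end Cfsg.Agent.H830.Even
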