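import Mathlib
import Cfsg.Agent.H830.LocalCond

set_option autoImplicit false

/-!
# The action on three components of the commuting graph (helper830)
-/

namespace Cfsg.Agent.H830.TriAct

open Cfsg Cfsg.Agent.Fischer480.Defs Cfsg.Agent.ThreeTransPolar.Basic Cfsg.Agent.TSp.Basic
open Cfsg.Agent.H830.LocalCond

universe u

/-- the subgroups of `S_3` containing the three transpositions -/
theorem perm_three (H : Subgroup (Equiv.Perm (Fin 3)))
    (h : ∀ i, ∃ σ ∈ H, σ i = i ∧ ∀ j, j ≠ i → σ j ≠ j) : H = ⊤ := by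
  have h1 : ∀ (i : Fin 3) (σ : Equiv.Perm (Fin 3)), σ i = i → (∀ j, j ≠ i → σ j ≠ j) →
      σ = Equiv.swap (i + 1) (i + 2) := by decide
  have h2 : ∀ i : Fin 3, Equiv.swap (i + 1) (i + 2) ∈ H := by
    intro i
    obtain ⟨σ, hσ, h3, h4⟩ := h i
    rw [← h1 i σ h3 h4]
    exact hσ
  have h3 : ∀ τ : Equiv.Perm (Fin 3), τ = 1 ∨ (∃ i : Fin 3, τ = Equiv.swap (i + 1) (i + 2)) ∨
      ∃ i j : Fin 3, τ = Equiv.swap (i + 1) (i + 2) * Equiv.swap (j + 1) (j + 2) := by decide
  rw [eq_top_iff]
  intro τ _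
  rcases h3 τ with rfl | ⟨i, rfl⟩ | ⟨i, j, rfl⟩
  · exact one_mem _
  · exact h2 i
  · exact mul_mem (h2 i) (h2 j)

variable {G : Type u} [Group G] {E : Set G}

theorem cj_mem_E (hE : TSet E) {g : G} (hg : g ∈ Subgroup.closure E) {y : G} (hy : y ∈ E) :
    cj g y ∈ E := conj_mem hE hg hy

/-- conjugation permutes the components -/
theorem cj_Cc (hE : TSet E) {g : G} (hg : g ∈ Subgroup.closure E) {y z : G} (hy : y ∈ Cc E z) :
    cj g y ∈ Cc E (cj g z) := by
  obtain ⟨h1, h2⟩ := hy
  refine ⟨cj_mem_E hE hg h1, ?_⟩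
  induction h2 with
  | refl => exact Relation.ReflTransGen.refl
  | tail _ hbc ih =>
    exact (ih hbc.1).tail ⟨cj_mem_E hE hg hbc.1, cj_mem_E hE hg hbc.2.1, commute_cj.2 hbc.2.2⟩

/-- three components with representatives `x` -/
structure Three (E : Set G) (x : Fin 3 → G) : Prop where
  ts : TSet E
  mem : ∀ i, x i ∈ E
  ne : ∀ i j, i ≠ j → x j ∉ Cc E (x i)
  all : ∀ y ∈ E, ∃ i, y ∈ Cc E (x i)

variable {x : Fin 3 → G} (T : Three E x)

open Classical in
/-- the index of the component -/
noncomputable def idx (E : Set G) (x : Fin 3 → G) (y : G) : Fin 3 :=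
  if h : ∃ i, y ∈ Cc E (x i) then h.choose else 0

include T

theorem idx_mem {y : G} (hy : y ∈ E) : y ∈ Cc E (x (idx E x y)) := by
  have h := T.all y hy
  unfold idx
  rw [dif_pos h]
  exact h.choose_spec

theorem idx_eq {y : G} {i : Fin 3} (hy : y ∈ Cc E (x i)) : idx E x y = i := by
  by_contra hne
  have h1 := idx_mem T hy.1
  apply T.ne _ _ hne
  rw [← Cc_eq_of_mem h1, Cc_eq_of_mem hy]
  exact self_mem_Cc (T.mem i)

theorem idx_self (i : Fin 3) : idx E x (x i) = i := idx_eq T (self_mem_Cc (T.mem i))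

theorem idx_congr {y z : G} (hz : z ∈ E) (hy : y ∈ Cc E z) : idx E x y = idx E x z := by
  apply idx_eq T
  rw [← Cc_eq_of_mem (idx_mem T hz)]
  exact hy

theorem not_commute {i j : Fin 3} (hij : i ≠ j) {u v : G} (hu : u ∈ Cc E (x i))
    (hv : v ∈ Cc E (x j)) : ¬ Commute u v := by
  intro h
  have h1 : v ∈ Cc E (x i) := Cc_step hu hv.1 h
  have h2 := idx_eq T h1
  have h3 := idx_eq T hv
  exact hij (h2.symm.trans h3)

/-- the action on the components -/
noncomputable def rho : ↥(Subgroup.closure E) →* Equiv.Perm (Fin 3) :=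
  MonoidHom.toHomPerm
    { toFun := fun g => (fun i => idx E x (cj (g : G) (x i)) : Function.End (Fin 3))
      map_one' := by
        funext i
        show idx E x (cj ((1 : ↥(Subgroup.closure E)) : G) (x i)) = i
        rw [Subgroup.coe_one, cj_one]
        exact idx_self T i
      map_mul' := fun g h => by
        funext i
        show idx E x (cj ((g * h : ↥(Subgroup.closure E)) : G) (x i)) =
          idx E x (cj (g : G) (x (idx E x (cj (h : G) (x i)))))
        rw [Subgroup.coe_mul, cj_mul]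
        apply idx_congr T (cj_mem_E T.ts g.2 (T.mem _))
        apply cj_Cc T.ts g.2
        exact idx_mem T (cj_mem_E T.ts h.2 (T.mem _)) }

theorem rho_apply (g : ↥(Subgroup.closure E)) (i : Fin 3) :
    rho T g i = idx E x (cj (g : G) (x i)) := rfl

/-- a member of `E` fixes its component and moves the other two -/
theorem rho_mem {e : G} (he : e ∈ E) : rho T ⟨e, Subgroup.subset_closure he⟩ (idx E x e) = idx E x e ∧
    ∀ j, j ≠ idx E x e → rho T ⟨e, Subgroup.subset_closure he⟩ j ≠ j := by
  have hecl : e ∈ Subgroup.closure E := Subgroup.subset_closure he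
  have hei := idx_mem T he
  constructor
  · rw [rho_apply]
    show idx E x (cj e (x (idx E x e))) = idx E x e
    have h1 : x (idx E x e) ∈ Cc E e := by
      rw [Cc_eq_of_mem hei]; exact self_mem_Cc (T.mem _)
    have h2 := cj_Cc T.ts hecl h1
    rw [cj_self] at h2
    exact idx_congr T he h2
  · intro j hj h
    rw [rho_apply] at h
    have h0 : idx E x (cj e (x j)) = j := h
    have hnc : ¬ Commute e (x j) := not_commute T hj.symm hei (self_mem_Cc (T.mem j))
    have hcE := cj_mem_E T.ts hecl (T.mem j)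
    have h1 : cj e (x j) ∈ Cc E (x j) := by
      have := idx_mem T hcE
      rwa [h0] at this
    have hb := T.ts.braid e he (x j) (T.mem j) hnc
    -- `cj e (x j) = cj (x j) e`
    have hjcl : x j ∈ Subgroup.closure E := Subgroup.subset_closure (T.mem j)
    rw [hb] at h1
    have h2 := cj_Cc T.ts hjcl h1
    rw [← cj_mul, T.ts.sq _ (T.mem j), cj_one, cj_self] at h2
    have h3 := idx_eq T h2
    exact hj h3.symm

theorem rho_surjective : Function.Surjective (rho T) := by
  rw [← MonoidHom.range_eq_top]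
  apply perm_three
  intro i
  refine ⟨_, ⟨⟨x i, Subgroup.subset_closure (T.mem i)⟩, rfl⟩, ?_⟩
  have := rho_mem T (T.mem i)
  rw [idx_self T i] at this
  exact this

/-- the members of the first component fix the first component -/
theorem rho_of_closure {g : G} (hg : g ∈ Subgroup.closure (Cc E (x 0)))
    (hg' : g ∈ Subgroup.closure E) : rho T ⟨g, hg'⟩ 0 = 0 := by
  rw [rho_apply]
  show idx E x (cj g (x 0)) = 0
  apply idx_eq T
  have h1 : TSet (Cc E (x 0)) := tset_Cc T.ts (x 0)
  exact conj_mem h1 hg (self_mem_Cc (T.mem 0))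

end Cfsg.Agent.H830.TriAct
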