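import Mathlib
import Cfsg.Agent.H830.Proj
import Cfsg.Agent.H830.ComUp
import Cfsg.Agent.TSp.OrdersT
import Cfsg.Agent.S0480U.PsuOfU

set_option autoImplicit false

/-!
# Fischer groups of type `T6`, `T7` are of type M(22), M(23) (helper830)

`isOfTypeM22 : FGroup D → IsT6 D → IsOfTypeM22 G D`,
`isOfTypeM23 : FGroup D → IsT7 D → IsOfTypeM23 G D`.
-/

namespace Cfsg.Agent.H830.TypeConv

open Cfsg Cfsg.Agent.SporadicStructure.FischerSpace Cfsg.Agent.Fischer480
open Cfsg.Agent.Fischer480.Defs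
open Cfsg.Agent.ThreeTransPolar.Basic Cfsg.Agent.TSp.Basic Cfsg.Agent.TSp.OrdersT
open Cfsg.Agent.TSp.Orders Cfsg.Agent.TSp.CL
open Cfsg.Agent.Fischer160.Inherit hiding FGroup
open Cfsg.Agent.H830.NiceQuot Cfsg.Agent.H830.LocalCond Cfsg.Agent.H830.ComUp
open Cfsg.Agent.H830.Proj

universe u

variable {G : Type u} [Group G] {D : Set G}

theorem defs_of_inh (F : Cfsg.Agent.Fischer160.Inherit.FGroup D) :
    Cfsg.Agent.Fischer480.Defs.FGroup D :=
  ⟨isThree_of_fdata F.fd, F.sol, F.perf⟩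

/-- the set of the definition -/
theorem inter_eq_com {d c : G} (h : ¬ Commute d c) :
    ({y : G | y ∈ D ∧ y ≠ d ∧ Commute d y} ∩ {y : G | y ∈ D ∧ y ≠ c ∧ Commute c y}) = Com D d c := by
  ext z
  constructor
  · rintro ⟨⟨h1, h2, h3⟩, -, -, h4⟩
    exact ⟨h1, h3, h4⟩
  · rintro ⟨h1, h3, h4⟩
    refine ⟨⟨h1, ?_, h3⟩, h1, ?_, h4⟩
    · rintro rfl
      exact h h4.symm
    · rintro rfl
      exact h h3

/-- two non-commuting members -/
theorem exists_ncomm [Finite G] (F : Cfsg.Agent.Fischer480.Defs.FGroup D) :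
    ∃ d ∈ D, ∃ c ∈ D, ¬ Commute d c := by
  by_contra hcon
  push Not at hcon
  have hFD := fdata_of_class F.cls
  obtain ⟨d, hd, -⟩ := F.cls.2.1
  apply hFD.ne_one d hd
  have hz := Cfsg.Agent.S0480U.PsuOfU.center_eq_bot (Cfsg.Agent.Fischer160.Cases.rk F)
  have h1 : d ∈ Subgroup.center G := by
    rw [Subgroup.mem_center_iff]
    intro g
    have hg : g ∈ Subgroup.closure D := by rw [hFD.gen]; trivial
    have h2 : Subgroup.closure D ≤ Subgroup.centralizer ({d} : Set G) := by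
      rw [Subgroup.closure_le]
      intro c hc
      rw [SetLike.mem_coe, Subgroup.mem_centralizer_singleton_iff]
      exact (hcon c hc d hd).eq
    exact Subgroup.mem_centralizer_singleton_iff.1 (h2 hg)
  rw [hz, Subgroup.mem_bot] at h1
  exact h1

theorem proj_com [Finite G] {n : ℕ} {μ : ZMod 3} {d c : G} (hdc : ¬ Commute d c)
    (h : IsProjReflectionGroupModThree
      (↥(Subgroup.closure (Com D d c)) ⧸ Subgroup.center ↥(Subgroup.closure (Com D d c))) n μ 1) :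
    IsProjReflectionGroupModThree
      (↥(Subgroup.closure ({y : G | y ∈ D ∧ y ≠ d ∧ Commute d y} ∩ {y : G | y ∈ D ∧ y ≠ c ∧ Commute c y})) ⧸
        Subgroup.center ↥(Subgroup.closure ({y : G | y ∈ D ∧ y ≠ d ∧ Commute d y} ∩
          {y : G | y ∈ D ∧ y ≠ c ∧ Commute c y}))) n μ 1 := by
  have key : ∀ S : Set G, S = Com D d c → IsProjReflectionGroupModThree
      (↥(Subgroup.closure S) ⧸ Subgroup.center ↥(Subgroup.closure S)) n μ 1 := by
    rintro _ rfl
    exact h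
  exact key _ (inter_eq_com hdc)

/-- **Type `T6` is type M(22).** -/
theorem isOfTypeM22_of [Finite G] (F : Cfsg.Agent.Fischer480.Defs.FGroup D) (h : IsT6 D) {d c : G}
    (hd : d ∈ D) (hc : c ∈ D) (hdc : ¬ Commute d c) : IsOfTypeM22 G D := by
  have FI := inh F
  have hT := Cfsg.Agent.TSp.Basic.tset_of_fdata FI.fd
  refine ⟨Cfsg.Agent.S0480U.PsuOfU.center_eq_bot (Cfsg.Agent.Fischer160.Cases.rk F), d, hd, c, hc,
    hdc, ?_, 1, by decide, ?_⟩
  · have h6 := n6_of_isT6 h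
    have hE := defs_of_inh (inherit_N6 FI h6 hd)
    have hU : IsU 6 (Eb D d) :=
      Transport.isU (Transport.CIso.symm (cIso_Eb FI.fd (thin_N6 h6) hd)) (h.2.1 d hd)
    exact Cfsg.Agent.S0480U.PsuOfU.psu_of_isU hE (by norm_num) hU
  · apply proj_com hdc
    obtain ⟨h1, h2⟩ := com_six_nice hT h hd hc hdc
    apply proj_six h2.fd (Transport.isR (cIso_DA (A := Com D d c)) h1)
    rw [Transport.ncard_eq (cIso_DA (A := Com D d c))]
    exact h.2.2 d hd c hc hdc

theorem isOfTypeM22 [Finite G] (F : Cfsg.Agent.Fischer480.Defs.FGroup D) (h : IsT6 D) :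
    IsOfTypeM22 G D := by
  obtain ⟨d, hd, c, hc, hdc⟩ := exists_ncomm F
  exact isOfTypeM22_of F h hd hc hdc

/-- **Type `T7` is type M(23).** -/
theorem isOfTypeM23 [Finite G] (F : Cfsg.Agent.Fischer480.Defs.FGroup D) (h : IsT7 D) :
    IsOfTypeM23 G D := by
  obtain ⟨d, hd, c, hc, hdc⟩ := exists_ncomm F
  have FI := inh F
  have hT := Cfsg.Agent.TSp.Basic.tset_of_fdata FI.fd
  refine ⟨Cfsg.Agent.S0480U.PsuOfU.center_eq_bot (Cfsg.Agent.Fischer160.Cases.rk F), d, hd, c, hc,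
    hdc, ?_, 1, by decide, ?_⟩
  · have h7 := n7_of_isT7 h
    have hE := defs_of_inh (inherit_N7 FI h7 hd)
    have h6 : IsT6 (Eb D d) :=
      Transport.isT6 (Transport.CIso.symm (cIso_Eb FI.fd (thin_N7 h7) hd)) (h.2.1 d hd)
    exact isOfTypeM22 hE h6
  · apply proj_com hdc
    obtain ⟨h1, h2⟩ := com_seven_nice hT h hd hc hdc
    apply proj_seven h2.fd (Transport.isR (cIso_DA (A := Com D d c)) h1)
    rw [Transport.ncard_eq (cIso_DA (A := Com D d c))]
    exact h.2.2 d hd c hc hdc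

end Cfsg.Agent.H830.TypeConv
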