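import Mathlib
import Cfsg.Agent.H830.TypeConv
import Cfsg.Agent.R01.Fi22Facts
import Cfsg.Agent.R01.IsLabel
import Cfsg.Agent.S0480U.CaseD

set_option autoImplicit false

/-!
# The presented `Fi22` satisfies `FGroup`, `IsT6`, and is of type M(22) (helper830)
-/

namespace Cfsg.Agent.H830.Con22

open Cfsg Cfsg.Agent.Fischer480.Defs Cfsg.Agent.R01
open Cfsg.Agent.R01.Loc Cfsg.Agent.R01.IsLabel

open scoped commutatorElement

/-- the Fischer hypotheses hold in a non-abelian simple group -/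
theorem fgroup_of_simple {G : Type*} [Group G] (hs : IsSimpleGroup G)
    (hna : ∃ x y : G, x * y ≠ y * x) {D : Set G} (hD : Cfsg.IsThreeTranspositionClass D) :
    FGroup D := by
  have hc : commutator G = ⊤ := by
    rcases hs.eq_bot_or_eq_top_of_normal (commutator G) inferInstance with h | h
    · exfalso
      obtain ⟨x, y, hxy⟩ := hna
      apply hxy
      have h1 : ⁅x, y⁆ ∈ commutator G :=
        Subgroup.commutator_mem_commutator (Subgroup.mem_top x) (Subgroup.mem_top y)
      rw [h, Subgroup.mem_bot, commutatorElement_eq_one_iff_mul_comm] at h1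
      exact h1
    · exact h
  refine ⟨hD, ?_, ?_⟩
  · intro N hN hsol
    rcases hs.eq_bot_or_eq_top_of_normal N hN with h | h
    · exact h
    · exfalso
      subst h
      have h2 : Group.IsSolvable G := by
        have := hsol
        exact Group.isSolvable_of_surjective (f := (⊤ : Subgroup G).subtype)
          (fun g => ⟨⟨g, Subgroup.mem_top g⟩, rfl⟩)
      obtain ⟨n, hn⟩ := h2
      have h4 : ∀ k, derivedSeries G k = ⊤ := by
        intro k
        induction k with
        | zero => rfl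
        | succ k ih => rw [derivedSeries_succ, ih]; exact hc
      rw [h4 n] at hn
      obtain ⟨x, y, hxy⟩ := hna
      have h5 : ∀ g : G, g = 1 := fun g => by
        have : g ∈ (⊤ : Subgroup G) := Subgroup.mem_top g
        rw [hn, Subgroup.mem_bot] at this
        exact this
      exact hxy (by rw [h5 x, h5 y])
  · rw [hc]
    exact hc

/-- **The neighbours of a transposition are the isotropic points of the unitary space.** -/
theorem isU_of_locAt {F : Type} [Field F] [Fintype F] {hF : Fintype.card F = 2 ^ 2} {G : Type*}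
    [Group G] {T : Set G} {d : G} (h : LocAt hF T d) : IsU 6 (Loc T d) := by
  classical
  obtain ⟨τ, hτ⟩ := exists_label h
  have hex : ∀ a ∈ Loc T d, ∃ v, v ≠ 0 ∧ hermForm 6 F 2 v v = 0 ∧ τ v = a :=
    fun a ha => hτ.surj a ha.1 ha.2.1 ha.2.2.symm
  let f : G → Fin 6 → F := fun a => if h : a ∈ Loc T d then (hex a h).choose else 0
  have hf : ∀ a ∈ Loc T d, f a ≠ 0 ∧ hermForm 6 F 2 (f a) (f a) = 0 ∧ τ (f a) = a := by
    intro a ha
    have : f a = (hex a ha).choose := dif_pos ha
    rw [this]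
    exact (hex a ha).choose_spec
  refine ⟨F, inferInstance, inferInstance, f, hF, fun x hx => (hf x hx).1, fun x hx => (hf x hx).2.1,
    ?_, ?_, ?_⟩
  · intro x hx y hy
    obtain ⟨h1, h2, h3⟩ := hf x hx
    obtain ⟨h4, h5, h6⟩ := hf y hy
    have := hτ.comm (f x) (f y) h1 h4 h2 h5
    rw [h3, h6] at this
    exact this
  · intro x hx y hy c hc
    obtain ⟨h1, h2, h3⟩ := hf x hx
    obtain ⟨h4, h5, h6⟩ := hf y hy
    have hc0 : c ≠ 0 := by
      rintro rfl
      rw [zero_smul] at hc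
      exact h1 hc
    rw [← h3, hc, hτ.smul (f y) c h5 hc0, h6]
  · intro v hv hv0
    obtain ⟨m1, m2, m3⟩ := hτ.mem v hv hv0
    have hm : τ v ∈ Loc T d := ⟨m1, m2, m3.symm⟩
    obtain ⟨h4, h5, h6⟩ := hf _ hm
    obtain ⟨c, -, hc⟩ := hτ.inj (f (τ v)) v h4 hv h5 hv0 h6
    exact ⟨τ v, hm, c, hc⟩

theorem ncomm : ∃ x y : Spor.Fi22, x * y ≠ y * x :=
  ⟨Cfsg.Agent.Fischer.Fi22PtsRep.gen .a, Cfsg.Agent.Fischer.Fi22PtsRep.gen .b,
    Cfsg.Agent.Fischer.Fi22Order.ab_ne⟩

/-- **`Fi22` satisfies the hypotheses of Fischer's theorem.** -/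
theorem fgroup : FGroup Fi22Facts.T :=
  fgroup_of_simple Fi22Facts.isSimple ncomm Fi22Facts.isThreeTranspositionClass_T

/-- **`Fi22` is of type `T6`.** -/
theorem isT6 : IsT6 Fi22Facts.T := by
  have hall : ∀ x ∈ Fi22Facts.T, IsU 6 (Loc Fi22Facts.T x) :=
    fun x hx => isU_of_locAt (Fi22Facts.loc x hx)
  obtain ⟨h1, h2⟩ := Cfsg.Agent.S0480U.CaseD.caseSix fgroup hall
  exact ⟨h1, hall, h2⟩

/-- **`Fi22` is of type M(22).** -/
theorem isOfTypeM22 : IsOfTypeM22 Spor.Fi22 Fi22Facts.T :=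
  Cfsg.Agent.H830.TypeConv.isOfTypeM22 fgroup isT6

end Cfsg.Agent.H830.Con22
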