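import Mathlib
import Cfsg.Agent.H830.Con22
import Cfsg.Agent.R08.FiTwentyThree
import Cfsg.Agent.S1697
import Cfsg.Agent.S0480U.CaseDF
import Cfsg.Agent.Fischer480.Main

set_option autoImplicit false

/-!
# The presented `Fi23` satisfies `FGroup`, `IsT7`, and is of type M(23) (helper830)
-/

namespace Cfsg.Agent.H830.Con23

open Cfsg Cfsg.Agent.Fischer480.Defs Cfsg.Agent.R01 Cfsg.Agent.R08
open Cfsg.Agent.R08.FiTwentyThree
open Cfsg.Agent.Fischer.Fi23Class (K)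
open Cfsg.Agent.Fischer.Fi23Z (z0)

theorem isSimple : IsSimpleGroup Spor.Fi23 := Cfsg.Agent.S1697.result.1

theorem ncomm : ∃ x y : Spor.Fi23, x * y ≠ y * x := by
  obtain ⟨x, y, hxy⟩ := Cfsg.Agent.H830.Con22.ncomm
  obtain ⟨a, rfl⟩ := pi_surjective x
  obtain ⟨b, rfl⟩ := pi_surjective y
  refine ⟨a, b, fun h => hxy ?_⟩
  rw [← map_mul, ← map_mul]
  congr 1
  exact Subtype.ext h

/-- **`Fi23` satisfies the hypotheses of Fischer's theorem.** -/
theorem fgroup : FGroup FiTwentyThree.D :=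
  Cfsg.Agent.H830.Con22.fgroup_of_simple isSimple ncomm isThreeTranspositionClass

/-- the neighbours of `z0` -/
theorem cIso_loc : CIso (Loc FiTwentyThree.D z0) Fi22Facts.T := by
  classical
  have hK : ∀ x ∈ Loc FiTwentyThree.D z0, x ∈ K := fun x hx => (mem_K_iff x).2 hx.2.2.symm.eq
  have hS : ∀ x (hx : x ∈ Loc FiTwentyThree.D z0), (⟨x, hK x hx⟩ : K) ∈ FiTwentyThree.S :=
    fun x hx => ⟨hx.1, hx.2.1⟩
  let φ : Spor.Fi23 → Spor.Fi22 := fun x => if h : x ∈ K then pi ⟨x, h⟩ else 1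
  have hφ : ∀ x (hx : x ∈ Loc FiTwentyThree.D z0), φ x = pi ⟨x, hK x hx⟩ :=
    fun x hx => dif_pos (hK x hx)
  refine ⟨φ, ⟨?_, ?_, ?_⟩, ?_⟩
  · intro x hx
    rw [hφ x hx]
    exact lifted.map _ (hS x hx)
  · intro x hx y hy h
    rw [hφ x hx, hφ y hy] at h
    exact congrArg Subtype.val (lifted.inj _ (hS x hx) _ (hS y hy) h)
  · intro t ht
    obtain ⟨x, hx, rfl⟩ := lifted.surj t ht
    have h1 : (x : Spor.Fi23) ∈ Loc FiTwentyThree.D z0 :=
      ⟨hx.1, hx.2, ((mem_K_iff _).1 x.2).symm⟩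
    exact ⟨x, h1, hφ _ h1⟩
  · intro x hx y hy
    rw [hφ x hx, hφ y hy]
    constructor
    · intro h
      have h' : Commute (⟨x, hK x hx⟩ : K) ⟨y, hK y hy⟩ := Subtype.ext h
      exact h'.map pi
    · intro h
      have := lifted.comm _ (hS x hx) _ (hS y hy) h.eq
      exact congrArg Subtype.val this

/-- **`Fi23` is of type `T7`.** -/
theorem isT7 : IsT7 FiTwentyThree.D := by
  have := finite_fi23
  refine Cfsg.Agent.S0480U.CaseDF.caseF6 fgroup fun x hx => ?_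
  have h1 : CIso (Loc FiTwentyThree.D x) (Loc FiTwentyThree.D z0) :=
    Cfsg.Agent.Fischer480.Main.loc_cIso_loc isThreeTranspositionClass hx z0_mem_D
  exact Cfsg.Agent.Fischer480.Transport.isT6
    (Cfsg.Agent.Fischer480.Transport.CIso.trans h1 cIso_loc) Con22.isT6

/-- **`Fi23` is of type M(23).** -/
theorem isOfTypeM23 : IsOfTypeM23 Spor.Fi23 FiTwentyThree.D := by
  have := finite_fi23
  exact Cfsg.Agent.H830.TypeConv.isOfTypeM23 fgroup isT7

end Cfsg.Agent.H830.Con23
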