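import Mathlib
import Cfsg.Agent.H830.Con23
import Cfsg.Agent.R08.FiTwentyFour

set_option autoImplicit false

/-!
# The presented `Fi24` satisfies `FGroup`, `IsT8` (helper830)
-/

namespace Cfsg.Agent.H830.Con24

open Cfsg Cfsg.Agent.Fischer480.Defs Cfsg.Agent.R01 Cfsg.Agent.R08
open Cfsg.Agent.R08.FiTwentyFour
open Cfsg.Agent.Fischer.Fi24Class (gen gen_sq)
open Cfsg.Agent.Fischer.Fi24Final (sgn sgn_gen)

open scoped commutatorElement

theorem isSimple : IsSimpleGroup ↥(commutator Spor.Fi24) := isFi24'.1

theorem mem_comm_phi (k : Spor.Fi23) : facts.phi k ∈ commutator Spor.Fi24 :=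
  mem_commutator_iff.2 (facts.sgn_phi k)

theorem ncomm : ∃ x y : ↥(commutator Spor.Fi24), x * y ≠ y * x := by
  obtain ⟨x, y, hxy⟩ := Cfsg.Agent.H830.Con23.ncomm
  refine ⟨⟨facts.phi x, mem_comm_phi x⟩, ⟨facts.phi y, mem_comm_phi y⟩, fun h => hxy ?_⟩
  apply facts.phi_injective
  rw [map_mul, map_mul]
  exact congrArg Subtype.val h

theorem center_of_simple {G : Type*} [Group G] (hs : IsSimpleGroup G)
    (hna : ∃ x y : G, x * y ≠ y * x) : Subgroup.center G = ⊥ := by
  rcases hs.eq_bot_or_eq_top_of_normal (Subgroup.center G) inferInstance with h | h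
  · exact h
  · exfalso
    obtain ⟨x, y, hxy⟩ := hna
    apply hxy
    have : y ∈ Subgroup.center G := by rw [h]; trivial
    exact (Subgroup.mem_center_iff.1 this) x

/-- the centre of `Fi24` is trivial -/
theorem center_eq_bot : Subgroup.center Spor.Fi24 = ⊥ := by
  rw [eq_bot_iff]
  intro n hn
  rw [Subgroup.mem_bot]
  have hn' := Subgroup.mem_center_iff.1 hn
  by_cases hmem : n ∈ commutator Spor.Fi24
  · have h1 : (⟨n, hmem⟩ : ↥(commutator Spor.Fi24)) ∈ Subgroup.center ↥(commutator Spor.Fi24) := by
      rw [Subgroup.mem_center_iff]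
      intro g
      exact Subtype.ext (hn' g)
    rw [center_of_simple isSimple ncomm, Subgroup.mem_bot] at h1
    exact congrArg Subtype.val h1
  · exfalso
    have hidx := index_commutator
    have hl : gen .l ∉ commutator Spor.Fi24 := FiTwentyFour.odd (gen_mem_L .l)
    have hln : gen .l * n ∈ commutator Spor.Fi24 :=
      (Subgroup.mul_mem_iff_of_index_two hidx).2 (by tauto)
    obtain ⟨k, hk⟩ := (facts.mem_range_iff (gen .l * n)).2
      ⟨by rw [mul_assoc, ← hn'], mem_commutator_iff.1 hln⟩
    have hkc : k ∈ Subgroup.center Spor.Fi23 := by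
      rw [Subgroup.mem_center_iff]
      intro m
      apply facts.phi_injective
      rw [map_mul, map_mul, hk, ← mul_assoc, facts.phi_comm, mul_assoc, mul_assoc, hn']
    rw [center_of_simple Cfsg.Agent.H830.Con23.isSimple Cfsg.Agent.H830.Con23.ncomm,
      Subgroup.mem_bot] at hkc
    rw [hkc, map_one] at hk
    have hnl : gen .l ∈ Subgroup.center Spor.Fi24 := by
      have h5 : gen .l = n⁻¹ := eq_inv_of_mul_eq_one_left hk.symm
      rw [h5]
      exact Subgroup.inv_mem _ hn
    have hL : FiTwentyFour.L = {gen .l} := by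
      ext x
      constructor
      · intro hx
        obtain ⟨g, rfl⟩ := isConj_iff.1 (show IsConj (gen .l) x from hx)
        rw [Set.mem_singleton_iff, Subgroup.mem_center_iff.1 hnl g, mul_inv_cancel_right]
      · rintro rfl
        exact gen_mem_L .l
    have h6 := ncard_L
    rw [hL, Set.ncard_singleton] at h6
    norm_num at h6

/-- **`Fi24` satisfies the hypotheses of Fischer's theorem.** -/
theorem fgroup : FGroup FiTwentyFour.L := by
  have hs := isSimple
  refine ⟨FiTwentyFour.isThreeTranspositionClass, ?_, ?_⟩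
  · intro N hN hsol
    -- `N ∩ G' = 1`
    have h1 : ∀ n ∈ N, n ∈ commutator Spor.Fi24 → n = 1 := by
      rcases hs.eq_bot_or_eq_top_of_normal (N.subgroupOf (commutator Spor.Fi24))
        inferInstance with h | h
      · intro n hn hn'
        have h2 : (⟨n, hn'⟩ : ↥(commutator Spor.Fi24)) ∈ N.subgroupOf (commutator Spor.Fi24) := hn
        rw [h, Subgroup.mem_bot] at h2
        exact congrArg Subtype.val h2
      · exfalso
        have hle : commutator Spor.Fi24 ≤ N := Subgroup.subgroupOf_eq_top.1 h
        have h2 : Group.IsSolvable ↥(commutator Spor.Fi24) := by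
          have := hsol
          exact Group.isSolvable_of_isSolvable_injective (f := Subgroup.inclusion hle)
            (Subgroup.inclusion_injective hle)
        have h3 : commutator ↥(commutator Spor.Fi24) = ⊤ := by
          rcases hs.eq_bot_or_eq_top_of_normal (commutator ↥(commutator Spor.Fi24))
            inferInstance with h | h
          · exfalso
            obtain ⟨x, y, hxy⟩ := ncomm
            apply hxy
            have h1 : ⁅x, y⁆ ∈ commutator ↥(commutator Spor.Fi24) :=
              Subgroup.commutator_mem_commutator (Subgroup.mem_top x) (Subgroup.mem_top y)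
            rw [h, Subgroup.mem_bot, commutatorElement_eq_one_iff_mul_comm] at h1
            exact h1
          · exact h
        obtain ⟨n, hn⟩ := h2
        have h4 : ∀ k, derivedSeries ↥(commutator Spor.Fi24) k = ⊤ := by
          intro k
          induction k with
          | zero => rfl
          | succ k ih => rw [derivedSeries_succ, ih]; exact h3
        rw [h4 n] at hn
        obtain ⟨x, y, hxy⟩ := ncomm
        have h5 : ∀ g : ↥(commutator Spor.Fi24), g = 1 := fun g => by
          have : g ∈ (⊤ : Subgroup ↥(commutator Spor.Fi24)) := Subgroup.mem_top g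
          rw [hn, Subgroup.mem_bot] at this
          exact this
        exact hxy (by rw [h5 x, h5 y])
    rw [eq_bot_iff, ← center_eq_bot]
    intro n hn
    rw [Subgroup.mem_center_iff]
    intro g
    have h2 : ⁅g, n⁆ ∈ N := by
      rw [commutatorElement_def]
      exact Subgroup.mul_mem _ (hN.conj_mem n hn g) (Subgroup.inv_mem _ hn)
    have h3 : ⁅g, n⁆ ∈ commutator Spor.Fi24 :=
      Subgroup.commutator_mem_commutator (Subgroup.mem_top g) (Subgroup.mem_top n)
    exact commutatorElement_eq_one_iff_mul_comm.1 (h1 _ h2 h3)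
  · have h3 : commutator ↥(commutator Spor.Fi24) = ⊤ := by
      rcases hs.eq_bot_or_eq_top_of_normal (commutator ↥(commutator Spor.Fi24))
        inferInstance with h | h
      · exfalso
        obtain ⟨x, y, hxy⟩ := ncomm
        apply hxy
        have h1 : ⁅x, y⁆ ∈ commutator ↥(commutator Spor.Fi24) :=
          Subgroup.commutator_mem_commutator (Subgroup.mem_top x) (Subgroup.mem_top y)
        rw [h, Subgroup.mem_bot, commutatorElement_eq_one_iff_mul_comm] at h1
        exact h1
      · exact h
    have h4 := Subgroup.map_subtype_commutator (commutator Spor.Fi24)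
    rw [h3, ← MonoidHom.range_eq_map, Subgroup.range_subtype] at h4
    exact h4.symm

/-- the neighbours of `l` -/
theorem cIso_loc : CIso FiTwentyThree.D (Loc FiTwentyFour.L (gen .l)) := by
  have hll : gen .l * gen .l = (1 : Spor.Fi24) := gen_sq _
  refine ⟨fun d => gen .l * facts.phi d, ⟨?_, ?_, ?_⟩, ?_⟩
  · intro d hd
    obtain ⟨h1, h2, h3⟩ := facts.commuting_iff.2 ⟨d, hd, rfl⟩
    exact ⟨h1, h2, h3.symm⟩
  · intro x _ y _ h
    exact facts.phi_injective (mul_left_cancel h)
  · intro e he
    obtain ⟨d, hd, h⟩ := facts.commuting_iff.1 ⟨he.1, he.2.1, he.2.2.symm.eq⟩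
    exact ⟨d, hd, h.symm⟩
  · intro x _ y _
    have key : ∀ a b : Spor.Fi23, (gen .l * facts.phi a) * (gen .l * facts.phi b) =
        facts.phi (a * b) := by
      intro a b
      rw [map_mul]
      calc gen .l * facts.phi a * (gen .l * facts.phi b)
          = gen .l * (facts.phi a * gen .l) * facts.phi b := by group
        _ = gen .l * (gen .l * facts.phi a) * facts.phi b := by rw [facts.phi_comm]
        _ = (gen .l * gen .l) * (facts.phi a * facts.phi b) := by group
        _ = facts.phi a * facts.phi b := by rw [hll, one_mul]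
    show x * y = y * x ↔ (gen .l * facts.phi x) * (gen .l * facts.phi y) =
      (gen .l * facts.phi y) * (gen .l * facts.phi x)
    rw [key, key]
    exact facts.phi_injective.eq_iff.symm

/-- **`Fi24` is of type `T8`.** -/
theorem isT8 : IsT8 FiTwentyFour.L := by
  have := finite_Fi24
  refine Cfsg.Agent.S0480U.CaseDF.caseF7 fgroup fun x hx => ?_
  have h1 : CIso (Loc FiTwentyFour.L x) (Loc FiTwentyFour.L (gen .l)) :=
    Cfsg.Agent.Fischer480.Main.loc_cIso_loc FiTwentyFour.isThreeTranspositionClass hx (gen_mem_L .l)
  exact Cfsg.Agent.Fischer480.Transport.isT7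
    (Cfsg.Agent.Fischer480.Transport.CIso.trans h1
      (Cfsg.Agent.Fischer480.Transport.CIso.symm cIso_loc)) Con23.isT7

end Cfsg.Agent.H830.Con24
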