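import Mathlib
import Cfsg.Agent.Fischer480.Defs
import Cfsg.Agent.SporadicStructure.FischerPrimitive
import Cfsg.Prelude.Def_FischerSpaces

set_option autoImplicit false

/-!
# Fischer groups act primitively on their transpositions (helper830)
-/

namespace Cfsg.Agent.H830.PrimF

open Cfsg Cfsg.Agent.SporadicStructure.FischerSpace Cfsg.Agent.SporadicStructure.FischerPrimitive
open Cfsg.Agent.Fischer480.Defs

variable {G : Type*} [Group G] {D : Set G}

/-- the relation of a set of imprimitivity -/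
def rel (D B : Set G) (x y : G) : Prop :=
  x ∈ D ∧ y ∈ D ∧ ∀ g : G, (g⁻¹ * x * g ∈ B ↔ g⁻¹ * y * g ∈ B)

theorem invEquiv_rel (h : FData D) (B : Set G) : InvEquiv D (rel D B) where
  mem_left := fun h1 => h1.1
  refl := fun hx => ⟨hx, hx, fun _ => Iff.rfl⟩
  symm := fun h1 => ⟨h1.2.1, h1.1, fun g => (h1.2.2 g).symm⟩
  trans := fun h1 h2 => ⟨h1.1, h2.2.1, fun g => (h1.2.2 g).trans (h2.2.2 g)⟩
  conj := by
    rintro k x y ⟨hx, hy, hxy⟩
    refine ⟨h.conj k x hx, h.conj k y hy, fun g => ?_⟩
    have e : ∀ w : G, g⁻¹ * (k * w * k⁻¹) * g = (k⁻¹ * g)⁻¹ * w * (k⁻¹ * g) := by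
      intro w; group
    rw [e, e]
    exact hxy _

/-- **Primitivity** -/
theorem isPrimitiveUnderConj [Finite G] (F : FGroup D) : IsPrimitiveUnderConj D := by
  have h := fdata_of_class F.cls
  refine ⟨fun a ha b hb => h.single a ha b hb, ?_, ?_⟩
  · obtain ⟨x, hx, y, hy, hxy⟩ := nontrivial_D h F.sol
    exact ⟨x, hx, y, hy, hxy⟩
  · intro B hB hblock
    have hmem : ∀ (g x : G), x ∈ (fun x => g * x * g⁻¹) '' B ↔ g⁻¹ * x * g ∈ B := by
      intro g x
      constructor
      · rintro ⟨b, hb, rfl⟩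
        have : g⁻¹ * (g * b * g⁻¹) * g = b := by group
        show g⁻¹ * (g * b * g⁻¹) * g ∈ B
        rwa [this]
      · intro hx
        refine ⟨_, hx, ?_⟩
        show g * (g⁻¹ * x * g) * g⁻¹ = x
        group
    have hrel : ∀ x ∈ B, ∀ y ∈ B, rel D B x y := by
      have key : ∀ x ∈ B, ∀ y ∈ B, ∀ g : G, g⁻¹ * x * g ∈ B → g⁻¹ * y * g ∈ B := by
        intro x hx y hy g hg
        rcases hblock g with h1 | h1
        · rw [← h1] at hy
          exact (hmem g y).1 hy
        · exfalso
          exact Set.disjoint_left.1 h1 ((hmem g x).2 hg) hx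
      intro x hx y hy
      exact ⟨hB hx, hB hy, fun g => ⟨key x hx y hy g, key y hy x hx g⟩⟩
    rcases primitive h F.sol F.perf (invEquiv_rel h B) with h1 | h1
    · left
      intro x hx y hy
      exact h1 x y (hrel x hx y hy)
    · rcases Set.eq_empty_or_nonempty B with h2 | ⟨b, hb⟩
      · left
        rw [h2]
        exact Set.subsingleton_empty
      · right
        apply Set.Subset.antisymm hB
        intro x hx
        have h3 := (h1 b (hB hb) x hx).2.2 1
        simp only [inv_one, one_mul, mul_one] at h3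
        exact h3.1 hb

end Cfsg.Agent.H830.PrimF
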