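import Mathlib
import Cfsg.Agent.H830.Transp
import Cfsg.Agent.S0283
import Cfsg.Agent.TSp.Orders

set_option autoImplicit false
set_option maxRecDepth 10000
set_option linter.style.haveILetI false

/-!
# Centralisers of transpositions of `Fi22` and `Fi23`, for groups isomorphic to them (helper830)
-/

namespace Cfsg.Agent.H830.Parts

open Cfsg Cfsg.Agent.R01 Cfsg.Agent.R01.Lifts Cfsg.Agent.R01.Start
open Cfsg.Agent.Fischer480.Defs
open Cfsg.Agent.SporadicStructure.FischerSpace
open Cfsg.Agent.H830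

universe u

theorem quasi_of_ext {C P : Type*} [Group C] [Group P] {π : C →* P} {z : C} (h : Ext π z)
    (hperf : commutator C = ⊤) (hs : IsSimpleGroup P) (hZ : Subgroup.center P = ⊥) :
    IsQuasisimple C := by
  have hk : π.ker = Subgroup.center C := by
    ext c
    rw [MonoidHom.mem_ker, Subgroup.mem_center_iff]
    constructor
    · intro hc g
      rcases (h.ker c).1 hc with rfl | rfl
      · rw [mul_one, one_mul]
      · exact h.comm g
    · intro hc
      have h1 : π c ∈ Subgroup.center P := by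
        rw [Subgroup.mem_center_iff]
        intro g
        obtain ⟨g, rfl⟩ := h.surj g
        rw [← map_mul, ← map_mul, hc]
      rwa [hZ, Subgroup.mem_bot] at h1
  refine ⟨Group.isPerfect_def.2 hperf, ?_⟩
  have := hs
  exact ((QuotientGroup.quotientMulEquivOfEq hk.symm).trans
    (QuotientGroup.quotientKerEquivOfSurjective π h.surj)).isSimpleGroup

/-- the quotient of the centraliser of `t` by `⟨t⟩` -/
theorem quot_of_ext {Y P : Type*} [Group Y] [Group P] {t : Y}
    {π : Subgroup.centralizer ({t} : Set Y) →* P} (h : Ext π (zel t)) :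
    ∃ (_ : ((Subgroup.zpowers t).subgroupOf (Subgroup.centralizer ({t} : Set Y))).Normal),
      Nonempty (↥(Subgroup.centralizer ({t} : Set Y)) ⧸
        (Subgroup.zpowers t).subgroupOf (Subgroup.centralizer ({t} : Set Y)) ≃* P) := by
  have ht2 : t * t = 1 := congrArg Subtype.val h.zz
  have hk : (Subgroup.zpowers t).subgroupOf (Subgroup.centralizer ({t} : Set Y)) = π.ker := by
    ext x
    rw [Subgroup.mem_subgroupOf, MonoidHom.mem_ker, h.ker, Subgroup.mem_zpowers_iff]
    constructor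
    · rintro ⟨n, hn⟩
      rcases Int.even_or_odd' n with ⟨m, rfl | rfl⟩
      · left
        apply Subtype.ext
        rw [zpow_mul, zpow_two, ht2, one_zpow] at hn
        exact hn.symm
      · right
        apply Subtype.ext
        rw [zpow_add, zpow_mul, zpow_two, ht2, one_zpow, one_mul, zpow_one] at hn
        exact hn.symm
    · rintro (rfl | rfl)
      · exact ⟨0, by simp⟩
      · exact ⟨1, by rw [zpow_one]; rfl⟩
  have hn : ((Subgroup.zpowers t).subgroupOf (Subgroup.centralizer ({t} : Set Y))).Normal := by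
    rw [hk]; infer_instance
  refine ⟨hn, ?_⟩
  have key : ∀ (N : Subgroup ↥(Subgroup.centralizer ({t} : Set Y))) (_ : N.Normal), N = π.ker →
      Nonempty (↥(Subgroup.centralizer ({t} : Set Y)) ⧸ N ≃* P) := by
    intro N hN e
    exact ⟨(QuotientGroup.quotientMulEquivOfEq e).trans
      (QuotientGroup.quotientKerEquivOfSurjective π h.surj)⟩
  exact key _ hn hk

theorem orderOf_of_ext {Y P : Type*} [Group Y] [Group P] {t : Y}
    {π : Subgroup.centralizer ({t} : Set Y) →* P} (h : Ext π (zel t)) : orderOf t = 2 := by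
  apply orderOf_eq_prime
  · rw [pow_two]; exact congrArg Subtype.val h.zz
  · intro h1
    exact h.zne (Subtype.ext h1)

/-- a member of a Fischer class is not weakly closed in its centraliser -/
theorem nwc {Y : Type*} [Group Y] [Finite Y] {D : Set Y} (F : FGroup D) {t : Y} (ht : t ∈ D)
    (hne : (Loc D t).Nonempty) :
    ∃ g : Y, g * t * g⁻¹ ∈ Subgroup.centralizer ({t} : Set Y) ∧ g * t * g⁻¹ ≠ t := by
  obtain ⟨y, hy, hyt, hc⟩ := hne
  obtain ⟨g, hg⟩ := (fdata_of_class F.cls).single t ht y hy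
  refine ⟨g, ?_, ?_⟩
  · rw [hg]
    exact Subgroup.mem_centralizer_singleton_iff.2 hc.symm.eq
  · rw [hg]
    exact hyt

theorem psu_simple {F : Type} [Field F] [Fintype F] (hF : Fintype.card F = 4) :
    IsSimpleGroup (PSU 6 F 2) ∧ Subgroup.center (PSU 6 F 2) = ⊥ := by
  have hs : IsSimpleGroup (PSU 6 F 2) :=
    Cfsg.Agent.S0283.result (F := F) (q := 2) (by rw [hF]; norm_num) 6 (by norm_num)
      (by norm_num)
  refine ⟨hs, ?_⟩
  apply Cfsg.Agent.H830.Con24.center_of_simple hs
  by_contra hcon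
  push Not at hcon
  letI : CommGroup (PSU 6 F 2) := { (inferInstance : Group (PSU 6 F 2)) with mul_comm := hcon }
  have := hs
  have h1 : (Nat.card (PSU 6 F 2)).Prime := IsSimpleGroup.prime_card
  rw [Cfsg.Agent.TSp.Orders.card_PSU hF] at h1
  exact absurd h1 (by norm_num)

/-- **`Fi22`** -/
theorem part22 {P : Type u} [Group P] [Finite P] (θ : P ≃* Spor.Fi22) : ∃ d' : P, orderOf d' = 2 ∧
    Cfsg.IsQuasisimple ↥(Subgroup.centralizer ({d'} : Set P)) ∧
    (∃ (K : Type) (_ : Field K) (_ : Fintype K), Fintype.card K = 4 ∧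
      ∃ _ : ((Subgroup.zpowers d').subgroupOf (Subgroup.centralizer ({d'} : Set P))).Normal,
        Nonempty (↥(Subgroup.centralizer ({d'} : Set P)) ⧸
          (Subgroup.zpowers d').subgroupOf (Subgroup.centralizer ({d'} : Set P)) ≃*
          Cfsg.PSU 6 K 2)) ∧
    ∃ g, g * d' * g⁻¹ ∈ Subgroup.centralizer ({d'} : Set P) ∧ g * d' * g⁻¹ ≠ d' := by
  obtain ⟨F, h6, -, -⟩ := Transp.fi22 θ.symm
  have hloc := Fi22Facts.loc_map θ.symm Fi22Facts.loc
  have hm : θ.symm (Cfsg.Agent.Fischer.Fi22PtsRep.gen .a) ∈ θ.symm '' Fi22Facts.T :=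
    ⟨_, Fi22Facts.gen_mem .a, rfl⟩
  obtain ⟨π, lift, L, -⟩ := hloc _ hm
  obtain ⟨hs, hz⟩ := psu_simple (F := Cfsg.Agent.SporRec.GF4.F4) (by
    rw [Cfsg.Agent.Fischer.Unit22.hF]; norm_num)
  refine ⟨_, orderOf_of_ext L.ext, quasi_of_ext L.ext L.perf hs hz,
    ⟨_, inferInstance, inferInstance, ?_, quot_of_ext L.ext⟩, nwc F hm ?_⟩
  · rw [Cfsg.Agent.Fischer.Unit22.hF]; norm_num
  · rw [← Set.ncard_pos (Set.toFinite _), Cfsg.Agent.S0480U.UComb.ncard_six (h6.2.1 _ hm)]
    norm_num

/-- the conjugates of an image -/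
theorem image_conjugatesOf {A B : Type*} [Group A] [Group B] (e : A ≃* B) (a : A) :
    e '' conjugatesOf a = conjugatesOf (e a) := by
  ext y
  constructor
  · rintro ⟨x, hx, rfl⟩
    obtain ⟨g, rfl⟩ := isConj_iff.1 (show IsConj a x from hx)
    exact isConj_iff.2 ⟨e g, by rw [map_mul, map_mul, map_inv]⟩
  · intro hy
    obtain ⟨g, rfl⟩ := isConj_iff.1 (show IsConj (e a) y from hy)
    refine ⟨e.symm g * a * (e.symm g)⁻¹, isConj_iff.2 ⟨_, rfl⟩, ?_⟩
    rw [map_mul, map_mul, map_inv, e.apply_symm_apply]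

open Cfsg.Agent.Fischer.Fi23Class (K)
open Cfsg.Agent.Fischer.Fi23Z (z0)
open Cfsg.Agent.R08.FiTwentyThree

theorem K_eq_cent : K = Subgroup.centralizer ({z0} : Set Spor.Fi23) := by
  ext g
  rw [mem_K_iff, Subgroup.mem_centralizer_singleton_iff]

theorem commutator_top_of_equiv {A B : Type*} [Group A] [Group B] (e : A ≃* B)
    (h : commutator A = ⊤) : commutator B = ⊤ := by
  have h1 : (commutator A).map (e : A →* B) = commutator B := by
    rw [_root_.commutator_def, _root_.commutator_def, Subgroup.map_commutator,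
      Subgroup.map_top_of_surjective _ e.surjective]
  rw [← h1, h, Subgroup.map_top_of_surjective _ e.surjective]

/-- the projection of the centraliser of a transposition of `Fi23` onto `Fi22` -/
theorem ext23 {Y : Type u} [Group Y] (e : Y ≃* Spor.Fi23) :
    ∃ π : Subgroup.centralizer ({e.symm z0} : Set Y) →* Spor.Fi22, Ext π (zel (e.symm z0)) ∧
      commutator ↥(Subgroup.centralizer ({e.symm z0} : Set Y)) = ⊤ := by
  let κ : K ≃* Subgroup.centralizer ({e.symm z0} : Set Y) :=
    (MulEquiv.subgroupCongr K_eq_cent).trans (Fi22Facts.centMap e.symm z0)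
  have hz : κ zK = zel (e.symm z0) := Subtype.ext (congrArg e.symm coe_zK)
  refine ⟨pi.comp κ.symm.toMonoidHom, ?_, commutator_top_of_equiv κ perfect⟩
  have h := Cfsg.Agent.R08.FiTwentyFour.ext_transport ext κ
  rw [hz] at h
  exact h

/-- **`Fi23`** -/
theorem part23 {Y : Type u} [Group Y] [Finite Y] (e : Y ≃* Spor.Fi23) :
    orderOf (e.symm z0) = 2 ∧
    Cfsg.IsQuasisimple ↥(Subgroup.centralizer ({e.symm z0} : Set Y)) ∧
    (∃ (_ : ((Subgroup.zpowers (e.symm z0)).subgroupOf
        (Subgroup.centralizer ({e.symm z0} : Set Y))).Normal),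
      (∃ E : Set (↥(Subgroup.centralizer ({e.symm z0} : Set Y)) ⧸
          (Subgroup.zpowers (e.symm z0)).subgroupOf (Subgroup.centralizer ({e.symm z0} : Set Y))),
        Cfsg.IsThreeTranspositionClass E ∧ Cfsg.IsOfTypeM22 _ E) ∧
      ∃ d' : ↥(Subgroup.centralizer ({e.symm z0} : Set Y)) ⧸
          (Subgroup.zpowers (e.symm z0)).subgroupOf (Subgroup.centralizer ({e.symm z0} : Set Y)),
        orderOf d' = 2 ∧ Cfsg.IsQuasisimple ↥(Subgroup.centralizer ({d'} : Set _)) ∧
        (∃ (K : Type) (_ : Field K) (_ : Fintype K), Fintype.card K = 4 ∧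
          ∃ _ : ((Subgroup.zpowers d').subgroupOf (Subgroup.centralizer ({d'} : Set _))).Normal,
            Nonempty (↥(Subgroup.centralizer ({d'} : Set _)) ⧸
              (Subgroup.zpowers d').subgroupOf (Subgroup.centralizer ({d'} : Set _)) ≃*
              Cfsg.PSU 6 K 2)) ∧
        ∃ g, g * d' * g⁻¹ ∈ Subgroup.centralizer ({d'} : Set _) ∧ g * d' * g⁻¹ ≠ d') ∧
    (∃ g : Y, g * e.symm z0 * g⁻¹ ∈ Subgroup.centralizer ({e.symm z0} : Set Y) ∧
      g * e.symm z0 * g⁻¹ ≠ e.symm z0) ∧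
    Cfsg.IsThreeTranspositionClass (conjugatesOf (e.symm z0)) ∧
    Cfsg.IsOfTypeM23 Y (conjugatesOf (e.symm z0)) := by
  obtain ⟨F, h7, -, h23⟩ := Transp.fi23 e.symm
  have hD : e.symm '' Cfsg.Agent.R08.FiTwentyThree.D = conjugatesOf (e.symm z0) :=
    image_conjugatesOf e.symm z0
  rw [hD] at F h7 h23
  obtain ⟨π, hπ, hperf⟩ := ext23 e
  have hs := Fi22Facts.isSimple
  have hz : Subgroup.center Spor.Fi22 = ⊥ :=
    Cfsg.Agent.H830.Con24.center_of_simple hs Cfsg.Agent.H830.Con22.ncomm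
  obtain ⟨hn, ⟨θ⟩⟩ := quot_of_ext hπ
  have hmem : e.symm z0 ∈ conjugatesOf (e.symm z0) := IsConj.refl _
  refine ⟨orderOf_of_ext hπ, quasi_of_ext hπ hperf hs hz, ⟨hn, ?_, ?_⟩, nwc F hmem ?_, F.cls, h23⟩
  · obtain ⟨F', -, -, h22⟩ := Transp.fi22 θ.symm
    exact ⟨_, F'.cls, h22⟩
  · exact part22 θ
  · rw [← Set.ncard_pos (Set.toFinite _), (h7.2.1 _ hmem).1]
    norm_num

end Cfsg.Agent.H830.Parts
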