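import Cfsg.Agent.H830.SemiConj
import Cfsg.Agent.OddHalf.NI3.Ex.FiRow.Outer
import Cfsg.Agent.H836.EightMain
import Cfsg.Agent.H833.AutFinal

/-!
# The outer involutory automorphisms of `Fi22` (helper830)

`outer_inv` : they are conjugate in `Aut Fi22` to the flip, the flip times a transposition, or the flip times a product
of two commuting transpositions.
-/

set_option autoImplicit false

namespace Cfsg.Agent.H830.OutInv22

open Subgroup Cfsg Cfsg.Spor Cfsg.Spor.Fi22 Cfsg.Agent.LieClassical.HermBasic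
open Cfsg.Agent.ClassicalGeometry.UnitTransv Cfsg.Agent.SporadicStructure.UnitTwo
open Cfsg.Agent.R01.Lifts Cfsg.Agent.R01.PSUSix Cfsg.Agent.R01.Label Cfsg.Agent.R01.InvForm
open Cfsg.Agent.SporadicStructure
open Cfsg.Agent.R01.Frames (Hyp)
open Cfsg.Agent.R01.ComLabel (Iso)
open Cfsg.Agent.R01.Start (zel)
open Cfsg.Agent.ClassicalGeometry.UnitAutBasic (tau pr pr_surjective)
open Cfsg.Agent.U62.Semi Cfsg.Agent.U62.Semi2 Cfsg.Agent.CpAut.UnitInv Cfsg.Agent.H830.SemiConj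
open Cfsg.Agent.SporRec.GF4 (F4)
open Cfsg.Agent.Fischer.Unit22 (hF)
open Cfsg.Agent.Fischer.Fi22PtsRep (gen gen_sq)
open Cfsg.Agent.OddHalf.NI3.Ex.FiRow.Base (T kt exists_fixed)
open Cfsg.Agent.H833.Flip
open Cfsg.Agent.CpAut.TwoAbs (restr)
open Cfsg.Agent.CpAut.Fi22Row (inv_cent)

section lab

variable {u : Spor.Fi22} {π : ↥(centralizer ({u} : Set Spor.Fi22)) →* PSU 6 F4 2}
  {lift : (Fin 6 → F4) → ↥(centralizer ({u} : Set Spor.Fi22))}

/-- `x` permutes the labels at `u` by a semilinear involution of type `c`. -/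
def Ty (lift : (Fin 6 → F4) → ↥(centralizer ({u} : Set Spor.Fi22))) (c : F4) (x : MulAut Spor.Fi22) : Prop :=
  ∃ φ g k, Norm c φ g k ∧ (∀ v, φ (φ v) = v) ∧
    ∀ v, Iso F4 v → x (lift v : Spor.Fi22) = (lift (φ v) : Spor.Fi22)

/-- A semilinear involution has a type. -/
theorem type_of_sem {φ : (Fin 6 → F4) → (Fin 6 → F4)} (hφ : Sem (F := F4) 2 φ) (hφφ : ∀ v, φ (φ v) = v) :
    ∃ c g k, (c = 0 ∨ c = 1) ∧ Norm c φ g k := by
  obtain ⟨g, k, hb, hg, hk1, hk2, hk0⟩ := semi_normal hF hφ hφφ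
  rcases hk0 with hk0 | hk0
  · exact ⟨0, g, k, Or.inl rfl, hφ, hb, hg, hk1, hk2, by rw [hk0, zero_smul, add_zero]⟩
  · exact ⟨1, g, k, Or.inr rfl, hφ, hb, hg, hk1, hk2, by rw [hk0, one_smul]⟩

variable (L : Lab hF π (zel u) (zel u) lift)
include L

theorem exists_type (hu : u ∈ T) {x : MulAut Spor.Fi22} (hxx : x * x = 1) (hx : ∀ g, x ≠ MulAut.conj g)
    (hxu : x u = u) : Ty lift 0 x ∨ Ty lift 1 x := by
  let C : Subgroup Spor.Fi22 := centralizer ({u} : Set Spor.Fi22)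
  let a : MulAut ↥C := restr hxx C (inv_cent (x := x) ⟨u, hxu⟩)
  have hau : ∀ c : ↥C, ((a c : ↥C) : Spor.Fi22) = x c := fun _ => rfl
  have haz : a (zel u) = zel u := Subtype.ext hxu
  have haa : ∀ c, a (a c) = c := fun c => Subtype.ext (DFunLike.congr_fun hxx (c : Spor.Fi22))
  obtain ⟨e, φ, he, hφ, ha, hφφ⟩ := norm L haz haa
  rcases he with rfl | rfl
  · exfalso
    obtain ⟨c, hc⟩ := inner_of_lin L hφ ha hφφ
    have h1 : ∀ y ∈ T, y * u = u * y → ((MulAut.conj (c : Spor.Fi22))⁻¹ * x) y = y := by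
      intro y _ hy
      have h2 := congrArg Subtype.val (DFunLike.congr_fun hc (⟨y, mem_centralizer_singleton_iff.2 hy⟩ : ↥C))
      have h3 : x y = c * y * (c : Spor.Fi22)⁻¹ := h2
      change (MulAut.conj (c : Spor.Fi22))⁻¹ (x y) = y
      rw [h3, ← map_inv, MulAut.conj_apply]
      group
    rcases kt.cJ hu _ h1 with h2 | h2
    · exact hx c (inv_mul_eq_one.1 h2).symm
    · exact hx (c * u) (by rw [map_mul, ← h2, mul_inv_cancel_left])
  · obtain ⟨c, g, k, hc, hN⟩ := type_of_sem hφ hφφ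
    have h2 : Ty lift c x := ⟨φ, g, k, hN, hφφ, fun v hv => by rw [← hau, ha v hv]⟩
    rcases hc with rfl | rfl
    · exact Or.inl h2
    · exact Or.inr h2

/-- **Outer automorphisms of the same type are conjugate up to `u`.** -/
theorem same (hu : u ∈ T) (hT : ∀ y : ↥(centralizer ({u} : Set Spor.Fi22)), (y : Spor.Fi22) ∈ T → y = zel u ∨ y ∈ Dset lift)
    {c : F4} (hc : c ^ 2 = c) {x y : MulAut Spor.Fi22} (hx : ∀ g, x ≠ MulAut.conj g) (hy : ∀ g, y ≠ MulAut.conj g)
    (hxu : x u = u) (hyu : y u = u) (tx : Ty lift c x) (ty : Ty lift c y) :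
    IsConj y x ∨ IsConj y (x * MulAut.conj u) := by
  obtain ⟨w, hw⟩ := Cfsg.Agent.OddHalf.Table.OutFi22.mul_outer x y hx hy
  obtain ⟨φ, g, k, hN, hφφ, hφ⟩ := tx
  obtain ⟨ψ, g', k', hN', hψψ, hψ⟩ := ty
  have hφi : ∀ v, Iso F4 v → Iso F4 (φ v) := fun v hv => hN.sem.iso hF (Or.inr rfl) hv
  have hψi : ∀ v, Iso F4 v → Iso F4 (ψ v) := fun v hv => hN'.sem.iso hF (Or.inr rfl) hv
  have hwu : w ∈ centralizer ({u} : Set Spor.Fi22) := by
    rw [mem_centralizer_singleton_iff]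
    have h1 := DFunLike.congr_fun hw u
    rw [MulAut.mul_apply, hyu, hxu, MulAut.conj_apply] at h1
    exact mul_inv_eq_iff_eq_mul.1 h1.symm
  obtain ⟨σ, hσ⟩ := pr_surjective (π ⟨w, hwu⟩)
  have hpt : ∀ v, Iso F4 v → Pt (act σ v) (φ (ψ v)) := by
    intro v hv
    apply pt_of_lift L ((sem_act σ).iso hF (Or.inl rfl) hv) (hφi _ (hψi _ hv))
    rw [← L.conj ⟨w, hwu⟩ σ v hσ.symm hv.1 hv.2]
    apply Subtype.ext
    have h1 := DFunLike.congr_fun hw (lift v : Spor.Fi22)
    rw [MulAut.mul_apply, hψ v hv, hφ _ (hψi v hv)] at h1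
    exact h1.symm
  have hχ : Sem (F := F4) 1 (fun v => φ (ψ (act σ⁻¹ v))) := by
    have h3 : Sem (F := F4) (2 * 2) (fun v => φ (ψ (act σ⁻¹ v))) := by
      have h4 := (hN.sem.comp hN'.sem).comp (sem_act σ⁻¹)
      simpa using h4
    exact h3.four hF
  obtain ⟨-, b, hb0, hb⟩ := scal_all hF (Or.inl rfl) hχ (by
    intro v hv
    have h5 := hpt _ ((sem_act σ⁻¹).iso hF (Or.inl rfl) hv)
    rwa [act_act_inv] at h5)
  obtain ⟨m, hm⟩ := SemiConj.conj hF hc hN hN' hb0 (σ := σ) (by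
    intro v
    have := hb (act σ v)
    simp only [act_inv_act] at this
    exact this)
  obtain ⟨r, hr⟩ := L.ext.surj (pr 6 F4 2 m)
  have hmi : ∀ v, Iso F4 v → Iso F4 (act m v) := fun v hv => (sem_act m).iso hF (Or.inl rfl) hv
  have hru : (r : Spor.Fi22) * u = u * r := mem_centralizer_singleton_iff.1 r.2
  have hrc : ∀ v, Iso F4 v → (r : Spor.Fi22) * lift v * (r : Spor.Fi22)⁻¹ = lift (act m v) := fun v hv =>
    congrArg Subtype.val (L.conj r m v hr hv.1 hv.2)
  let x' : MulAut Spor.Fi22 := MulAut.conj (r : Spor.Fi22) * x * (MulAut.conj (r : Spor.Fi22))⁻¹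
  have hx' : ∀ g, x' g = (r : Spor.Fi22) * x ((r : Spor.Fi22)⁻¹ * g * r) * (r : Spor.Fi22)⁻¹ := by
    intro g
    show (MulAut.conj (r : Spor.Fi22)) (x ((MulAut.conj (r : Spor.Fi22))⁻¹ g)) = _
    rw [MulAut.conj_apply, ← map_inv, MulAut.conj_apply, inv_inv]
  have key : ∀ d ∈ T, d * u = u * d → (y⁻¹ * x') d = d := by
    intro d hd hdu
    show y⁻¹ (x' d) = d
    have h1 : x' d = y d := by
      rcases hT ⟨d, mem_centralizer_singleton_iff.2 hdu⟩ hd with h | ⟨v, hv0, hv, h⟩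
      · have h2 : d = u := congrArg Subtype.val h
        rw [h2, hx', hyu]
        have h3 : (r : Spor.Fi22)⁻¹ * u * r = u := by
          rw [mul_assoc, ← hru, inv_mul_cancel_left]
        rw [h3, hxu, hru, mul_inv_cancel_right]
      · have hvi : Iso F4 v := ⟨hv0, hv⟩
        have h2 : d = lift v := congrArg Subtype.val h
        have hv' : Iso F4 (act m⁻¹ v) := (sem_act m⁻¹).iso hF (Or.inl rfl) hvi
        have h3 := hrc _ hv'
        rw [act_act_inv] at h3
        have h4 : (r : Spor.Fi22)⁻¹ * d * r = lift (act m⁻¹ v) := by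
          rw [h2, ← h3]; group
        rw [hx', h4, hφ _ hv', hrc _ (hφi _ hv'), hm, act_act_inv, h2, hψ v hvi]
    rw [h1]
    exact y.symm_apply_apply d
  rcases kt.cJ hu _ key with h | h
  · left
    have h1 : x' = y := (inv_mul_eq_one.1 h).symm
    rw [← h1]
    exact (isConj_iff.2 ⟨MulAut.conj (r : Spor.Fi22), rfl⟩ : IsConj x x').symm
  · right
    have h1 : x' = y * MulAut.conj u := by rw [← h, mul_inv_cancel_left]
    have huu : MulAut.conj u * MulAut.conj u = (1 : MulAut Spor.Fi22) := by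
      rw [← map_mul, kt.sq u hu, map_one]
    have h2 : y = x' * MulAut.conj u := by rw [h1, mul_assoc, huu, mul_one]
    apply IsConj.symm
    refine isConj_iff.2 ⟨MulAut.conj (r : Spor.Fi22), ?_⟩
    have h3 : MulAut.conj u * (MulAut.conj (r : Spor.Fi22))⁻¹ = (MulAut.conj (r : Spor.Fi22))⁻¹ * MulAut.conj u := by
      rw [← map_inv, ← map_mul, ← map_mul]
      congr 1
      rw [eq_inv_mul_iff_mul_eq, ← mul_assoc, hru, mul_inv_cancel_right]
    rw [h2]
    show MulAut.conj (r : Spor.Fi22) * (x * MulAut.conj u) * (MulAut.conj (r : Spor.Fi22))⁻¹ =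
      MulAut.conj (r : Spor.Fi22) * x * (MulAut.conj (r : Spor.Fi22))⁻¹ * MulAut.conj u
    rw [← mul_assoc, mul_assoc _ (MulAut.conj u), h3, mul_assoc, mul_assoc, mul_assoc]

omit L in
/-- In type `0` the fixed vectors are isotropic. -/
theorem iso_of_fixed {φ : (Fin 6 → F4) → (Fin 6 → F4)} {g k : Fin 3 → (Fin 6 → F4)} (h : Norm 0 φ g k)
    {v : Fin 6 → F4} (hv : φ v = v) : hermForm 6 F4 2 v v = 0 := by
  have h2 := two_eq_zero hF
  have hk0 : φ (k 0) = k 0 := by rw [h.k0, zero_smul, add_zero]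
  have hsq : ∀ x : F4, x = 0 ∨ x = 1 → x ^ 2 = x := by
    rintro x (rfl | rfl)
    · ring
    · ring
  have e1 := hsq _ (val01 hF h.sem hv (h.fg 0))
  have e2 := hsq _ (val01 hF h.sem hv (h.fg 1))
  have e3 := hsq _ (val01 hF h.sem hv (h.fg 2))
  have e4 := hsq _ (val01 hF h.sem hv h.k1)
  have e5 := hsq _ (val01 hF h.sem hv h.k2)
  have e6 := hsq _ (val01 hF h.sem hv hk0)
  have hx := hyp_expand hF h.hyp v
  simp only [Fin.sum_univ_three] at hx
  have key : hermForm 6 F4 2 v v = hermForm 6 F4 2 v (k 0) * hermForm 6 F4 2 v (g 0) ^ 2 +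
      hermForm 6 F4 2 v (g 0) * hermForm 6 F4 2 v (k 0) ^ 2 +
      (hermForm 6 F4 2 v (k 1) * hermForm 6 F4 2 v (g 1) ^ 2 +
      hermForm 6 F4 2 v (g 1) * hermForm 6 F4 2 v (k 1) ^ 2) +
      (hermForm 6 F4 2 v (k 2) * hermForm 6 F4 2 v (g 2) ^ 2 +
      hermForm 6 F4 2 v (g 2) * hermForm 6 F4 2 v (k 2) ^ 2) := by
    conv_lhs => rw [hx]
    simp only [herm_add_left, herm_smul_left]
    rw [← hx, herm_swap hF v (g 0), herm_swap hF v (g 1), herm_swap hF v (g 2), herm_swap hF v (k 0),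
      herm_swap hF v (k 1), herm_swap hF v (k 2)]
  rw [key, e1, e2, e3, e4, e5, e6]
  linear_combination (hermForm 6 F4 2 v (k 0) * hermForm 6 F4 2 v (g 0) +
    hermForm 6 F4 2 v (k 1) * hermForm 6 F4 2 v (g 1) + hermForm 6 F4 2 v (k 2) * hermForm 6 F4 2 v (g 2)) * h2

omit L in
/-- A fixed vector not orthogonal to a given fixed vector. -/
theorem exists_fixed_one {φ : (Fin 6 → F4) → (Fin 6 → F4)} (hφ : Sem (F := F4) 2 φ) (hφφ : ∀ v, φ (φ v) = v)
    {r : Fin 6 → F4} (hr : φ r = r) (hr0 : r ≠ 0) : ∃ x, φ x = x ∧ hermForm 6 F4 2 x r = 1 := by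
  obtain ⟨ω, hω⟩ := exists_omega hF
  have h2 := two_eq_zero hF
  obtain ⟨y, hy⟩ := exists_herm_ne_zero hF hr0
  have hy' : hermForm 6 F4 2 y r ≠ 0 := fun h0 => hy (herm_eq_zero_swap hF h0)
  obtain ⟨y', h5⟩ : ∃ y' : Fin 6 → F4, hermForm 6 F4 2 y' r = ω :=
    ⟨(ω * (hermForm 6 F4 2 y r)⁻¹) • y, by
      rw [herm_smul_left, mul_assoc, inv_mul_cancel₀ hy', mul_one]⟩
  refine ⟨φ y' + y', ?_, ?_⟩
  · rw [hφ.add, hφφ, add_comm]
  · have h6 : hermForm 6 F4 2 (φ y') r = ω ^ 2 := by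
      conv_lhs => rw [← hr]
      rw [hφ.herm, h5]
    rw [herm_add_left, h5, h6]
    linear_combination hω - h2

/-- **Multiplying type `0` by a fixed transposition gives type `1`.** -/
theorem type_mul {x : MulAut Spor.Fi22} (tx : Ty lift 0 x) {d : ↥(centralizer ({u} : Set Spor.Fi22))}
    (hd : d ∈ Dset lift) (hxd : x (d : Spor.Fi22) = d) : Ty lift 1 (x * MulAut.conj (d : Spor.Fi22)) := by
  obtain ⟨ω, hω⟩ := exists_omega hF
  have h2 := two_eq_zero hF
  obtain ⟨φ, g, k, hN, hφφ, hφ⟩ := tx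
  obtain ⟨w0, hw00, hw0, rfl⟩ := hd
  have hφi : ∀ v, Iso F4 v → Iso F4 (φ v) := fun v hv => hN.sem.iso hF (Or.inr rfl) hv
  -- rescale
  obtain ⟨w, hwi, hdw, hφw⟩ : ∃ w, Iso F4 w ∧ lift w = lift w0 ∧ φ w = w := by
    have h1 : Pt w0 (φ w0) := by
      apply pt_of_lift L ⟨hw00, hw0⟩ (hφi _ ⟨hw00, hw0⟩)
      apply Subtype.ext
      rw [← hφ _ ⟨hw00, hw0⟩, hxd]
    obtain ⟨c, hc, h3⟩ := h1
    have hc3 := pow_three hF hc
    refine ⟨c⁻¹ • w0, ⟨smul_ne_zero (inv_ne_zero hc) hw00, herm_smul_self hF hw0 _⟩, L.smul _ _ hw0 (inv_ne_zero hc), ?_⟩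
    rw [hN.sem.smul, h3, smul_smul]
    congr 1
    field_simp
  rw [← hdw]
  have hTs : ∀ v, act (UnitTwo.T hF w hwi.2) v = v + hermForm 6 F4 2 v w • w := fun v => act_T _ _ _ v
  let φ' : (Fin 6 → F4) → (Fin 6 → F4) := fun v => φ (act (UnitTwo.T hF w hwi.2) v)
  have hφ'e : ∀ v, φ' v = φ v + hermForm 6 F4 2 v w ^ 2 • w := by
    intro v
    show φ (act _ v) = _
    rw [hTs, hN.sem.add, hN.sem.smul, hφw]
  have hφ' : Sem (F := F4) 2 φ' := by
    have := hN.sem.comp (sem_act (UnitTwo.T hF w hwi.2))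
    simpa using this
  have hφφ' : ∀ v, φ' (φ' v) = v := by
    intro v
    rw [hφ'e, hφ'e, hN.sem.add, hN.sem.smul, hφφ, hφw, herm_add_left, herm_smul_left, hwi.2, mul_zero, add_zero,
      ← pow_mul]
    have h3 : hermForm 6 F4 2 (φ v) w = hermForm 6 F4 2 v w ^ 2 := by
      conv_lhs => rw [← hφw]
      rw [hN.sem.herm]
    rw [h3, ← pow_mul, add_assoc, ← add_smul]
    have h4 : hermForm 6 F4 2 v w ^ (2 * 2) + hermForm 6 F4 2 v w ^ (2 * 2) = 0 := by
      linear_combination hermForm 6 F4 2 v w ^ (2 * 2) * h2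
    rw [h4, zero_smul, add_zero]
  obtain ⟨c, g', k', hc, hN'⟩ := type_of_sem hφ' hφφ'
  have hc1 : c = 1 := by
    rcases hc with hc | hc
    · exfalso
      subst hc
      obtain ⟨v, hv, hvw⟩ := exists_fixed_one hN.sem hφφ hφw hwi.1
      have hwv : hermForm 6 F4 2 w v = 1 := by rw [herm_swap hF v w, hvw, one_pow]
      have h3 : φ' (v + ω • w) = v + ω • w := by
        rw [hφ'e, hN.sem.add, hN.sem.smul, hv, hφw, herm_add_left, herm_smul_left, hvw, hwi.2, mul_zero, add_zero,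
          one_pow, add_assoc, ← add_smul]
        congr 2
        linear_combination hω - ω * h2
      have h4 := iso_of_fixed hN' h3
      rw [herm_add_left, herm_add_right hF, herm_add_right hF, herm_smul_left, herm_smul_left, herm_smul_right,
        herm_smul_right, hvw, hwv, hwi.2, iso_of_fixed hN hv] at h4
      apply one_ne_zero (α := F4)
      linear_combination h2 + h4 - hω
    · exact hc
  subst hc1
  refine ⟨φ', g', k', hN', hφφ', fun v hv => ?_⟩
  have hv' : Iso F4 (act (UnitTwo.T hF w hwi.2) v) := (sem_act _).iso hF (Or.inl rfl) hv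
  have h5 : π (lift w) = pr 6 F4 2 (UnitTwo.T hF w hwi.2) := by
    rw [L.map w hwi.1 hwi.2, tau_eq_pr]
  show x (MulAut.conj (lift w : Spor.Fi22) (lift v : Spor.Fi22)) = _
  rw [MulAut.conj_apply]
  have h6 : (lift w : Spor.Fi22) * lift v * (lift w : Spor.Fi22)⁻¹ =
      lift (act (UnitTwo.T hF w hwi.2) v) := congrArg Subtype.val (L.conj _ _ v h5 hv.1 hv.2)
  rw [h6, hφ _ hv']

end lab

/-! ### The flip is of type `0` at `d` -/

open Cfsg.Agent.H836.EightPts (tp tp_fixed_iff In tp_pg pg tp_comm tp_comm' tp_surj tp_mem tp_mem_Cs)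
open Cfsg.Agent.Fischer.Fi22Order (X)
open Cfsg.Agent.H836.EightData (M1)
open Cfsg.Agent.H836.EightChk (Fx)
open Cfsg.Agent.H836.EightBlk (labV exists_code lab_surj lab_q comm_iff in_M1_d lab_d lab_inj fx_of_M1)
open Cfsg.Agent.H836.EightMain (in_M1_of_comm_d)
open Cfsg.Agent.StdO8.Model (V q B)
open Cfsg.Agent.StdO8.Code (dec qn Bn cc dec_surj dec_inj q_dec B_dec cc_inj)

theorem table : ∀ n : Fin 256, qn n.1 = true → n.1 ≠ 137 → Bn 137 n.1 = false →
    ∃ m : Fin 256, qn m.1 = true ∧ Bn 137 m.1 = false ∧ Bn n.1 m.1 = true := by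
  decide +kernel

theorem gen_mem (s : Gen) : gen s ∈ T := Cfsg.Agent.R01.Fi22Facts.gen_mem s

/-- A fixed transposition commuting with `d` does not commute with all fixed elements of `C(d)`. -/
theorem flip_not {r : Spor.Fi22} (hr : r ∈ T) (hfr : flipA r = r) (hrd : r * gen .d = gen .d * r) (hne : r ≠ gen .d) :
    ∃ y, flipA y = y ∧ y * gen .d = gen .d * y ∧ y * r ≠ r * y := by
  obtain ⟨x, rfl⟩ := tp_surj hr
  have hx1 : In M1 x := by
    apply in_M1_of_comm_d ((tp_fixed_iff x).1 hfr)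
    rw [tp_comm, tp_pg, hrd]
  obtain ⟨n, hn, hnx, -⟩ := exists_code x
  have hqn : qn n = true := by
    have h1 := lab_q hx1
    rw [hnx, q_dec] at h1
    cases h2 : qn n
    · rw [h2] at h1
      exact absurd h1 (by decide)
    · rfl
  have hBn : Bn 137 n = false := by
    have h1 : tp (pg .d) • x = x := by rw [tp_comm, tp_pg, hrd]
    rw [comm_iff in_M1_d hx1, lab_d, hnx, B_dec] at h1
    cases h2 : Bn 137 n
    · rfl
    · rw [h2] at h1
      exact absurd h1 (by decide)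
  have hn137 : n ≠ 137 := by
    rintro rfl
    apply hne
    rw [← tp_pg]
    congr 1
    exact lab_inj hx1 in_M1_d (by rw [hnx, lab_d])
  obtain ⟨m, hm1, hm2, hm3⟩ := table ⟨n, hn⟩ hqn hn137 hBn
  obtain ⟨w, hw, hwl⟩ := lab_surj (v := dec m.1) (by rw [q_dec, hm1]; rfl)
  refine ⟨tp w, tp_mem_Cs (fx_of_M1 hw), ?_, ?_⟩
  · have h1 : tp (pg .d) • w = w := by
      rw [comm_iff in_M1_d hw, lab_d, hwl, B_dec, hm2]
      rfl
    rw [tp_comm, tp_pg] at h1
    exact h1.symm
  · intro h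
    have h1 : tp x • w = w := by rw [tp_comm, h]
    rw [comm_iff hx1 hw, hnx, hwl, B_dec, show Bn n m.1 = true from hm3] at h1
    exact absurd h1 (by decide)

section flip

variable {π : ↥(centralizer ({gen .d} : Set Spor.Fi22)) →* PSU 6 F4 2}
  {lift : (Fin 6 → F4) → ↥(centralizer ({gen .d} : Set Spor.Fi22))}

theorem flip_d : flipA (gen .d) = gen .d := flipA_gen .d

theorem flip_i : flipA (gen .i) = gen .i := flipA_gen .i

/-- **The flip is of type `0` at `d`.** -/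
theorem type_flip (L : Lab hF π (zel (gen .d)) (zel (gen .d)) lift)
    (hT : ∀ y : ↥(centralizer ({gen .d} : Set Spor.Fi22)), (y : Spor.Fi22) ∈ T ↔ y = zel (gen .d) ∨ y ∈ Dset lift) :
    Ty lift 0 flipA := by
  rcases exists_type L (gen_mem .d) flipA_sq flipA_ne_conj flip_d with h | ⟨φ, g, k, hN, hφφ, hφ⟩
  · exact h
  · exfalso
    have h0 := hyp_iso_g hF hN.hyp 0
    have hrT : (lift (g 0) : Spor.Fi22) ∈ T := (hT _).2 (Or.inr (Lab.mem_D h0.1 h0.2))
    have hne : (lift (g 0) : Spor.Fi22) ≠ gen .d := by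
      intro h
      apply L.z_notMem
      have h1 : zel (gen .d) = lift (g 0) := Subtype.ext h.symm
      rw [h1]
      exact Lab.mem_D h0.1 h0.2
    obtain ⟨y, hy1, hy2, hy3⟩ := flip_not hrT (by rw [hφ _ h0, hN.fg])
      (mem_centralizer_singleton_iff.1 (lift (g 0)).2) hne
    apply hy3
    let a : MulAut ↥(centralizer ({gen .d} : Set Spor.Fi22)) :=
      restr flipA_sq (centralizer ({gen .d} : Set Spor.Fi22)) (inv_cent (x := flipA) ⟨gen .d, flip_d⟩)
    have h2 := comm_of_b L (a := a) hN.sem (fun v hv => Subtype.ext (hφ v hv)) hφφ hN.hyp hN.fg hN.k1 hN.k2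
      (by rw [hN.k0, one_smul]) (c := ⟨y, mem_centralizer_singleton_iff.2 hy2⟩) (Subtype.ext hy1)
    exact congrArg Subtype.val h2

end flip

/-! ### The element swapping `d` and `i` -/

theorem gen_three {x y : Gen} (h : coxLabel Spor.Fi22.edges x y = 3) : gen x * gen y * gen x = gen y * gen x * gen y := by
  have h1 := Cfsg.Agent.Fischer.Fi22PtsRep.gen_cox x y
  rw [h] at h1
  have hx := gen_sq x
  have hy := gen_sq y
  have h2 : gen x * gen y * gen x * (gen y * gen x * gen y) = 1 := by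
    rw [← h1, pow_succ, pow_two]
    group
  rw [eq_inv_of_mul_eq_one_left h2, mul_inv_rev, mul_inv_rev, inv_eq_of_mul_eq_one_left hx,
    inv_eq_of_mul_eq_one_left hy, mul_assoc]

/-- the swapping element -/
noncomputable def sw : Spor.Fi22 := gen .h * gen .d * gen .i * gen .h

theorem flip_sw : flipA sw = sw := by
  rw [sw, map_mul, map_mul, map_mul, flipA_gen, flipA_gen, flipA_gen]
  rfl

theorem sw_d : sw * gen .d * sw⁻¹ = gen .i := by
  have hdi := Cfsg.Agent.H833.AutFinal.di_comm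
  have h1 : gen .h * gen .d * gen .h = gen .d * gen .h * gen .d := gen_three (by decide)
  have h2 : gen .h * gen .i * gen .h = gen .i * gen .h * gen .i := gen_three (by decide)
  rw [mul_inv_eq_iff_eq_mul, sw]
  calc gen .h * gen .d * gen .i * gen .h * gen .d = gen .h * (gen .d * gen .i) * gen .h * gen .d := by group
    _ = gen .h * gen .i * (gen .d * gen .h * gen .d) := by rw [hdi]; group
    _ = (gen .h * gen .i * gen .h) * gen .d * gen .h := by rw [← h1]; group
    _ = gen .i * gen .h * (gen .i * gen .d) * gen .h := by rw [h2]; group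
    _ = gen .i * (gen .h * gen .d * gen .i * gen .h) := by rw [← hdi]; group

theorem conj_sw : IsConj (flipA * MulAut.conj (gen .i)) (flipA * MulAut.conj (gen .d)) := by
  apply IsConj.symm
  refine isConj_iff.2 ⟨MulAut.conj sw, ?_⟩
  have h1 : MulAut.conj sw * flipA = flipA * MulAut.conj sw := by
    ext y
    rw [MulAut.mul_apply, MulAut.mul_apply, MulAut.conj_apply, MulAut.conj_apply, map_mul, map_mul, map_inv, flip_sw]
  rw [← mul_assoc, h1, ← sw_d, map_mul, map_mul, map_inv, mul_assoc, mul_assoc, mul_assoc]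

/-- **The outer involutory automorphisms of `Fi22`.** -/
theorem outer_inv (t : MulAut Spor.Fi22) (ht : orderOf t = 2)
    (hout : t ∉ (MulAut.conj : Spor.Fi22 →* MulAut Spor.Fi22).range) :
    IsConj t flipA ∨ IsConj t (flipA * MulAut.conj (gen .d)) ∨ IsConj t (flipA * MulAut.conj (gen .d * gen .i)) := by
  have htt : t * t = 1 := by rw [← pow_two, ← ht, pow_orderOf_eq_one]
  obtain ⟨u, hu, htu⟩ := exists_fixed htt
  obtain ⟨g, hg⟩ := isConj_iff.1 ((show IsConj (gen .a) (gen .d) from gen_mem .d).symm.trans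
    (show IsConj (gen .a) u from hu))
  obtain ⟨t', ht'⟩ : ∃ t', t' = (MulAut.conj g)⁻¹ * t * MulAut.conj g := ⟨_, rfl⟩
  have htc : IsConj t t' := isConj_iff.2 ⟨(MulAut.conj g)⁻¹, by rw [ht', inv_inv]⟩
  have htt' : t' * t' = 1 := by
    rw [ht']
    calc (MulAut.conj g)⁻¹ * t * MulAut.conj g * ((MulAut.conj g)⁻¹ * t * MulAut.conj g)
        = (MulAut.conj g)⁻¹ * (t * t) * MulAut.conj g := by group
      _ = 1 := by rw [htt]; group
  have hout' : ∀ x, t' ≠ MulAut.conj x := by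
    intro x hx
    apply hout
    refine ⟨g * x * g⁻¹, ?_⟩
    rw [map_mul, map_mul, map_inv, ← hx, ht']
    group
  have htd : t' (gen .d) = gen .d := by
    rw [ht']
    show (MulAut.conj g)⁻¹ (t (MulAut.conj g (gen .d))) = _
    rw [MulAut.conj_apply, hg, htu, ← hg, ← map_inv, MulAut.conj_apply]
    group
  obtain ⟨π, lift, L, hT⟩ := Cfsg.Agent.R01.Fi22Facts.loc _ (gen_mem .d)
  have f0 := type_flip L hT
  have hdi := Cfsg.Agent.H833.AutFinal.di_comm
  have hiD : (⟨gen .i, mem_centralizer_singleton_iff.2 hdi.symm⟩ : ↥(centralizer ({gen .d} : Set Spor.Fi22))) ∈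
      Dset lift := by
    rcases (hT ⟨gen .i, mem_centralizer_singleton_iff.2 hdi.symm⟩).1 (gen_mem .i) with h | h
    · exact absurd (congrArg Subtype.val h).symm Cfsg.Agent.H833.AutFinal.di_ne
    · exact h
  have f1 := type_mul L f0 hiD flip_i
  rcases exists_type L (gen_mem .d) htt' hout' htd with h | h
  · rcases same L (gen_mem .d) (fun y hy => (hT y).1 hy) (by ring) flipA_ne_conj hout' flip_d htd f0 h with h1 | h1
    · exact Or.inl (htc.trans h1)
    · exact Or.inr (Or.inl (htc.trans h1))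
  · right
    have hs : ∀ x, flipA * MulAut.conj (gen .i) ≠ MulAut.conj x := by
      intro x hx
      apply flipA_ne_conj (x * (gen .i)⁻¹)
      rw [map_mul, map_inv, ← hx]
      group
    have hsd : (flipA * MulAut.conj (gen .i)) (gen .d) = gen .d := by
      rw [MulAut.mul_apply, MulAut.conj_apply, ← hdi, mul_inv_cancel_right, flip_d]
    rcases same L (gen_mem .d) (fun y hy => (hT y).1 hy) (by ring) hs hout' hsd htd f1 h with h1 | h1
    · exact Or.inl ((htc.trans h1).trans conj_sw)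
    · right
      rw [hdi, map_mul, ← mul_assoc]
      exact htc.trans h1

end Cfsg.Agent.H830.OutInv22
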