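import Cfsg.Agent.H160.QDisc

/-!
# Discriminants of symmetric matrices with a given isometry (helper830)

`isSquare_det_skew` : the determinant of a skew-symmetric matrix is a square;
`isSquare_of_skewAdj` : `M` symmetric, `Aᵀ M = - M A` ⟹ `det M * det A` is a square;
`isSquare_of_isometry` : `gᵀ M g = M` ⟹ `det M * (det (1 - g) * det (1 + g) * det g)` is a square;
`isSquare_of_cyclotomic` : charpoly of `g` is `Φ_r`, `r` an odd prime ⟹ `r * det M` is a square.
-/

set_option autoImplicit false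
set_option linter.unusedSectionVars false

namespace Cfsg.Agent.H830.Disc

open Matrix Module Polynomial

variable {ι : Type*} [Fintype ι] [DecidableEq ι] {F : Type*} [Field F]

theorem isSquare_det_skew (h2 : (2 : F) ≠ 0) {S : Matrix ι ι F} (hS : Sᵀ = -S) : IsSquare S.det := by
  by_cases hdet : S.det = 0
  · rw [hdet]; exact IsSquare.zero
  have hu : IsUnit S := (Matrix.isUnit_iff_isUnit_det S).2 (isUnit_iff_ne_zero.2 hdet)
  have h1 := Cfsg.Agent.H160.QDisc.isSquare_det_of_isAlt (Matrix.toBilin' S)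
    (Cfsg.Agent.H194.NilForm.isAlt_toBilin' h2 hS)
    (fun u hu' => (Cfsg.Agent.H194.NilForm.nondeg_of_isUnit hu).1 u hu') (Pi.basisFun F ι)
  rwa [LinearMap.BilinForm.toMatrix_basisFun, LinearMap.BilinForm.toMatrix'_toBilin'] at h1

theorem isSquare_of_skewAdj (h2 : (2 : F) ≠ 0) {M A : Matrix ι ι F} (hM : Mᵀ = M) (hA : Aᵀ * M = -(M * A)) :
    IsSquare (M.det * A.det) := by
  rw [← Matrix.det_mul]
  apply isSquare_det_skew h2
  rw [Matrix.transpose_mul, hM, hA]

theorem isSquare_of_isometry (h2 : (2 : F) ≠ 0) {M g : Matrix ι ι F} (hM : Mᵀ = M) (hg : gᵀ * M * g = M)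
    (hgu : IsUnit g.det) : IsSquare (M.det * (g.det * ((g - 1).det * (g + 1).det))) := by
  have h1 : gᵀ * M = M * g⁻¹ := by
    conv_rhs => rw [← hg]
    rw [Matrix.mul_assoc _ g, Matrix.mul_nonsing_inv _ hgu, Matrix.mul_one]
  have h3 : (g⁻¹)ᵀ * M = M * g := by
    have h4 := congrArg Matrix.transpose h1
    rw [Matrix.transpose_mul, Matrix.transpose_mul, Matrix.transpose_transpose, hM] at h4
    exact h4.symm
  have h4 := isSquare_of_skewAdj (A := g - g⁻¹) h2 hM (by
    rw [Matrix.transpose_sub, Matrix.sub_mul, h1, h3, Matrix.mul_sub]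
    abel)
  have h5 : (g - g⁻¹).det * g.det = (g - 1).det * (g + 1).det := by
    rw [← Matrix.det_mul, ← Matrix.det_mul, Matrix.sub_mul, Matrix.nonsing_inv_mul _ hgu]
    congr 1
    rw [Matrix.sub_mul, Matrix.mul_add, Matrix.mul_one, Matrix.one_mul]
    abel
  rw [← h5]
  have h6 : M.det * (g.det * ((g - g⁻¹).det * g.det)) = (g.det * g.det) * (M.det * (g - g⁻¹).det) := by ring
  rw [h6]
  exact (IsSquare.mul_self _).mul h4

theorem det_eval (g : Matrix ι ι F) : (g - 1).det = (-1) ^ Fintype.card ι * g.charpoly.eval 1 ∧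
    (g + 1).det = (-1) ^ Fintype.card ι * g.charpoly.eval (-1) ∧
    g.det = (-1) ^ Fintype.card ι * g.charpoly.eval 0 := by
  refine ⟨?_, ?_, ?_⟩
  · rw [Matrix.eval_charpoly, map_one, ← Matrix.det_neg, neg_sub]
  · rw [Matrix.eval_charpoly, ← Matrix.det_neg, neg_sub]
    congr 1
    rw [map_neg, map_one, sub_neg_eq_add]
  · rw [Matrix.eval_charpoly, map_zero, zero_sub, Matrix.det_neg, ← mul_assoc, ← mul_pow]
    simp

theorem isSquare_of_cyclotomic (h2 : (2 : F) ≠ 0) {r : ℕ} (hr : r.Prime) (hr2 : r ≠ 2) {M g : Matrix ι ι F}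
    (hM : Mᵀ = M) (hg : gᵀ * M * g = M) (hchar : g.charpoly = cyclotomic r F) : IsSquare ((r : F) * M.det) := by
  have := Fact.mk hr
  obtain ⟨h3, h4, h5⟩ := det_eval g
  have hodd : Odd r := hr.odd_of_ne_two hr2
  have hcard : Fintype.card ι = r - 1 := by
    rw [← Matrix.charpoly_natDegree_eq_dim g, hchar, natDegree_cyclotomic, Nat.totient_prime hr]
  have heven : Even (Fintype.card ι) := by
    rw [hcard]
    exact Nat.Odd.sub_odd hodd odd_one
  have e1 : (cyclotomic r F).eval 1 = r := by rw [eval_one_cyclotomic_prime]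
  have e0 : (cyclotomic r F).eval 0 = 1 := by
    rw [← coeff_zero_eq_eval_zero, cyclotomic_coeff_zero _ hr.one_lt]
  have e2 : (cyclotomic r F).eval (-1) = 1 := by
    have h6 := cyclotomic_prime_mul_X_sub_one F r
    have h7 := congrArg (fun P : F[X] => P.eval (-1)) h6
    simp only [eval_mul, eval_sub, eval_X, eval_one, eval_pow, hodd.neg_one_pow] at h7
    have h8 : (-1 - 1 : F) ≠ 0 := by
      intro h
      apply h2
      linear_combination -h
    exact mul_right_cancel₀ h8 (by rw [one_mul]; exact h7)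
  rw [hchar, heven.neg_one_pow, one_mul] at h3 h4 h5
  rw [e1] at h3
  rw [e2] at h4
  rw [e0] at h5
  have h6 := isSquare_of_isometry h2 hM hg (by rw [h5]; exact isUnit_one)
  rw [h3, h4, h5, one_mul, mul_one] at h6
  rwa [mul_comm]

end Cfsg.Agent.H830.Disc
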