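import Cfsg.Agent.H830.DiscOp

/-!
# Discriminants of the forms fixed by cores with socle `PSL₂(r)` of degree `r ± 1` (helper830)

`r = |K|` an odd prime `≥ 5`, `M` a symmetric matrix with `gᵀ M g = M` for all `g ∈ P = ρ(SL₂(K))`.

* `disc_sub_one` : degree `r - 1` ⟹ `r * det M` is a square;
* `disc_add_one` : degree `r + 1` ⟹ `r * det M * (4 - τ²)` is a square, `τ = tr ρ(t a)`, any `a` with `a² ≠ 1`.
-/

set_option autoImplicit false
set_option linter.unusedSectionVars false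

namespace Cfsg.Agent.H830.Disc

open Matrix Module Polynomial Cfsg Cfsg.Geo Cfsg.Agent.H464.Sl2 Cfsg.Agent.H915.LD Cfsg.Agent.H830.Sl2Form

universe u v

section Fin

variable {K : Type v} [Field K] [Fintype K] {F : Type u} [Field F] {n : ℕ}

theorem adj_fin {G : Type*} [Group G] {ι : Type*} [Fintype ι] [DecidableEq ι] (ρ : G →* GL ι F)
    {M : Matrix ι ι F} (hinv : ∀ g, (ρ g : Matrix ι ι F)ᵀ * M * (ρ g : Matrix ι ι F) = M) (g : G) :
    (ρ g : Matrix ι ι F)ᵀ * M = M * (ρ g⁻¹ : Matrix ι ι F) := by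
  conv_rhs => rw [← hinv g]
  rw [Matrix.mul_assoc, ← Units.val_mul, ← map_mul, mul_inv_cancel, map_one, Units.val_one, Matrix.mul_one]

theorem disc_sub_one_fin (h2 : (2 : F) ≠ 0) (hK : (Fintype.card K : F) ≠ 0)
    (ρ : SpecialLinearGroup (Fin 2) K →* GL (Fin n) F) (hρ : ρ ≠ 1)
    (habs : ActsAbsolutelyIrreducibly (matrixSet ρ.range)) (h5 : 5 ≤ Fintype.card K) (hr : (Fintype.card K).Prime)
    (hn : n + 1 = Fintype.card K) {M : Matrix (Fin n) (Fin n) F} (hM : Mᵀ = M)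
    (hinv : ∀ g, (ρ g : Matrix (Fin n) (Fin n) F)ᵀ * M * (ρ g : Matrix (Fin n) (Fin n) F) = M) :
    IsSquare ((Fintype.card K : F) * M.det) := by
  set k := AlgebraicClosure F
  set f : F →+* k := algebraMap F k
  have hKk : (Fintype.card K : k) ≠ 0 := by
    intro h
    apply hK
    apply f.injective
    rw [map_natCast, h, map_zero]
  obtain ⟨ψ, hψ⟩ := exists_prim (K := K) hKk
  have h1 := det_sub_one (ext ρ k) hψ hKk (span_ext ρ k (span_eq_top ρ habs)) (ext_ne_one ρ k hρ) h5 hr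
    (by rw [Module.finrank_fin_fun]; exact hn)
  have h3 : (((ρ (u 1) : GL (Fin n) F) : Matrix (Fin n) (Fin n) F) - (ρ (u (-1)) : Matrix (Fin n) (Fin n) F)).det =
      (Fintype.card K : F) := by
    apply f.injective
    rw [map_natCast, ← h1, RingHom.map_det, ← LinearMap.det_toLin', ext_apply, ext_apply]
    congr 1
    rw [← map_sub]
    congr 1
    ext i j
    simp
    rfl
  rw [mul_comm, ← h3]
  apply isSquare_of_skewAdj h2 hM
  rw [Matrix.transpose_sub, Matrix.sub_mul, adj_fin ρ hinv, adj_fin ρ hinv, u_inv, u_inv, neg_neg, Matrix.mul_sub]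
  abel

/-- the average over the unipotent group -/
noncomputable def avg (ρ : SpecialLinearGroup (Fin 2) K →* GL (Fin n) F) : Matrix (Fin n) (Fin n) F :=
  ((Fintype.card K : F))⁻¹ • ∑ x : K, (ρ (u x) : Matrix (Fin n) (Fin n) F)

theorem avg_comm (ρ : SpecialLinearGroup (Fin 2) K →* GL (Fin n) F) (a : Kˣ) :
    (ρ (t a) : Matrix (Fin n) (Fin n) F) * avg ρ = avg ρ * (ρ (t a) : Matrix (Fin n) (Fin n) F) := by
  unfold avg
  rw [mul_smul_comm, smul_mul_assoc, Finset.mul_sum, Finset.sum_mul]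
  congr 1
  have ha : (a : K) ^ 2 ≠ 0 := pow_ne_zero 2 a.ne_zero
  refine Finset.sum_equiv (Equiv.mulLeft₀ ((a : K) ^ 2) ha) (by simp) fun x _ => ?_
  have h1 : (Equiv.mulLeft₀ ((a : K) ^ 2) ha) x = (a : K) ^ 2 * x := rfl
  rw [h1, ← Units.val_mul, ← map_mul, t_mul_u, map_mul, Units.val_mul]

theorem avg_adj (ρ : SpecialLinearGroup (Fin 2) K →* GL (Fin n) F) {M : Matrix (Fin n) (Fin n) F}
    (hinv : ∀ g, (ρ g : Matrix (Fin n) (Fin n) F)ᵀ * M * (ρ g : Matrix (Fin n) (Fin n) F) = M) :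
    (avg ρ)ᵀ * M = M * avg ρ := by
  unfold avg
  rw [Matrix.transpose_smul, smul_mul_assoc, mul_smul_comm, Matrix.transpose_sum, Finset.sum_mul, Finset.mul_sum]
  congr 1
  refine Finset.sum_equiv (Equiv.neg K) (by simp) fun x _ => ?_
  rw [Equiv.neg_apply, adj_fin ρ hinv, u_inv]

theorem disc_add_one_fin (h2 : (2 : F) ≠ 0) (hK : (Fintype.card K : F) ≠ 0)
    (ρ : SpecialLinearGroup (Fin 2) K →* GL (Fin n) F) (hρ : ρ ≠ 1)
    (habs : ActsAbsolutelyIrreducibly (matrixSet ρ.range)) (h5 : 5 ≤ Fintype.card K) (hr : (Fintype.card K).Prime)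
    (hn : n = Fintype.card K + 1) {M : Matrix (Fin n) (Fin n) F} (hM : Mᵀ = M)
    (hinv : ∀ g, (ρ g : Matrix (Fin n) (Fin n) F)ᵀ * M * (ρ g : Matrix (Fin n) (Fin n) F) = M)
    {a : Kˣ} (ha : a ^ 2 ≠ 1) :
    IsSquare (M.det * ((4 - (ρ (t a) : Matrix (Fin n) (Fin n) F).trace ^ 2) * (Fintype.card K : F))) := by
  set k := AlgebraicClosure F
  set f : F →+* k := algebraMap F k
  have hKk : (Fintype.card K : k) ≠ 0 := by
    intro h
    apply hK
    apply f.injective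
    rw [map_natCast, h, map_zero]
  obtain ⟨ψ, hψ⟩ := exists_prim (K := K) hKk
  have h1 := det_add_one (ext ρ k) hψ hKk (span_ext ρ k (span_eq_top ρ habs)) (ext_ne_one ρ k hρ) h5 hr
    (by rw [Module.finrank_fin_fun]; exact hn) ha
  set e : Matrix (Fin n) (Fin n) F := avg ρ with he'
  have he : Matrix.toLin' (e.map f) = E (ext ρ k) ψ 0 := by
    unfold E
    have h4 : e.map f = ((Fintype.card K : k))⁻¹ • ∑ x : K, (ρ (u x) : Matrix (Fin n) (Fin n) F).map f := by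
      ext i j
      simp only [he', avg, Matrix.map_apply, Matrix.smul_apply, smul_eq_mul, map_mul, map_inv₀, map_natCast,
        Matrix.sum_apply, map_sum]
    rw [h4, map_smul, map_sum]
    congr 1
    refine Finset.sum_congr rfl fun x _ => ?_
    rw [zero_mul, neg_zero, AddChar.map_zero_eq_one, one_smul]
    rfl
  have h3 : (((ρ (u 1) : GL (Fin n) F) : Matrix (Fin n) (Fin n) F) - (ρ (u (-1)) : Matrix (Fin n) (Fin n) F) +
      ((ρ (t a) : Matrix (Fin n) (Fin n) F) - (ρ (t a⁻¹) : Matrix (Fin n) (Fin n) F)) * e).det =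
      (4 - (ρ (t a) : Matrix (Fin n) (Fin n) F).trace ^ 2) * (Fintype.card K : F) := by
    apply f.injective
    rw [map_mul, map_natCast, map_sub, map_pow, ← trace_ext, map_ofNat, ← h1, RingHom.map_det, ← LinearMap.det_toLin',
      ← he]
    simp only [ext_apply]
    congr 1
    rw [← map_sub, ← map_sub, Module.End.mul_eq_comp, ← Matrix.toLin'_mul, ← map_add]
    congr 1
    rw [RingHom.mapMatrix_apply, Matrix.map_add _ (map_add f), Matrix.map_mul, Matrix.map_sub _ (map_sub f),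
      Matrix.map_sub _ (map_sub f)]
  have hadj := adj_fin ρ hinv
  have hcomm := avg_comm ρ
  have heM : eᵀ * M = M * e := avg_adj ρ hinv
  rw [← h3]
  apply isSquare_of_skewAdj h2 hM
  have ht : ∀ a : Kˣ, (t a)⁻¹ = t a⁻¹ := by
    intro a
    rw [inv_eq_iff_mul_eq_one, ← t_mul, mul_inv_cancel, t_one]
  rw [Matrix.transpose_add, Matrix.transpose_sub, Matrix.transpose_mul, Matrix.transpose_sub, Matrix.add_mul,
    Matrix.sub_mul, hadj, hadj, Matrix.mul_assoc, Matrix.sub_mul, hadj, hadj, u_inv, u_inv, neg_neg, ht, ht, inv_inv,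
    ← Matrix.mul_sub, ← Matrix.mul_sub, ← Matrix.mul_assoc, heM, ← Matrix.mul_neg]
  rw [Matrix.mul_assoc, ← Matrix.mul_add]
  congr 1
  rw [Matrix.mul_sub, Matrix.sub_mul, hcomm, hcomm]
  abel

end Fin

section gen

variable {ι : Type} [Fintype ι] [DecidableEq ι] {F : Type u} [Field F] {K : Type v} [Field K] [Fintype K]
  (ρ : SpecialLinearGroup (Fin 2) K →* GL ι F)

/-- the reindexed representation -/
theorem reindex_facts (hρ : ρ ≠ 1) (habs : ActsAbsolutelyIrreducibly (matrixSet ρ.range)) {M : Matrix ι ι F}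
    (hM : Mᵀ = M) (hinv : ∀ g, (ρ g : Matrix ι ι F)ᵀ * M * (ρ g : Matrix ι ι F) = M) :
    ∃ (ρ' : SpecialLinearGroup (Fin 2) K →* GL (Fin (Fintype.card ι)) F)
      (M' : Matrix (Fin (Fintype.card ι)) (Fin (Fintype.card ι)) F), ρ' ≠ 1 ∧
      ActsAbsolutelyIrreducibly (matrixSet ρ'.range) ∧ M'ᵀ = M' ∧
      (∀ g, (ρ' g : Matrix (Fin (Fintype.card ι)) (Fin (Fintype.card ι)) F)ᵀ * M' *
        (ρ' g : Matrix (Fin (Fintype.card ι)) (Fin (Fintype.card ι)) F) = M') ∧ M'.det = M.det ∧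
      ∀ g, (ρ' g : Matrix (Fin (Fintype.card ι)) (Fin (Fintype.card ι)) F).trace = (ρ g : Matrix ι ι F).trace := by
  let ee := Fintype.equivFin ι
  let re := reGL (F := F) ee
  have h1 : (re.toMonoidHom.comp ρ).range = ρ.range.map re.toMonoidHom := by rw [MonoidHom.range_comp]
  refine ⟨re.toMonoidHom.comp ρ, Matrix.reindex ee ee M, ?_, ?_, ?_, ?_, ?_, ?_⟩
  · intro h
    apply hρ
    ext1 g
    apply re.injective
    have h2 := DFunLike.congr_fun h g
    rw [MonoidHom.one_apply, map_one]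
    exact h2
  · rw [h1]; exact absIrr_reGL _ habs
  · rw [Matrix.reindex_apply, Matrix.transpose_submatrix, hM]
  · intro g
    change (reGL ee (ρ g) : Matrix (Fin (Fintype.card ι)) (Fin (Fintype.card ι)) F)ᵀ * _ *
        (reGL ee (ρ g) : Matrix (Fin (Fintype.card ι)) (Fin (Fintype.card ι)) F) = _
    rw [reGL_coe']
    have h4 := congrArg (Matrix.reindex ee ee) (hinv g)
    simp only [Matrix.reindex_apply] at h4 ⊢
    rw [← Matrix.submatrix_mul_equiv _ _ _ ee.symm, ← Matrix.submatrix_mul_equiv _ _ _ ee.symm] at h4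
    rw [Matrix.transpose_submatrix]
    exact h4
  · rw [Matrix.det_reindex_self]
  · intro g
    exact trace_reGL ee (ρ g)

theorem disc_sub_one' (h2 : (2 : F) ≠ 0) (hK : (Fintype.card K : F) ≠ 0) (hρ : ρ ≠ 1)
    (habs : ActsAbsolutelyIrreducibly (matrixSet ρ.range)) (h5 : 5 ≤ Fintype.card K) (hr : (Fintype.card K).Prime)
    (hn : Fintype.card ι + 1 = Fintype.card K) {M : Matrix ι ι F} (hM : Mᵀ = M)
    (hinv : ∀ g, (ρ g : Matrix ι ι F)ᵀ * M * (ρ g : Matrix ι ι F) = M) :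
    IsSquare ((Fintype.card K : F) * M.det) := by
  obtain ⟨ρ', M', h1, h3, h4, h6, h7, h8⟩ := reindex_facts ρ hρ habs hM hinv
  rw [← h7]
  exact disc_sub_one_fin h2 hK ρ' h1 h3 h5 hr hn h4 h6

theorem disc_add_one' (h2 : (2 : F) ≠ 0) (hK : (Fintype.card K : F) ≠ 0) (hρ : ρ ≠ 1)
    (habs : ActsAbsolutelyIrreducibly (matrixSet ρ.range)) (h5 : 5 ≤ Fintype.card K) (hr : (Fintype.card K).Prime)
    (hn : Fintype.card ι = Fintype.card K + 1) {M : Matrix ι ι F} (hM : Mᵀ = M)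
    (hinv : ∀ g, (ρ g : Matrix ι ι F)ᵀ * M * (ρ g : Matrix ι ι F) = M) {a : Kˣ} (ha : a ^ 2 ≠ 1) :
    IsSquare (M.det * ((4 - tr (ρ (t a)) ^ 2) * (Fintype.card K : F))) := by
  obtain ⟨ρ', M', h1, h3, h4, h6, h7, h8⟩ := reindex_facts ρ hρ habs hM hinv
  rw [← h7]
  unfold tr
  rw [← h8]
  exact disc_add_one_fin h2 hK ρ' h1 h3 h5 hr hn h4 h6 ha

variable [Finite F] (p : ℕ) [hp : Fact p.Prime] [CharP F p] {P : Subgroup (GL ι F)}

theorem two_ne_zero_of (hp2 : p ≠ 2) : (2 : F) ≠ 0 := by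
  intro h
  have h3 : ((2 : ℕ) : F) = 0 := by exact_mod_cast h
  rw [CharP.cast_eq_zero_iff F p] at h3
  exact hp2 ((Nat.prime_dvd_prime_iff_eq hp.out Nat.prime_two).1 h3)

theorem ne_one_of_core {G : Type v} [Group G] (ρ : G →* GL ι F) (hP : ρ.range = P) (hC : Core P) : ρ ≠ 1 := by
  rintro rfl
  subst hP
  apply hC.nonabelian
  have h3 : Subsingleton (1 : G →* GL ι F).range := by
    rw [MonoidHom.range_one]
    infer_instance
  have h2 : Subsingleton (Soc (1 : G →* GL ι F).range) := (toSoc_surjective _).subsingleton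
  exact ⟨⟨fun a b => Subsingleton.elim _ _⟩⟩

/-- **Degree `r - 1`.** -/
theorem disc_sub_one (hp2 : p ≠ 2) (hC : Core P) (h5 : 5 ≤ Fintype.card K) (hr : (Fintype.card K).Prime)
    (hpK : ¬ p ∣ Fintype.card K) (e : Soc P ≃* ProjectiveSpecialLinearGroup (Fin 2) K)
    (hn : Fintype.card ι + 1 = Fintype.card K) {M : Matrix ι ι F} (hM : Mᵀ = M)
    (hinv : ∀ g ∈ P, (g : Matrix ι ι F)ᵀ * M * (g : Matrix ι ι F) = M) :
    IsSquare ((Fintype.card K : F) * M.det) := by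
  have h9 : Fintype.card K ≠ 9 := by
    intro h
    rw [h] at hr
    norm_num at hr
  obtain ⟨ρ, hρ, -⟩ := exists_rep hC.perfect (by omega) (by omega) h9 e
  refine disc_sub_one' ρ (two_ne_zero_of p hp2) (fun h => hpK ((CharP.cast_eq_zero_iff F p _).1 h))
    (ne_one_of_core ρ hρ hC) (by rw [hρ]; exact hC.absIrred) h5 hr hn hM (fun g => hinv _ ?_)
  rw [← hρ]
  exact ⟨g, rfl⟩

/-- **Degree `r + 1`.** -/
theorem disc_add_one (hp2 : p ≠ 2) (hC : Core P) (h5 : 5 ≤ Fintype.card K) (hr : (Fintype.card K).Prime)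
    (hpK : ¬ p ∣ Fintype.card K) (ρ : SpecialLinearGroup (Fin 2) K →* GL ι F) (hρ : ρ.range = P)
    (hn : Fintype.card ι = Fintype.card K + 1) {M : Matrix ι ι F} (hM : Mᵀ = M)
    (hinv : ∀ g ∈ P, (g : Matrix ι ι F)ᵀ * M * (g : Matrix ι ι F) = M) {a : Kˣ} (ha : a ^ 2 ≠ 1) :
    IsSquare (M.det * ((4 - tr (ρ (t a)) ^ 2) * (Fintype.card K : F))) := by
  refine disc_add_one' ρ (two_ne_zero_of p hp2) (fun h => hpK ((CharP.cast_eq_zero_iff F p _).1 h))
    (ne_one_of_core ρ hρ hC) (by rw [hρ]; exact hC.absIrred) h5 hr hn hM (fun g => hinv _ ?_) ha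
  rw [← hρ]
  exact ⟨g, rfl⟩

end gen

end Cfsg.Agent.H830.Disc
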