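import Cfsg.Agent.H830.Disc
import Cfsg.Agent.H830.Sl2Type

/-!
# Discriminants of the orthogonal modules of `SL₂(r)` of dimension `r ± 1` in cross characteristic (helper830)
-/

set_option autoImplicit false
set_option linter.unusedSectionVars false

namespace Cfsg.Agent.H830.Disc

open Matrix Module Polynomial Cfsg Cfsg.Geo Cfsg.Agent.H464.Sl2

section prime

variable {K : Type*} [Field K] [Fintype K] {k : Type*} [Field k] {ψ : AddChar K k}

/-- a primitive character of a prime field is injective -/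
theorem psi_eq_one (hr : (Fintype.card K).Prime) (hψ : ψ.IsPrimitive) {d : K} (hd : ψ d = 1) : d = 0 := by
  by_contra hd0
  apply hψ one_ne_zero
  rw [AddChar.mulShift_one]
  ext x
  have := Fact.mk hr
  let f : ZMod (Fintype.card K) ≃+* K := ZMod.ringEquivOfPrime K hr rfl
  have h1 : x = (f.symm (x / d)).val • d := by
    rw [nsmul_eq_mul, ← map_natCast f, ZMod.natCast_zmod_val, f.apply_symm_apply, div_mul_cancel₀ _ hd0]
  rw [h1, AddChar.map_nsmul_eq_pow, hd, one_pow, AddChar.one_apply]

theorem psi_injective (hr : (Fintype.card K).Prime) (hψ : ψ.IsPrimitive) : Function.Injective ψ := by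
  intro a b h
  rw [← sub_eq_zero]
  apply psi_eq_one hr hψ
  rw [AddChar.map_sub_eq_div, h, div_self]
  intro h0
  have h1 : ψ (b + -b) = 0 := by rw [AddChar.map_add_eq_mul, h0, zero_mul]
  rw [add_neg_cancel, AddChar.map_zero_eq_one] at h1
  exact one_ne_zero h1

theorem psi_pow (x : K) : ψ x ^ Fintype.card K = 1 := by
  rw [← AddChar.map_nsmul_eq_pow, nsmul_eq_mul, FiniteField.cast_card_eq_zero, zero_mul, AddChar.map_zero_eq_one]

variable [DecidableEq K]

theorem prod_one_sub_psi (hr : (Fintype.card K).Prime) (hψ : ψ.IsPrimitive) :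
    ∏ b ∈ Finset.univ.erase (0 : K), (1 - ψ b) = (Fintype.card K : k) := by
  classical
  have := Fact.mk hr
  have hinj := psi_injective hr hψ
  have hprim : ∀ b : K, b ≠ 0 → IsPrimitiveRoot (ψ b) (Fintype.card K) := by
    intro b hb
    refine IsPrimitiveRoot.mk_of_lt _ hr.pos (psi_pow b) ?_
    intro l hl hl2 h
    rw [← AddChar.map_nsmul_eq_pow] at h
    have h1 := psi_eq_one hr hψ h
    rw [nsmul_eq_mul] at h1
    rcases mul_eq_zero.1 h1 with h2 | h2
    · have : CharP K (Fintype.card K) := (CharP.charP_iff_prime_eq_zero hr).2 (Nat.cast_card_eq_zero K)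
      rw [CharP.cast_eq_zero_iff K (Fintype.card K)] at h2
      exact absurd (Nat.le_of_dvd hl h2) (not_le.2 hl2)
    · exact hb h2
  have himg : (Finset.univ.erase (0 : K)).image ψ = primitiveRoots (Fintype.card K) k := by
    apply Finset.eq_of_subset_of_card_le
    · intro x hx
      obtain ⟨b, hb, rfl⟩ := Finset.mem_image.1 hx
      rw [mem_primitiveRoots hr.pos]
      exact hprim b (Finset.ne_of_mem_erase hb)
    · rw [Finset.card_image_of_injective _ hinj, Finset.card_erase_of_mem (Finset.mem_univ _), Finset.card_univ,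
        (hprim 1 one_ne_zero).card_primitiveRoots, Nat.totient_prime hr]
  have h1 : (cyclotomic (Fintype.card K) k).eval 1 = (Fintype.card K : k) := by rw [eval_one_cyclotomic_prime]
  rw [cyclotomic_eq_prod_X_sub_primitiveRoots (hprim 1 one_ne_zero), ← himg, Finset.prod_image (fun _ _ _ _ h => hinj h),
    eval_prod] at h1
  rw [← h1]
  exact Finset.prod_congr rfl fun b _ => by simp

theorem prod_psi_sub (hr : (Fintype.card K).Prime) (hr2 : Fintype.card K ≠ 2) (hψ : ψ.IsPrimitive) :
    ∏ b ∈ Finset.univ.erase (0 : K), (ψ b - ψ (-b)) = (Fintype.card K : k) := by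
  classical
  have hodd : Odd (Fintype.card K) := hr.odd_of_ne_two hr2
  have h2 : (2 : K) ≠ 0 := by
    intro h
    have : CharP K (Fintype.card K) := (CharP.charP_iff_prime_eq_zero hr).2 (Nat.cast_card_eq_zero K)
    have h3 : ((2 : ℕ) : K) = 0 := by exact_mod_cast h
    rw [CharP.cast_eq_zero_iff K (Fintype.card K), Nat.prime_dvd_prime_iff_eq hr Nat.prime_two] at h3
    exact hr2 h3
  have hsum : ∑ b ∈ Finset.univ.erase (0 : K), b = 0 := by
    have h3 : ∑ b : K, b = ∑ b : K, -b := by
      rw [← Equiv.sum_comp (Equiv.neg K)]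
      rfl
    rw [Finset.sum_neg_distrib] at h3
    have h4 : (2 : K) * ∑ b : K, b = 0 := by linear_combination h3
    have h5 := (mul_eq_zero.1 h4).resolve_left h2
    rwa [← Finset.add_sum_erase _ _ (Finset.mem_univ (0 : K)), zero_add] at h5
  have e2 : ∀ b : K, ψ b - ψ (-b) = ψ b * (1 - ψ ((-2) * b)) := by
    intro b
    rw [mul_sub, mul_one, ← AddChar.map_add_eq_mul]
    congr 2
    ring
  rw [Finset.prod_congr rfl fun b _ => e2 b, Finset.prod_mul_distrib]
  have e3 : ∏ b ∈ Finset.univ.erase (0 : K), ψ b = 1 := by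
    have h6 : ∀ s : Finset K, ∏ b ∈ s, ψ b = ψ (∑ b ∈ s, b) := by
      intro s
      induction s using Finset.induction_on with
      | empty => simp
      | insert a s ha ih => rw [Finset.prod_insert ha, Finset.sum_insert ha, ih, AddChar.map_add_eq_mul]
    rw [h6, hsum, AddChar.map_zero_eq_one]
  rw [e3, one_mul, ← prod_one_sub_psi hr hψ]
  have h7 : (-2 : K) ≠ 0 := neg_ne_zero.2 h2
  refine Finset.prod_bij (fun b _ => (-2) * b) ?_ ?_ ?_ ?_
  · intro b hb
    exact Finset.mem_erase.2 ⟨mul_ne_zero h7 (Finset.ne_of_mem_erase hb), Finset.mem_univ _⟩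
  · intro a _ b _ h
    exact mul_left_cancel₀ h7 h
  · intro b hb
    refine ⟨(-2)⁻¹ * b, Finset.mem_erase.2 ⟨mul_ne_zero (inv_ne_zero h7) (Finset.ne_of_mem_erase hb),
      Finset.mem_univ _⟩, ?_⟩
    rw [← mul_assoc, mul_inv_cancel₀ h7, one_mul]
  · intro b _
    rfl

end prime

section diag

variable {k : Type*} [Field k] {V : Type*} [AddCommGroup V] [Module k V]

theorem det_of_diag {J : Type*} [Fintype J] [DecidableEq J] (b : Basis J k V) (A : Module.End k V) (d : J → k)
    (h : ∀ j, A (b j) = d j • b j) : LinearMap.det A = ∏ j, d j := by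
  rw [← LinearMap.det_toMatrix b, ← Matrix.det_diagonal]
  congr 1
  ext i j
  rw [LinearMap.toMatrix_apply, h, map_smul, Finsupp.smul_apply, Basis.repr_self, Matrix.diagonal_apply,
    Finsupp.single_apply]
  by_cases hij : i = j
  · subst hij; simp
  · rw [if_neg hij, if_neg (fun h => hij h.symm), smul_zero]

end diag

section Op

variable {K : Type*} [Field K] [Fintype K] {k : Type*} [Field k] {V : Type*} [AddCommGroup V] [Module k V]
  [FiniteDimensional k V] (R : SpecialLinearGroup (Fin 2) K →* Module.End k V) {ψ : AddChar K k}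
  (hψ : ψ.IsPrimitive) (hK : (Fintype.card K : k) ≠ 0)

include hψ hK

theorem exists_basis {J : Type*} [Fintype J] (v₀ : J → V)
    (h0 : LinearMap.range (E R ψ 0) ≤ Submodule.span k (Set.range v₀))
    (hm : ∀ b : K, b ≠ 0 → finrank k (LinearMap.range (E R ψ b)) = 1)
    (hcard : Fintype.card J + Fintype.card K = finrank k V + 1) :
    ∃ bas : Basis (J ⊕ {b : K // b ≠ 0}) k V, (∀ j, bas (Sum.inl j) = v₀ j) ∧
      ∀ b : {b : K // b ≠ 0}, E R ψ b (bas (Sum.inr b)) = bas (Sum.inr b) := by
  classical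
  have hE : ∀ (b : K), ∀ v ∈ LinearMap.range (E R ψ b), E R ψ b v = v := by
    rintro b _ ⟨x, rfl⟩
    rw [← Module.End.mul_apply, E_mul_self R hψ hK]
  have h1 : ∀ b : {b : K // b ≠ 0}, ∃ v : V, v ∈ LinearMap.range (E R ψ b) ∧
      ∀ x, E R ψ b x ∈ Submodule.span k {v} := by
    intro b
    obtain ⟨v, hv⟩ := finrank_le_one_iff.1 (hm b b.2).le
    refine ⟨v, v.2, fun x => ?_⟩
    obtain ⟨c, hc⟩ := hv ⟨E R ψ b x, LinearMap.mem_range_self _ _⟩
    rw [Submodule.mem_span_singleton]
    exact ⟨c, congrArg Subtype.val hc⟩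
  choose v hv hv2 using h1
  let fam : J ⊕ {b : K // b ≠ 0} → V := Sum.elim v₀ v
  have hspan : ⊤ ≤ Submodule.span k (Set.range fam) := by
    intro x _
    have h2 : x = ∑ b, E R ψ b x := by
      have h3 := congrArg (fun f : Module.End k V => f x) (sum_E R hψ hK)
      simpa [LinearMap.sum_apply] using h3.symm
    rw [h2]
    refine Submodule.sum_mem _ fun b _ => ?_
    by_cases hb : b = 0
    · rw [hb]
      refine Submodule.span_mono ?_ (h0 (LinearMap.mem_range_self _ _))
      rintro _ ⟨j, rfl⟩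
      exact ⟨Sum.inl j, rfl⟩
    · refine Submodule.span_mono ?_ (hv2 ⟨b, hb⟩ x)
      rintro _ rfl
      exact ⟨Sum.inr ⟨b, hb⟩, rfl⟩
  have hc : Fintype.card (J ⊕ {b : K // b ≠ 0}) = finrank k V := by
    rw [Fintype.card_sum, Fintype.card_subtype_compl, Fintype.card_subtype_eq]
    have := Fintype.card_pos (α := K)
    omega
  refine ⟨basisOfTopLeSpanOfCardEqFinrank fam hspan hc, ?_, ?_⟩
  · intro j
    rw [coe_basisOfTopLeSpanOfCardEqFinrank]
    rfl
  · intro b
    rw [coe_basisOfTopLeSpanOfCardEqFinrank]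
    exact hE b _ (hv b)

theorem R_of_E {b x : K} {v : V} (hv : E R ψ b v = v) : R (u x) v = ψ (b * x) • v := by
  have h1 := congrArg (fun f : Module.End k V => f v) (R_mul_E R ψ b x)
  simp only [Module.End.mul_apply, LinearMap.smul_apply] at h1
  rwa [hv] at h1

theorem E_of_ne {b c : K} (hbc : c ≠ b) {v : V} (hv : E R ψ b v = v) : E R ψ c v = 0 := by
  rw [← hv, ← Module.End.mul_apply, E_mul_of_ne R hψ hK hbc, LinearMap.zero_apply]

theorem det_op {J : Type*} [Fintype J] (v₀ : J → V)
    (h0 : LinearMap.range (E R ψ 0) ≤ Submodule.span k (Set.range v₀))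
    (hm : ∀ b : K, b ≠ 0 → finrank k (LinearMap.range (E R ψ b)) = 1)
    (hcard : Fintype.card J + Fintype.card K = finrank k V + 1)
    (hr : (Fintype.card K).Prime) (hr2 : Fintype.card K ≠ 2) (hv₀ : ∀ j, E R ψ 0 (v₀ j) = v₀ j)
    (T : Module.End k V) (d : J → k) (hT : ∀ j, T (v₀ j) = d j • v₀ j) :
    LinearMap.det (R (u 1) - R (u (-1)) + T * E R ψ 0) = (∏ j, d j) * Fintype.card K := by
  classical
  obtain ⟨bas, hb1, hb2⟩ := exists_basis R hψ hK v₀ h0 hm hcard
  rw [det_of_diag bas _ (Sum.elim d (fun b : {b : K // b ≠ 0} => ψ b - ψ (-b))), Fintype.prod_sum_type]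
  · congr 1
    rw [← prod_psi_sub hr hr2 hψ]
    simp only [Sum.elim_inr]
    rw [← Finset.prod_subtype (Finset.univ.erase (0 : K)) (fun x => by simp) (fun b => ψ b - ψ (-b))]
  · rintro (j | b)
    · rw [hb1]
      simp only [Sum.elim_inl, LinearMap.add_apply, LinearMap.sub_apply, Module.End.mul_apply]
      rw [hv₀, hT, R_of_E R hψ hK (hv₀ j), R_of_E R hψ hK (hv₀ j)]
      simp
    · have h1 := hb2 b
      simp only [Sum.elim_inr, LinearMap.add_apply, LinearMap.sub_apply, Module.End.mul_apply]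
      rw [E_of_ne R hψ hK (Ne.symm b.2) h1, map_zero, add_zero, R_of_E R hψ hK h1, R_of_E R hψ hK h1, mul_one,
        mul_neg_one, sub_smul]

omit hψ hK in
theorem t_mul_w_one (a : Kˣ) : t a * w 1 = w a⁻¹ := by
  apply Subtype.ext
  ext i j
  fin_cases i <;> fin_cases j <;> simp

omit hψ hK in
theorem t_mul_w_one' (a : Kˣ) : t a * w 1 = w 1 * t a⁻¹ := by
  rw [w_one_mul_t, t_mul_w_one]

/-- `dim V = |K| - 1` -/
theorem det_sub_one [IsAlgClosed k] (hspan : Submodule.span k (Set.range R) = ⊤) (hR : R ≠ 1)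
    (h5 : 5 ≤ Fintype.card K) (hr : (Fintype.card K).Prime) (hn : finrank k V + 1 = Fintype.card K) :
    LinearMap.det (R (u 1) - R (u (-1))) = (Fintype.card K : k) := by
  classical
  have hm : ∀ b : K, b ≠ 0 → finrank k (LinearMap.range (E R ψ b)) = 1 := by
    rcases dim_cases R hψ hK hspan hR with ⟨h, -⟩ | h
    · exact h
    · omega
  have h1 := finrank_eq R hψ hK
  rw [Finset.sum_congr rfl fun b hb => hm b (Finset.ne_of_mem_erase hb), Finset.sum_const,
    Finset.card_erase_of_mem (Finset.mem_univ _), Finset.card_univ, smul_eq_mul, mul_one] at h1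
  have h2 : finrank k (LinearMap.range (E R ψ 0)) = 0 := by omega
  rw [Submodule.finrank_eq_zero] at h2
  have h3 := det_op R hψ hK (J := Empty) (fun j => j.elim) (by rw [h2]; exact bot_le) hm (by
    rw [Fintype.card_eq_zero]; omega) hr (by omega) (fun j => j.elim) 0 (fun j => j.elim) (fun j => j.elim)
  rw [zero_mul, add_zero, Fintype.prod_empty, one_mul] at h3
  exact h3

/-- `dim V = |K| + 1` -/
theorem det_add_one [IsAlgClosed k] (hspan : Submodule.span k (Set.range R) = ⊤) (hR : R ≠ 1)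
    (h5 : 5 ≤ Fintype.card K) (hr : (Fintype.card K).Prime) (hn : finrank k V = Fintype.card K + 1)
    {a : Kˣ} (ha : a ^ 2 ≠ 1) :
    LinearMap.det (R (u 1) - R (u (-1)) + (R (t a) - R (t a⁻¹)) * E R ψ 0) =
      (4 - LinearMap.trace k V (R (t a)) ^ 2) * (Fintype.card K : k) := by
  classical
  have hm : ∀ b : K, b ≠ 0 → finrank k (LinearMap.range (E R ψ b)) = 1 := by
    rcases dim_cases R hψ hK hspan hR with ⟨h, -⟩ | h
    · exact h
    · omega
  have h1 := finrank_eq R hψ hK
  rw [Finset.sum_congr rfl fun b hb => hm b (Finset.ne_of_mem_erase hb), Finset.sum_const,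
    Finset.card_erase_of_mem (Finset.mem_univ _), Finset.card_univ, smul_eq_mul, mul_one] at h1
  have h2 : finrank k (LinearMap.range (E R ψ 0)) = 2 := by omega
  have h0 : LinearMap.range (E R ψ 0) ≠ ⊥ := by
    intro h
    rw [h, finrank_bot] at h2
    exact absurd h2 (by norm_num)
  obtain ⟨v, hv0, hv, ht⟩ := exists_eigen R hψ hK h0
  have hle := fixed_aux R hψ hK hspan hv0 hv ht
  choose c hc using ht
  have hcomm : ∀ a : Kˣ, R (t a) * E R ψ 0 = E R ψ 0 * R (t a) := by
    intro a
    rw [t_mul_E, zero_div]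
  have hc' : ∀ a : Kˣ, R (t a) (E R ψ 0 (R (w 1) v)) = c a⁻¹ • E R ψ 0 (R (w 1) v) := by
    intro a
    have h3 : R (t a) (E R ψ 0 (R (w 1) v)) = (R (t a) * E R ψ 0) (R (w 1) v) := rfl
    rw [h3, hcomm, Module.End.mul_apply, ← Module.End.mul_apply (R (t a)), ← map_mul, t_mul_w_one', map_mul,
      Module.End.mul_apply, hc, map_smul, map_smul]
  have hcc : ∀ a : Kˣ, c a * c a⁻¹ = 1 := by
    intro a
    have h3 : R (t a) (R (t a⁻¹) v) = v := by
      rw [← Module.End.mul_apply, ← map_mul, ← t_mul, mul_inv_cancel, t_one, map_one, Module.End.one_apply]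
    rw [hc, map_smul, hc, smul_smul] at h3
    have h4 : (c a⁻¹ * c a - 1) • v = 0 := by rw [sub_smul, one_smul, h3, sub_self]
    rw [mul_comm]
    exact sub_eq_zero.1 ((smul_eq_zero.1 h4).resolve_right hv0)
  let v₀ : Bool → V := fun j => if j then v else E R ψ 0 (R (w 1) v)
  have hv₀ : ∀ j, E R ψ 0 (v₀ j) = v₀ j := by
    rintro (_ | _)
    · change E R ψ 0 (E R ψ 0 (R (w 1) v)) = E R ψ 0 (R (w 1) v)
      rw [← Module.End.mul_apply, E_mul_self R hψ hK]
    · exact hv
  have hspan0 : LinearMap.range (E R ψ 0) ≤ Submodule.span k (Set.range v₀) := by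
    refine hle.trans (Submodule.span_mono ?_)
    rintro x (rfl | rfl)
    · exact ⟨true, rfl⟩
    · exact ⟨false, rfl⟩
  let cc : Kˣ → Bool → k := fun a j => if j then c a else c a⁻¹
  have hcc0 : ∀ (a : Kˣ) (j : Bool), R (t a) (v₀ j) = cc a j • v₀ j := by
    rintro a (_ | _)
    · exact hc' a
    · exact hc a
  have hcard : Fintype.card Bool + Fintype.card K = finrank k V + 1 := by
    rw [Fintype.card_bool]; omega
  have h3 := det_op R hψ hK v₀ hspan0 hm hcard hr (by omega) hv₀ (R (t a) - R (t a⁻¹)) (fun j => cc a j - cc a⁻¹ j)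
    (fun j => by rw [LinearMap.sub_apply, hcc0, hcc0, sub_smul])
  rw [h3]
  congr 1
  -- the trace
  have h4 : LinearMap.trace k V (R (t a)) = c a + c a⁻¹ := by
    have h5 : LinearMap.trace k V (R (t a)) = LinearMap.trace k V (R (t a) * E R ψ 0) := by
      have h6 : R (t a) = ∑ b, R (t a) * E R ψ b := by rw [← Finset.mul_sum, sum_E R hψ hK, mul_one]
      conv_lhs => rw [h6]
      rw [map_sum, Finset.sum_eq_single (0 : K)]
      · intro b _ hb
        rw [← E_mul_self R hψ hK b, ← mul_assoc, LinearMap.trace_mul_comm, ← mul_assoc, E_t_E R hψ hK hb ha, map_zero]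
      · intro h
        exact absurd (Finset.mem_univ _) h
    rw [h5]
    obtain ⟨bas, hb1, hb2⟩ := exists_basis R hψ hK v₀ hspan0 hm hcard
    rw [LinearMap.trace_eq_matrix_trace k bas]
    have h6 : LinearMap.toMatrix bas bas (R (t a) * E R ψ 0) =
        Matrix.diagonal (Sum.elim (cc a) (fun _ => 0)) := by
      ext i j
      rw [LinearMap.toMatrix_apply, Module.End.mul_apply]
      rcases j with j | b
      · rw [hb1, hv₀, hcc0, ← hb1, map_smul, Finsupp.smul_apply, Basis.repr_self, Matrix.diagonal_apply,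
          Finsupp.single_apply]
        by_cases hij : i = Sum.inl j
        · subst hij; simp
        · rw [if_neg hij, if_neg (fun h => hij h.symm), smul_zero]
      · rw [E_of_ne R hψ hK (Ne.symm b.2) (hb2 b), map_zero, map_zero, Finsupp.zero_apply, Matrix.diagonal_apply]
        by_cases hij : i = Sum.inr b
        · subst hij; simp
        · rw [if_neg hij]
    rw [h6, Matrix.trace_diagonal, Fintype.sum_sum_type]
    simp only [Sum.elim_inl, Sum.elim_inr, Finset.sum_const_zero, add_zero]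
    rw [Fintype.sum_bool]
    rfl
  rw [h4, Fintype.prod_bool]
  change (c a - c a⁻¹) * (c a⁻¹ - c a⁻¹⁻¹) = _
  rw [inv_inv]
  linear_combination 4 * hcc a

end Op

end Cfsg.Agent.H830.Disc
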