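import Cfsg.Agent.H464.Sl2Struct

/-!
# Six-dimensional modules of `SL₂(11)` over the field with three elements (helper830)
-/

set_option autoImplicit false
set_option linter.unusedSectionVars false

namespace Cfsg.Agent.H830.L11

open Matrix Module Cfsg.Agent.H464.Sl2

instance : Fact (Nat.Prime 11) := ⟨by norm_num⟩

local notation "G11" => SpecialLinearGroup (Fin 2) (ZMod 11)

/-- the unipotent group as a homomorphism -/
def uHom : Multiplicative (ZMod 11) →* G11 where
  toFun x := u (Multiplicative.toAdd x)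
  map_one' := u_zero
  map_mul' _ _ := u_add _ _

variable {F : Type*} [Field F] [Fintype F] {V : Type*} [AddCommGroup V] [Module F V]
  [FiniteDimensional F V] (R : G11 →* Module.End F V)

theorem three_eq_zero (hF : Fintype.card F = 3) : (3 : F) = 0 := by
  have h := FiniteField.cast_card_eq_zero F
  rw [hF] at h
  exact_mod_cast h

theorem sq_eq_one (hF : Fintype.card F = 3) {c : F} (hc : c ≠ 0) : c = 1 ∨ c = -1 := by
  have h := FiniteField.pow_card_sub_one_eq_one c hc
  rw [hF] at h
  rw [← mul_self_eq_one_iff, ← sq]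
  exact h

/-- the fixed space of the unipotent group -/
def fixU : Submodule F V where
  carrier := {x | ∀ s, R (u s) x = x}
  add_mem' := fun {x y} hx hy s => by rw [map_add, hx, hy]
  zero_mem' := fun s => map_zero _
  smul_mem' := fun c x hx s => by rw [map_smul, hx]

theorem finrank_fixU (hF : Fintype.card F = 3) (hV : finrank F V = 6) (hR : R ≠ 1) : finrank F (fixU R) = 1 := by
  classical
  have hVf : Finite V := Module.finite_of_finite F
  let act : MulAction (Multiplicative (ZMod 11)) V := MulAction.compHom V (R.comp uHom)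
  have hfix : (MulAction.fixedPoints (Multiplicative (ZMod 11)) V : Set V) = (fixU R : Set V) := by
    ext x
    constructor
    · intro h s
      exact h (Multiplicative.ofAdd s)
    · intro h s
      exact h (Multiplicative.toAdd s)
  have hp : IsPGroup 11 (Multiplicative (ZMod 11)) := IsPGroup.of_card (n := 1) (by
    rw [Nat.card_eq_fintype_card, Fintype.card_multiplicative, ZMod.card, pow_one])
  have h1 := hp.card_modEq_card_fixedPoints V
  rw [hfix] at h1
  have h2 : Nat.card V = 3 ^ 6 := by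
    rw [Module.natCard_eq_pow_finrank (K := F), Nat.card_eq_fintype_card, hF, hV]
  have h3 : Nat.card (fixU R : Set V) = 3 ^ finrank F (fixU R) := by
    change Nat.card (fixU R) = _
    rw [Module.natCard_eq_pow_finrank (K := F), Nat.card_eq_fintype_card, hF]
  rw [h2, h3] at h1
  have h4 : finrank F (fixU R) ≤ 6 := hV ▸ Submodule.finrank_le _
  have h5 : finrank F (fixU R) ≠ 6 := by
    intro h5
    apply hR
    apply eq_one_of_u
    intro s
    have h6 : fixU R = ⊤ := Submodule.eq_top_of_finrank_eq (by rw [h5, hV])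
    ext x
    have h7 : x ∈ fixU R := by rw [h6]; trivial
    exact h7 s
  generalize finrank F (fixU R) = d at h1 h4 h5
  interval_cases d <;> first | rfl | (exfalso; revert h1; decide) | (exact absurd rfl h5)

theorem natCast_eleven (hF : Fintype.card F = 3) : ((11 : ℕ) : F) = -1 := by
  have h := three_eq_zero hF
  push_cast
  linear_combination 4 * h

/-- The data extracted from the module. -/
structure Dat (v : V) (ω c' : F) : Prop where
  ne : v ≠ 0
  fix : ∀ s, R (u s) v = v
  uniq : ∀ x, (∀ s, R (u s) x = x) → ∃ c : F, x = c • v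
  tor : ∀ a : (ZMod 11)ˣ, IsSquare (a : ZMod 11) → R (t a) v = v
  neg : R (t (-1)) v = ω • v
  rel : ∑ s, R (u s) (R (w 1) v) = c' • v

theorem tor_ns {v : V} {ω c' : F} (h : Dat R v ω c') {a : (ZMod 11)ˣ} (ha : ¬ IsSquare (a : ZMod 11)) :
    R (t a) v = ω • v := by
  have h1 : IsSquare ((-a : (ZMod 11)ˣ) : ZMod 11) := by
    rw [Units.val_neg]
    generalize (a : ZMod 11) = x at ha ⊢
    revert x
    decide
  have h2 : t a = t (-1) * t (-a) := by rw [← t_mul]; simp
  rw [h2, map_mul, Module.End.mul_apply, h.tor _ h1, h.neg]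

theorem exists_dat (hF : Fintype.card F = 3) (hV : finrank F V = 6) (hR : R ≠ 1) :
    ∃ (v : V) (ω c' : F), Dat R v ω c' ∧ (ω = 1 ∨ ω = -1) := by
  have h1 := finrank_fixU R hF hV hR
  obtain ⟨v, hv0, hv⟩ := finrank_eq_one_iff'.1 h1
  have hv0' : (v : V) ≠ 0 := fun h => hv0 (Subtype.ext h)
  have huniq : ∀ x, (∀ s, R (u s) x = x) → ∃ c : F, x = c • (v : V) := by
    intro x hx
    obtain ⟨c, hc⟩ := hv ⟨x, hx⟩
    exact ⟨c, (congrArg Subtype.val hc).symm⟩
  have htor : ∀ a : (ZMod 11)ˣ, ∃ c : F, R (t a) (v : V) = c • (v : V) ∧ (c = 1 ∨ c = -1) := by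
    intro a
    obtain ⟨c, hc⟩ := huniq (R (t a) v) (fun s => by
      have h2 : u s * t a = t a * u (s / (a : ZMod 11) ^ 2) := by
        rw [t_mul_u, mul_div_cancel₀ _ (pow_ne_zero 2 a.ne_zero)]
      rw [← Module.End.mul_apply, ← map_mul, h2, map_mul, Module.End.mul_apply, v.2])
    refine ⟨c, hc, sq_eq_one hF ?_⟩
    rintro rfl
    rw [zero_smul] at hc
    apply hv0'
    apply R_injective R (t a)
    rw [hc, map_zero]
  obtain ⟨ω, hω, hω1⟩ := htor (-1)
  obtain ⟨c', hc'⟩ := huniq (∑ s, R (u s) (R (w 1) v)) (fun s => by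
    rw [map_sum]
    refine Fintype.sum_equiv (Equiv.addLeft s) _ _ fun x => ?_
    rw [Equiv.coe_addLeft, u_add, map_mul, Module.End.mul_apply])
  refine ⟨v, ω, c', ⟨hv0', v.2, huniq, ?_, hω, hc'⟩, hω1⟩
  rintro a ⟨b, hb⟩
  have hb0 : b ≠ 0 := by
    rintro rfl
    exact a.ne_zero (by rw [hb, mul_zero])
  obtain ⟨c, hc, hc1⟩ := htor (Units.mk0 b hb0)
  have h2 : t a = t (Units.mk0 b hb0) * t (Units.mk0 b hb0) := by
    rw [← t_mul]
    congr 1
    exact Units.ext hb
  rw [h2, map_mul, Module.End.mul_apply, hc, map_smul, hc, smul_smul]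
  rcases hc1 with rfl | rfl <;> simp

section dat

variable {R} {v : V} {ω c' : F} (h : Dat R v ω c')

/-- the translates -/
def y (R : G11 →* Module.End F V) (v : V) (s : ZMod 11) : V := R (u s) (R (w 1) v)

theorem R_u_y (s r : ZMod 11) : R (u s) (y R v r) = y R v (s + r) := by
  unfold y
  rw [← Module.End.mul_apply, ← map_mul, ← u_add]

include h

theorem w_y_zero : R (w 1) (y R v 0) = ω • v := by
  unfold y
  rw [u_zero, map_one, Module.End.one_apply, ← Module.End.mul_apply, ← map_mul, w_mul_w, div_one, h.neg]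

theorem w_y (a : (ZMod 11)ˣ) {c : F} (hc : R (t a) v = c • v) :
    R (w 1) (y R v (a : ZMod 11)) = c • y R v (-((a⁻¹ : (ZMod 11)ˣ) : ZMod 11)) := by
  have h1 := w_u_w (K := ZMod 11) 1 1 a
  rw [one_pow, one_mul, one_mul, one_mul, ← w_one_mul_t a] at h1
  unfold y
  rw [← Module.End.mul_apply, ← Module.End.mul_apply, ← map_mul, ← map_mul, h1, map_mul, map_mul, map_mul,
    Module.End.mul_apply, Module.End.mul_apply, h.fix, Module.End.mul_apply, hc, map_smul, map_smul]

theorem w_y_sq {x : ZMod 11} (hx : IsSquare x) (hx0 : x ≠ 0) : R (w 1) (y R v x) = y R v (-x⁻¹) := by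
  have h1 := w_y h (Units.mk0 x hx0) (c := 1) (by rw [one_smul]; exact h.tor _ hx)
  rw [one_smul] at h1
  exact h1

theorem w_y_ns {x : ZMod 11} (hx : ¬ IsSquare x) (hx0 : x ≠ 0) : R (w 1) (y R v x) = ω • y R v (-x⁻¹) :=
  w_y h (Units.mk0 x hx0) (tor_ns R h hx)

omit h in
theorem sum11 {M : Type*} [AddCommMonoid M] (f : ZMod 11 → M) :
    ∑ s, f s = f 0 + f 1 + f 2 + f 3 + f 4 + f 5 + f 6 + f 7 + f 8 + f 9 + f 10 := by
  have h1 : (Finset.univ : Finset (ZMod 11)) = {0, 1, 2, 3, 4, 5, 6, 7, 8, 9, 10} := by decide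
  rw [h1]
  iterate 10 rw [Finset.sum_insert (by decide)]
  rw [Finset.sum_singleton]
  simp only [add_assoc]

omit h in
theorem neg_inv_eq {x z : ZMod 11} (h : x * z = -1) : -x⁻¹ = z := by
  have hx : x ≠ 0 := by
    rintro rfl
    rw [zero_mul] at h
    exact absurd h (by decide)
  apply mul_left_cancel₀ hx
  rw [h, mul_neg, mul_inv_cancel₀ hx]

theorem rel_w : ω • v + y R v 10 + ω • y R v 5 + y R v 7 + y R v 8 + y R v 2 + ω • y R v 9 + ω • y R v 3 +
    ω • y R v 4 + y R v 6 + ω • y R v 1 = c' • y R v 0 := by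
  have hrel : ∑ s, y R v s = c' • v := h.rel
  have h1 := congrArg (R (w 1)) hrel
  have h2 : R (w 1) v = y R v 0 := by
    unfold y
    rw [u_zero, map_one, Module.End.one_apply]
  rw [map_sum, map_smul, sum11, h2] at h1
  have e0 := w_y_zero h
  have e1 := w_y_sq h (x := 1) (by decide) (by decide)
  have e2 := w_y_ns h (x := 2) (by decide) (by decide)
  have e3 := w_y_sq h (x := 3) (by decide) (by decide)
  have e4 := w_y_sq h (x := 4) (by decide) (by decide)
  have e5 := w_y_sq h (x := 5) (by decide) (by decide)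
  have e6 := w_y_ns h (x := 6) (by decide) (by decide)
  have e7 := w_y_ns h (x := 7) (by decide) (by decide)
  have e8 := w_y_ns h (x := 8) (by decide) (by decide)
  have e9 := w_y_sq h (x := 9) (by decide) (by decide)
  have e10 := w_y_ns h (x := 10) (by decide) (by decide)
  rw [neg_inv_eq (x := 1) (z := 10) (by decide)] at e1
  rw [neg_inv_eq (x := 2) (z := 5) (by decide)] at e2
  rw [neg_inv_eq (x := 3) (z := 7) (by decide)] at e3
  rw [neg_inv_eq (x := 4) (z := 8) (by decide)] at e4
  rw [neg_inv_eq (x := 5) (z := 2) (by decide)] at e5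
  rw [neg_inv_eq (x := 6) (z := 9) (by decide)] at e6
  rw [neg_inv_eq (x := 7) (z := 3) (by decide)] at e7
  rw [neg_inv_eq (x := 8) (z := 4) (by decide)] at e8
  rw [neg_inv_eq (x := 9) (z := 6) (by decide)] at e9
  rw [neg_inv_eq (x := 10) (z := 1) (by decide)] at e10
  rw [e0, e1, e2, e3, e4, e5, e6, e7, e8, e9, e10] at h1
  exact h1

omit h in
/-- the norm -/
def nm (R : G11 →* Module.End F V) : Module.End F V := ∑ s, R (u s)

theorem nm_v (hF : Fintype.card F = 3) : nm R v = -v := by
  unfold nm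
  rw [LinearMap.sum_apply, Finset.sum_congr rfl fun s _ => h.fix s, Finset.sum_const, Finset.card_univ, ZMod.card,
    ← Nat.cast_smul_eq_nsmul F, natCast_eleven hF, neg_one_smul]

theorem nm_y (r : ZMod 11) : nm R (y R v r) = c' • v := by
  rw [← h.rel]
  unfold nm
  rw [LinearMap.sum_apply]
  refine Fintype.sum_equiv (Equiv.addRight r) _ _ fun x => ?_
  rw [R_u_y, Equiv.coe_addRight]
  rfl

theorem cc (hF : Fintype.card F = 3) : c' * c' = -ω + 5 * c' + 5 * ω * c' := by
  have h1 := congrArg (nm R) (rel_w h)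
  simp only [map_add, map_smul, nm_y h, nm_v h hF] at h1
  have h2 : (c' * c' - (-ω + 5 * c' + 5 * ω * c')) • v = 0 := by
    rw [sub_smul, mul_smul, ← h1]
    module
  exact sub_eq_zero.1 ((smul_eq_zero.1 h2).resolve_right h.ne)

end dat

end Cfsg.Agent.H830.L11
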