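import Cfsg.Agent.H830.L11A

/-!
# Six-dimensional modules of `SL₂(11)` over the field with three elements, second part (helper830)
-/

set_option autoImplicit false
set_option linter.unusedSectionVars false

namespace Cfsg.Agent.H830.L11

open Matrix Module Cfsg.Agent.H464.Sl2

local notation "G11" => SpecialLinearGroup (Fin 2) (ZMod 11)

variable {F : Type*} [Field F] [Fintype F] {V : Type*} [AddCommGroup V] [Module F V]
  [FiniteDimensional F V] {R : G11 →* Module.End F V} {v : V} {ω c' : F}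

theorem tor_all (h : Dat R v ω c') (hω : ω = 1 ∨ ω = -1) (a : (ZMod 11)ˣ) :
    ∃ ε : F, (ε = 1 ∨ ε = -1) ∧ (ω = 1 → ε = 1) ∧ R (t a) v = ε • v := by
  by_cases ha : IsSquare (a : ZMod 11)
  · exact ⟨1, Or.inl rfl, fun _ => rfl, by rw [h.tor a ha, one_smul]⟩
  · exact ⟨ω, hω, fun h => h, tor_ns R h ha⟩

/-- The orbit of `v`. -/
theorem orbit (h : Dat R v ω c') (hω : ω = 1 ∨ ω = -1) (g : G11) :
    ∃ ε : F, (ε = 1 ∨ ε = -1) ∧ (ω = 1 → ε = 1) ∧
      ((R g v = ε • v ∧ ∃ x a, g = u x * t a) ∨ ∃ s, R g v = ε • y R v s) := by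
  rcases bruhat g with ⟨x, a, rfl⟩ | ⟨x, c, z, rfl⟩
  · obtain ⟨ε, h1, h2, h3⟩ := tor_all h hω a
    refine ⟨ε, h1, h2, Or.inl ⟨?_, x, a, rfl⟩⟩
    rw [map_mul, Module.End.mul_apply, h3, map_smul, h.fix]
  · obtain ⟨ε, h1, h2, h3⟩ := tor_all h hω c
    refine ⟨ε, h1, h2, Or.inr ⟨x, ?_⟩⟩
    rw [map_mul, map_mul, Module.End.mul_apply, Module.End.mul_apply, h.fix, ← w_one_mul_t, map_mul,
      Module.End.mul_apply, h3, map_smul, map_smul]
    rfl

/-- irreducibility -/
def Irr (R : G11 →* Module.End F V) : Prop := ∀ W : Submodule F V, (∀ g, ∀ x ∈ W, R g x ∈ W) → W = ⊥ ∨ W = ⊤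

/-- `-1` acts as `-1`. -/
theorem omega_ne_one (hF : Fintype.card F = 3) (hV : finrank F V = 6) (hirr : Irr R) (h : Dat R v ω c') : ω ≠ 1 := by
  intro hω
  have h3 := three_eq_zero hF
  have hc : c' = -1 := by
    have h1 := cc h hF
    rw [hω] at h1
    have h2 : (c' + 1) * (c' + 1) = 0 := by linear_combination h1 + 4 * c' * h3
    exact eq_neg_of_add_eq_zero_left (mul_self_eq_zero.1 h2)
  have hnm : ∀ g, nm R (R g v) = -v := by
    intro g
    obtain ⟨ε, -, h1, h2⟩ := orbit h (Or.inl hω) g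
    rw [h1 hω] at h2
    rcases h2 with ⟨h2, -⟩ | ⟨s, h2⟩
    · rw [h2, one_smul, nm_v h hF]
    · rw [h2, one_smul, nm_y h, hc, neg_one_smul]
  let Z : Submodule F V :=
    { carrier := {x | ∀ g, nm R (R g x) = 0}
      add_mem' := fun {x y} hx hy g => by rw [map_add, map_add, hx, hy, add_zero]
      zero_mem' := fun g => by rw [map_zero, map_zero]
      smul_mem' := fun c x hx g => by rw [map_smul, map_smul, hx, smul_zero] }
  have hZ : Z = ⊥ ∨ Z = ⊤ := hirr Z (fun g x hx g' => by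
    rw [← Module.End.mul_apply (R g'), ← map_mul]
    exact hx _)
  have hZ1 : Z = ⊥ := by
    refine hZ.resolve_right (fun hZ => ?_)
    have h1 : v ∈ Z := by rw [hZ]; trivial
    have h2 := h1 1
    rw [hnm] at h2
    exact h.ne (neg_eq_zero.1 h2)
  have hfix : ∀ g, R g v = v := by
    intro g
    rw [← sub_eq_zero]
    have h1 : R g v - v ∈ Z := by
      intro g'
      rw [map_sub, map_sub, ← Module.End.mul_apply (R g'), ← map_mul, hnm, hnm, sub_self]
    rwa [hZ1] at h1
  have h4 := hirr (Submodule.span F {v}) (fun g x hx => by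
    obtain ⟨c, rfl⟩ := Submodule.mem_span_singleton.1 hx
    rw [map_smul, hfix]
    exact hx)
  rcases h4 with h4 | h4
  · rw [Submodule.span_singleton_eq_bot] at h4
    exact h.ne h4
  · have h5 := finrank_span_singleton (K := F) h.ne
    rw [h4, finrank_top, hV] at h5
    norm_num at h5

/-- the vectors span -/
theorem span_top (h : Dat R v ω c') (hω : ω = 1 ∨ ω = -1) (hirr : Irr R) :
    Submodule.span F (insert v (Set.range (y R v))) = ⊤ := by
  have h1 : Submodule.span F (Set.range fun g => R g v) = ⊤ := by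
    refine (hirr _ ?_).resolve_left ?_
    · intro g x hx
      induction hx using Submodule.span_induction with
      | mem x hx =>
        obtain ⟨g', rfl⟩ := hx
        refine Submodule.subset_span ⟨g * g', ?_⟩
        change R (g * g') v = R g (R g' v)
        rw [map_mul, Module.End.mul_apply]
      | zero => rw [map_zero]; exact Submodule.zero_mem _
      | add x y _ _ hx hy => rw [map_add]; exact Submodule.add_mem _ hx hy
      | smul c x _ hx => rw [map_smul]; exact Submodule.smul_mem _ _ hx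
    · intro h1
      rw [Submodule.span_eq_bot] at h1
      have h2 : R 1 v = 0 := h1 _ ⟨1, rfl⟩
      rw [map_one, Module.End.one_apply] at h2
      exact h.ne h2
  rw [eq_top_iff, ← h1, Submodule.span_le]
  rintro _ ⟨g, rfl⟩
  obtain ⟨ε, -, -, h2⟩ := orbit h hω g
  rcases h2 with ⟨h2, -⟩ | ⟨s, h2⟩
  · change R g v ∈ _
    rw [h2]
    exact Submodule.smul_mem _ _ (Submodule.subset_span (Set.mem_insert _ _))
  · change R g v ∈ _
    rw [h2]
    exact Submodule.smul_mem _ _ (Submodule.subset_span (Set.mem_insert_of_mem _ ⟨s, rfl⟩))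

/-- conjugation by `diag(1, -1)` -/
def dl : G11 →* G11 where
  toFun g := ⟨!![g.1 0 0, -g.1 0 1; -g.1 1 0, g.1 1 1], by
    have h := g.2
    rw [Matrix.det_fin_two] at h
    rw [Matrix.det_fin_two]
    simp only [Matrix.of_apply, Matrix.cons_val', Matrix.cons_val_zero, Matrix.cons_val_one, Matrix.cons_val_fin_one]
    linear_combination h⟩
  map_one' := by
    apply Subtype.ext
    ext i j
    fin_cases i <;> fin_cases j <;> simp
  map_mul' a b := by
    apply Subtype.ext
    change !![(a.1 * b.1) 0 0, -(a.1 * b.1) 0 1; -(a.1 * b.1) 1 0, (a.1 * b.1) 1 1] =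
      !![a.1 0 0, -a.1 0 1; -a.1 1 0, a.1 1 1] * !![b.1 0 0, -b.1 0 1; -b.1 1 0, b.1 1 1]
    rw [Matrix.mul_fin_two, Matrix.mul_apply, Matrix.mul_apply, Matrix.mul_apply, Matrix.mul_apply,
      Fin.sum_univ_two, Fin.sum_univ_two, Fin.sum_univ_two, Fin.sum_univ_two]
    congr 1
    · simp
      constructor <;> abel

theorem dl_val (g : G11) : (dl g).1 = !![g.1 0 0, -g.1 0 1; -g.1 1 0, g.1 1 1] := rfl

theorem dl_dl (g : G11) : dl (dl g) = g := by
  apply Subtype.ext
  rw [dl_val, dl_val]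
  ext i j
  fin_cases i <;> fin_cases j <;> simp

theorem dl_u (x : ZMod 11) : dl (u x) = u (-x) := by
  apply Subtype.ext
  rw [dl_val, u_coe, u_coe]
  ext i j
  fin_cases i <;> fin_cases j <;> simp

theorem dl_t (a : (ZMod 11)ˣ) : dl (t a) = t a := by
  apply Subtype.ext
  rw [dl_val, t_coe]
  ext i j
  fin_cases i <;> fin_cases j
  · rfl
  · exact neg_zero
  · exact neg_zero
  · rfl

theorem dl_w : dl (w 1) = w 1 * t (-1) := by
  rw [w_one_mul_t]
  apply Subtype.ext
  rw [dl_val, w_coe, w_coe]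
  have h1 : ((-1 : (ZMod 11)ˣ)⁻¹) = -1 := by rw [inv_neg, inv_one]
  rw [h1, inv_one]
  ext i j
  fin_cases i <;> fin_cases j
  · rfl
  · change - -((1 : (ZMod 11)ˣ) : ZMod 11) = -((-1 : (ZMod 11)ˣ) : ZMod 11)
    rw [Units.val_neg]
  · change -((1 : (ZMod 11)ˣ) : ZMod 11) = ((-1 : (ZMod 11)ˣ) : ZMod 11)
    rw [Units.val_neg]
  · rfl

/-- replacing `c'` by `ω c'` -/
theorem Dat.twist (h : Dat R v ω c') : Dat (R.comp dl) v ω (ω * c') where
  ne := h.ne
  fix s := by
    rw [MonoidHom.comp_apply, dl_u, h.fix]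
  uniq x hx := h.uniq x (fun s => by
    have h1 := hx (-s)
    rwa [MonoidHom.comp_apply, dl_u, neg_neg] at h1)
  tor a ha := by rw [MonoidHom.comp_apply, dl_t, h.tor a ha]
  neg := by rw [MonoidHom.comp_apply, dl_t, h.neg]
  rel := by
    rw [mul_smul, ← h.rel, Finset.smul_sum]
    refine Fintype.sum_equiv (Equiv.neg _) _ _ fun x => ?_
    rw [MonoidHom.comp_apply, MonoidHom.comp_apply, dl_u, dl_w, map_mul, Module.End.mul_apply, h.neg, map_smul, map_smul,
      Equiv.neg_apply]

end Cfsg.Agent.H830.L11
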