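import Cfsg.Agent.H830.L11B

/-!
# Six-dimensional modules of `SL₂(11)` over the field with three elements: the element of `M₁₁` (helper830)
-/

set_option autoImplicit false
set_option linter.unusedSectionVars false
set_option linter.unusedSimpArgs false

namespace Cfsg.Agent.H830.L11

open Matrix Module Cfsg.Agent.H464.Sl2

local notation "G11" => SpecialLinearGroup (Fin 2) (ZMod 11)

variable {F : Type*} [Field F] [Fintype F] {V : Type*} [AddCommGroup V] [Module F V]
  [FiniteDimensional F V] {R : G11 →* Module.End F V} {v : V}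

theorem smul_three (hF : Fintype.card F = 3) (x : V) : (3 : F) • x = 0 := by
  rw [three_eq_zero hF, zero_smul]

theorem sum_eq (h : Dat R v (-1) 1) : y R v 0 + y R v 1 + y R v 2 + y R v 3 + y R v 4 + y R v 5 + y R v 6 +
    y R v 7 + y R v 8 + y R v 9 + y R v 10 = v := by
  have h1 : ∑ s, y R v s = (1 : F) • v := h.rel
  rwa [sum11, one_smul] at h1

theorem rel_zero (hF : Fintype.card F = 3) (h : Dat R v (-1) 1) :
    y R v 0 + y R v 1 + y R v 3 + y R v 4 + y R v 5 + y R v 9 = 0 := by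
  have h1 := rel_w h
  have h2 := sum_eq h
  have t0 := smul_three (F := F) hF (y R v 0)
  have t1 := smul_three (F := F) hF (y R v 1)
  have t3 := smul_three (F := F) hF (y R v 3)
  have t4 := smul_three (F := F) hF (y R v 4)
  have t5 := smul_three (F := F) hF (y R v 5)
  have t9 := smul_three (F := F) hF (y R v 9)
  linear_combination (norm := module) (1 : F) • h1 - (1 : F) • h2 + (1 : F) • t0 + (1 : F) • t1 + (1 : F) • t3 + (1 : F) • t4 +
    (1 : F) • t5 + (1 : F) • t9

theorem rel_z (hF : Fintype.card F = 3) (h : Dat R v (-1) 1) (z : ZMod 11) {a b c d e : ZMod 11} (ha : z + 1 = a)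
    (hb : z + 3 = b) (hc : z + 4 = c) (hd : z + 5 = d) (he : z + 9 = e) :
    y R v z + y R v a + y R v b + y R v c + y R v d + y R v e = 0 := by
  have h1 := congrArg (R (u z)) (rel_zero hF h)
  simp only [map_add, map_zero, R_u_y] at h1
  rwa [add_zero, ha, hb, hc, hd, he] at h1

/-- the expansions -/
theorem expand (hF : Fintype.card F = 3) (h : Dat R v (-1) 1) :
    y R v 6 = (-1 : F) • y R v 0 + (1 : F) • y R v 1 + (1 : F) • y R v 2 + (1 : F) • y R v 3 + (-1 : F) • y R v 4 ∧
    y R v 7 = (-1 : F) • y R v 1 + (1 : F) • y R v 2 + (1 : F) • y R v 3 + (1 : F) • y R v 4 + (-1 : F) • y R v 5 ∧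
    y R v 8 = (1 : F) • y R v 0 + (-1 : F) • y R v 1 + (1 : F) • y R v 2 + (-1 : F) • y R v 4 + (1 : F) • y R v 5 ∧
    y R v 9 = (-1 : F) • y R v 0 + (-1 : F) • y R v 1 + (-1 : F) • y R v 3 + (-1 : F) • y R v 4 +
      (-1 : F) • y R v 5 ∧
    y R v 10 = (1 : F) • y R v 0 + (1 : F) • y R v 1 + (1 : F) • y R v 2 + (-1 : F) • y R v 3 + (-1 : F) • y R v 5 ∧
    v = (1 : F) • y R v 0 + (-1 : F) • y R v 2 + (1 : F) • y R v 3 + (-1 : F) • y R v 4 + (-1 : F) • y R v 5 := by
  have hs := sum_eq h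
  have z0 := rel_z hF h 0 (a := 1) (b := 3) (c := 4) (d := 5) (e := 9) (by decide) (by decide) (by decide) (by decide) (by decide)
  have z1 := rel_z hF h 1 (a := 2) (b := 4) (c := 5) (d := 6) (e := 10) (by decide) (by decide) (by decide) (by decide) (by decide)
  have z2 := rel_z hF h 2 (a := 3) (b := 5) (c := 6) (d := 7) (e := 0) (by decide) (by decide) (by decide) (by decide) (by decide)
  have z3 := rel_z hF h 3 (a := 4) (b := 6) (c := 7) (d := 8) (e := 1) (by decide) (by decide) (by decide) (by decide) (by decide)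
  have z4 := rel_z hF h 4 (a := 5) (b := 7) (c := 8) (d := 9) (e := 2) (by decide) (by decide) (by decide) (by decide) (by decide)
  have t1 := smul_three (F := F) hF (y R v 1)
  have t2 := smul_three (F := F) hF (y R v 2)
  have t3 := smul_three (F := F) hF (y R v 3)
  refine ⟨?_, ?_, ?_, ?_, ?_, ?_⟩
  · linear_combination (norm := module) (1 : F) • z0 + (1 : F) • z3 + (-1 : F) • z4 + (-1 : F) • t1 + (-1 : F) • t3
  · linear_combination (norm := module) (-1 : F) • z0 + (1 : F) • z2 + (-1 : F) • z3 + (1 : F) • z4 + (1 : F) • t1 + (-1 : F) • t2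
  · linear_combination (norm := module) (-1 : F) • z2 + (1 : F) • z3
  · linear_combination (norm := module) (1 : F) • z0
  · linear_combination (norm := module) (-1 : F) • z0 + (1 : F) • z1 + (-1 : F) • z3 + (1 : F) • z4 + (-1 : F) • t2 + (1 : F) • t3
  · linear_combination (norm := module) (1 : F) • z1 + (1 : F) • z4 + (-1 : F) • hs

theorem all_s (P : ZMod 11 → Prop) (h0 : P 0) (h1 : P 1) (h2 : P 2) (h3 : P 3) (h4 : P 4) (h5 : P 5) (h6 : P 6)
    (h7 : P 7) (h8 : P 8) (h9 : P 9) (h10 : P 10) (s : ZMod 11) : P s := by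
  have key : ∀ s : ZMod 11, s = 0 ∨ s = 1 ∨ s = 2 ∨ s = 3 ∨ s = 4 ∨ s = 5 ∨ s = 6 ∨ s = 7 ∨ s = 8 ∨ s = 9 ∨ s = 10 := by
    decide
  rcases key s with rfl | rfl | rfl | rfl | rfl | rfl | rfl | rfl | rfl | rfl | rfl <;> assumption

/-- the basis -/
theorem exists_basis (hF : Fintype.card F = 3) (hV : finrank F V = 6) (h : Dat R v (-1) 1) (hirr : Irr R) :
    ∃ b : Basis (Fin 6) F V, b 0 = y R v 0 ∧ b 1 = y R v 1 ∧ b 2 = y R v 2 ∧ b 3 = y R v 3 ∧ b 4 = y R v 4 ∧
      b 5 = y R v 5 := by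
  let fam : Fin 6 → V := ![y R v 0, y R v 1, y R v 2, y R v 3, y R v 4, y R v 5]
  obtain ⟨e6, e7, e8, e9, e10, e11⟩ := expand hF h
  have hm : ∀ i, fam i ∈ Submodule.span F (Set.range fam) := fun i => Submodule.subset_span ⟨i, rfl⟩
  have m0 : y R v 0 ∈ Submodule.span F (Set.range fam) := hm 0
  have m1 : y R v 1 ∈ Submodule.span F (Set.range fam) := hm 1
  have m2 : y R v 2 ∈ Submodule.span F (Set.range fam) := hm 2
  have m3 : y R v 3 ∈ Submodule.span F (Set.range fam) := hm 3
  have m4 : y R v 4 ∈ Submodule.span F (Set.range fam) := hm 4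
  have m5 : y R v 5 ∈ Submodule.span F (Set.range fam) := hm 5
  have mem5 : ∀ {a b c d e : V} {r s p q o : F}, a ∈ Submodule.span F (Set.range fam) →
      b ∈ Submodule.span F (Set.range fam) → c ∈ Submodule.span F (Set.range fam) →
      d ∈ Submodule.span F (Set.range fam) → e ∈ Submodule.span F (Set.range fam) →
      r • a + s • b + p • c + q • d + o • e ∈ Submodule.span F (Set.range fam) := by
    intro a b c d e r s p q o ha hb hc hd he
    exact Submodule.add_mem _ (Submodule.add_mem _ (Submodule.add_mem _ (Submodule.add_mem _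
      (Submodule.smul_mem _ _ ha) (Submodule.smul_mem _ _ hb)) (Submodule.smul_mem _ _ hc))
      (Submodule.smul_mem _ _ hd)) (Submodule.smul_mem _ _ he)
  have hspan : ⊤ ≤ Submodule.span F (Set.range fam) := by
    rw [← span_top h (Or.inr rfl) hirr, Submodule.span_le]
    rintro x (rfl | ⟨s, rfl⟩)
    · rw [e11]
      exact mem5 m0 m2 m3 m4 m5
    · refine all_s (fun s => y R v s ∈ Submodule.span F (Set.range fam)) m0 m1 m2 m3 m4 m5 ?_ ?_ ?_ ?_ ?_ s
      · rw [e6]; exact mem5 m0 m1 m2 m3 m4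
      · rw [e7]; exact mem5 m1 m2 m3 m4 m5
      · rw [e8]; exact mem5 m0 m1 m2 m4 m5
      · rw [e9]; exact mem5 m0 m1 m3 m4 m5
      · rw [e10]; exact mem5 m0 m1 m2 m3 m5
  refine ⟨basisOfTopLeSpanOfCardEqFinrank fam hspan (by rw [hV, Fintype.card_fin]), ?_⟩
  rw [coe_basisOfTopLeSpanOfCardEqFinrank]
  exact ⟨rfl, rfl, rfl, rfl, rfl, rfl⟩

/-- **The element of order three.** -/
theorem exists_E (hF : Fintype.card F = 3) (hV : finrank F V = 6) (h : Dat R v (-1) 1) (hirr : Irr R) :
    ∃ E : Module.End F V, E * E * E = 1 ∧ E v = v ∧ E (y R v 0) = y R v 0 ∧ E (y R v 1) = y R v 6 ∧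
      E (y R v 2) = y R v 5 ∧ E (y R v 3) = y R v 1 ∧ E (y R v 4) = y R v 8 ∧ E (y R v 5) = y R v 9 ∧
      E (y R v 6) = y R v 3 ∧ E (y R v 7) = y R v 4 ∧ E (y R v 8) = y R v 7 ∧ E (y R v 9) = y R v 2 ∧
      E (y R v 10) = y R v 10 := by
  obtain ⟨b, b0, b1, b2, b3, b4, b5⟩ := exists_basis hF hV h hirr
  obtain ⟨x6, x7, x8, x9, x10, x11⟩ := expand hF h
  let E : Module.End F V := b.constr F ![y R v 0, y R v 6, y R v 5, y R v 1, y R v 8, y R v 9]
  have E0 : E (y R v 0) = y R v 0 := by rw [← b0, Basis.constr_basis]; exact b0.symm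
  have E1 : E (y R v 1) = y R v 6 := by rw [← b1, Basis.constr_basis]; rfl
  have E2 : E (y R v 2) = y R v 5 := by rw [← b2, Basis.constr_basis]; rfl
  have E3 : E (y R v 3) = y R v 1 := by rw [← b3, Basis.constr_basis]; rfl
  have E4 : E (y R v 4) = y R v 8 := by rw [← b4, Basis.constr_basis]; rfl
  have E5 : E (y R v 5) = y R v 9 := by rw [← b5, Basis.constr_basis]; rfl
  have t0 := smul_three (F := F) hF (y R v 0)
  have t1 := smul_three (F := F) hF (y R v 1)
  have t2 := smul_three (F := F) hF (y R v 2)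
  have t3 := smul_three (F := F) hF (y R v 3)
  have t4 := smul_three (F := F) hF (y R v 4)
  have t5 := smul_three (F := F) hF (y R v 5)
  have E6 : E (y R v 6) = y R v 3 := by
    have h1 := congrArg E x6
    simp only [map_add, map_smul, E0, E1, E2, E3, E4, E5] at h1
    linear_combination (norm := module) (1 : F) • h1 + (1 : F) • x6 + (-1 : F) • x8 + (-1 : F) • t0 + (1 : F) • t1
  have E7 : E (y R v 7) = y R v 4 := by
    have h1 := congrArg E x7
    simp only [map_add, map_smul, E0, E1, E2, E3, E4, E5] at h1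
    linear_combination (norm := module) (1 : F) • h1 + (-1 : F) • x6 + (1 : F) • x8 + (-1 : F) • x9 + (1 : F) • t0 +
      (1 : F) • t5
  have E8 : E (y R v 8) = y R v 7 := by
    have h1 := congrArg E x8
    simp only [map_add, map_smul, E0, E1, E2, E3, E4, E5] at h1
    linear_combination (norm := module) (1 : F) • h1 + (-1 : F) • x6 + (-1 : F) • x7 + (-1 : F) • x8 + (1 : F) • x9 +
      (-1 : F) • t2 + (-1 : F) • t3
  have E9 : E (y R v 9) = y R v 2 := by
    have h1 := congrArg E x9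
    simp only [map_add, map_smul, E0, E1, E2, E3, E4, E5] at h1
    linear_combination (norm := module) (1 : F) • h1 + (-1 : F) • x6 + (-1 : F) • x8 + (-1 : F) • x9 + (-1 : F) • t2 +
      (1 : F) • t4
  have E10 : E (y R v 10) = y R v 10 := by
    have h1 := congrArg E x10
    simp only [map_add, map_smul, E0, E1, E2, E3, E4, E5] at h1
    linear_combination (norm := module) (1 : F) • h1 + (1 : F) • x6 + (-1 : F) • x9 + (-1 : F) • x10 + (1 : F) • t3 +
      (1 : F) • t5
  have E11 : E v = v := by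
    have h1 := congrArg E x11
    simp only [map_add, map_smul, E0, E1, E2, E3, E4, E5] at h1
    linear_combination (norm := module) (1 : F) • h1 + (-1 : F) • x8 + (-1 : F) • x9 + (-1 : F) • x11 + (1 : F) • t1 +
      (1 : F) • t4
  refine ⟨E, ?_, E11, E0, E1, E2, E3, E4, E5, E6, E7, E8, E9, E10⟩
  apply b.ext
  intro i
  change E (E (E (b i))) = b i
  fin_cases i
  · change E (E (E (b 0))) = b 0
    rw [b0, E0, E0, E0]
  · change E (E (E (b 1))) = b 1
    rw [b1, E1, E6, E3]
  · change E (E (E (b 2))) = b 2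
    rw [b2, E2, E5, E9]
  · change E (E (E (b 3))) = b 3
    rw [b3, E3, E1, E6]
  · change E (E (E (b 4))) = b 4
    rw [b4, E4, E8, E7]
  · change E (E (E (b 5))) = b 5
    rw [b5, E5, E9, E2]

/-- the set of the `24` vectors -/
def Om (R : G11 →* Module.End F V) (v : V) : Set V :=
  {x | ∃ ε : F, (ε = 1 ∨ ε = -1) ∧ (x = ε • v ∨ ∃ s, x = ε • y R v s)}

/-- **A transvection that does not preserve the 24 vectors.** -/
theorem exists_T (hF : Fintype.card F = 3) (hV : finrank F V = 6) (h : Dat R v (-1) 1) (hirr : Irr R) :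
    ∃ T : Module.End F V, T * T * T = 1 ∧ ∃ x ∈ Om R v, T x ∉ Om R v := by
  obtain ⟨b, b0, b1, b2, b3, b4, b5⟩ := exists_basis hF hV h hirr
  obtain ⟨x6, x7, x8, x9, x10, x11⟩ := expand hF h
  let T : Module.End F V := b.constr F ![b 0 + b 1, b 1, b 2, b 3, b 4, b 5]
  have T0 : T (b 0) = b 0 + b 1 := by rw [Basis.constr_basis]; rfl
  have T1 : T (b 1) = b 1 := by rw [Basis.constr_basis]; rfl
  have T2 : T (b 2) = b 2 := by rw [Basis.constr_basis]; rfl
  have T3 : T (b 3) = b 3 := by rw [Basis.constr_basis]; rfl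
  have T4 : T (b 4) = b 4 := by rw [Basis.constr_basis]; rfl
  have T5 : T (b 5) = b 5 := by rw [Basis.constr_basis]; rfl
  have e1 : (-1 : F) ≠ 0 := neg_ne_zero.2 one_ne_zero
  refine ⟨T, ?_, y R v 0, ⟨1, Or.inl rfl, Or.inr ⟨0, by rw [one_smul]⟩⟩, ?_⟩
  · apply b.ext
    intro i
    change T (T (T (b i))) = b i
    fin_cases i
    · change T (T (T (b 0))) = b 0
      rw [T0, map_add, T0, T1, map_add, map_add, T0, T1]
      have t1 := smul_three (F := F) hF (b 1)
      linear_combination (norm := module) (1 : F) • t1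
    · change T (T (T (b 1))) = b 1
      rw [T1, T1, T1]
    · change T (T (T (b 2))) = b 2
      rw [T2, T2, T2]
    · change T (T (T (b 3))) = b 3
      rw [T3, T3, T3]
    · change T (T (T (b 4))) = b 4
      rw [T4, T4, T4]
    · change T (T (T (b 5))) = b 5
      rw [T5, T5, T5]
  · rintro ⟨ε, hε, h1⟩
    rw [← b0, T0] at h1
    have hε0 : ε ≠ 0 := by
      rcases hε with rfl | rfl
      · exact one_ne_zero
      · exact e1
    -- coordinates
    have hc : ∀ (i : Fin 6) (x : V), b 0 + b 1 = ε • x → b.repr (b 0 + b 1) i = ε * b.repr x i := by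
      intro i x hx
      rw [hx, map_smul, Finsupp.smul_apply, smul_eq_mul]
    have hz : ∀ (i : Fin 6) (x : V), b.repr (b 0 + b 1) i = 0 → b.repr x i ≠ 0 → b 0 + b 1 ≠ ε • x := by
      intro i x h2 h3 h4
      have h5 := hc i x h4
      rw [h2] at h5
      exact mul_ne_zero hε0 h3 h5.symm
    have ho : ∀ (i : Fin 6) (x : V), b.repr (b 0 + b 1) i = 1 → b.repr x i = 0 → b 0 + b 1 ≠ ε • x := by
      intro i x h2 h3 h4
      have h5 := hc i x h4
      rw [h2, h3, mul_zero] at h5
      exact one_ne_zero h5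
    have r2 : b.repr (b 0 + b 1) 2 = 0 := by
      rw [map_add, Basis.repr_self, Basis.repr_self]
      simp
    have r3 : b.repr (b 0 + b 1) 3 = 0 := by
      rw [map_add, Basis.repr_self, Basis.repr_self]
      simp
    have r4 : b.repr (b 0 + b 1) 4 = 0 := by
      rw [map_add, Basis.repr_self, Basis.repr_self]
      simp
    have r5 : b.repr (b 0 + b 1) 5 = 0 := by
      rw [map_add, Basis.repr_self, Basis.repr_self]
      simp
    have r0 : b.repr (b 0 + b 1) 0 = 1 := by
      rw [map_add, Basis.repr_self, Basis.repr_self]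
      simp
    have r1 : b.repr (b 0 + b 1) 1 = 1 := by
      rw [map_add, Basis.repr_self, Basis.repr_self]
      simp
    rcases h1 with h1 | ⟨s, h1⟩
    · refine hz 2 _ r2 ?_ h1
      rw [x11, ← b0, ← b2, ← b3, ← b4, ← b5]
      simp
    · refine all_s (fun s => b 0 + b 1 ≠ ε • y R v s) ?_ ?_ ?_ ?_ ?_ ?_ ?_ ?_ ?_ ?_ ?_ s h1
      · refine ho 1 _ r1 ?_
        rw [← b0]; simp
      · refine ho 0 _ r0 ?_
        rw [← b1]; simp
      · refine hz 2 _ r2 ?_
        rw [← b2]; simp
      · refine hz 3 _ r3 ?_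
        rw [← b3]; simp
      · refine hz 4 _ r4 ?_
        rw [← b4]; simp
      · refine hz 5 _ r5 ?_
        rw [← b5]; simp
      · refine hz 2 _ r2 ?_
        rw [x6, ← b0, ← b1, ← b2, ← b3, ← b4]; simp
      · refine hz 2 _ r2 ?_
        rw [x7, ← b1, ← b2, ← b3, ← b4, ← b5]; simp
      · refine hz 2 _ r2 ?_
        rw [x8, ← b0, ← b1, ← b2, ← b4, ← b5]; simp
      · refine hz 3 _ r3 ?_
        rw [x9, ← b0, ← b1, ← b3, ← b4, ← b5]; simp
      · refine hz 2 _ r2 ?_
        rw [x10, ← b0, ← b1, ← b2, ← b3, ← b5]; simp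

end Cfsg.Agent.H830.L11
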