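import Cfsg.Agent.H830.L11C
import Cfsg.Agent.H464.L2Cover
import Cfsg.Agent.H915.LD

/-!
# `2.L₂(11)` is not the core of a maximal subgroup of `SL₆(3)` (helper830)

Task (d) / E5 of the `n = 6` kills. The 24 vectors fixed by the elements of order `11` of `P` are permuted by the normaliser of
`P` and by an element `E` of order `3` (an element of `2.M₁₂`) which does not normalise `P`.
-/

set_option autoImplicit false
set_option linter.unusedSectionVars false

namespace Cfsg.Agent.H830.L11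

open Matrix Module Cfsg Cfsg.Geo Cfsg.Agent.H464.Sl2 Cfsg.Agent.H915.LD

universe u'

local notation "G11" => SpecialLinearGroup (Fin 2) (ZMod 11)

theorem tw {K : Type*} [Field K] (a : Kˣ) : t a * w 1 = w 1 * t a⁻¹ := by
  rw [w_one_mul_t]
  apply Subtype.ext
  ext i j
  fin_cases i <;> fin_cases j <;> simp

section abstract_part

variable {F : Type*} [Field F] [Fintype F] {V : Type*} [AddCommGroup V] [Module F V]
  [FiniteDimensional F V] {R : G11 →* Module.End F V} {v : V}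

theorem pm_pow {ε : F} (hε : ε = 1 ∨ ε = -1) (n : ℕ) : ε ^ n = 1 ∨ ε ^ n = -1 := by
  rcases hε with rfl | rfl
  · left; rw [one_pow]
  · exact neg_one_pow_eq_or F n

theorem y_ne (hF : Fintype.card F = 3) (hV : finrank F V = 6) (h : Dat R v (-1) 1) (hirr : Irr R) {ε : F} :
    y R v 0 ≠ ε • y R v 1 := by
  obtain ⟨b, b0, b1, -⟩ := exists_basis hF hV h hirr
  intro h1
  rw [← b0, ← b1] at h1
  have h2 := congrArg (fun x => b.repr x 0) h1
  simp only [map_smul, Basis.repr_self, Finsupp.smul_apply] at h2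
  simp at h2

theorem y_inj (hF : Fintype.card F = 3) (hV : finrank F V = 6) (h : Dat R v (-1) 1) (hirr : Irr R) {ε : F}
    {r s : ZMod 11} (hrs : y R v r = ε • y R v s) : r = s := by
  by_contra hne
  have h1 : ∀ k : ZMod 11, y R v k = ε • y R v (k + (s - r)) := by
    intro k
    have h2 := congrArg (R (u (k - r))) hrs
    rw [map_smul, R_u_y, R_u_y] at h2
    convert h2 using 3 <;> ring
  have h2 : ∀ n : ℕ, y R v 0 = ε ^ n • y R v (n * (s - r)) := by
    intro n
    induction n with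
    | zero => simp
    | succ n ih =>
      rw [ih, h1 (n * (s - r)), smul_smul, ← pow_succ]
      congr 2
      push_cast
      ring
  have hd : s - r ≠ 0 := sub_ne_zero.2 (Ne.symm hne)
  have h3 := h2 ((s - r)⁻¹ : ZMod 11).val
  rw [ZMod.natCast_zmod_val, inv_mul_cancel₀ hd] at h3
  exact y_ne hF hV h hirr h3

theorem v_ne (hF : Fintype.card F = 3) (hV : finrank F V = 6) (h : Dat R v (-1) 1) (hirr : Irr R) {ε : F}
    (hε : ε = 1 ∨ ε = -1) (s : ZMod 11) : v ≠ ε • y R v s := by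
  intro h1
  have h2 := congrArg (R (u 1)) h1
  rw [h.fix, map_smul, R_u_y] at h2
  have h3 : y R v s = (1 : F) • y R v (1 + s) := by
    rw [one_smul]
    have h4 : ε • y R v s = ε • y R v (1 + s) := by rw [← h1, ← h2]
    rcases hε with rfl | rfl
    · rwa [one_smul, one_smul] at h4
    · rwa [neg_one_smul, neg_one_smul, neg_inj] at h4
  have h4 := y_inj hF hV h hirr h3
  revert h4
  generalize s = z
  revert z
  decide

theorem t_y (h : Dat R v (-1) 1) (a : (ZMod 11)ˣ) : ∃ ε : F, (ε = 1 ∨ ε = -1) ∧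
    ∀ s, R (t a) (y R v s) = ε • y R v ((a : ZMod 11) ^ 2 * s) := by
  obtain ⟨ε, h1, -, h2⟩ := tor_all h (Or.inr rfl) a⁻¹
  refine ⟨ε, h1, fun s => ?_⟩
  have h3 := tw a
  unfold y
  rw [← Module.End.mul_apply, ← map_mul, t_mul_u, map_mul, Module.End.mul_apply, ← Module.End.mul_apply (R (t a)), ← map_mul,
    h3, map_mul, Module.End.mul_apply, h2, map_smul, map_smul]

/-- An element fixing three of the lines is a scalar. -/
theorem rigid (hF : Fintype.card F = 3) (hV : finrank F V = 6) (h : Dat R v (-1) 1) (hirr : Irr R) {g : G11}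
    (h1 : R g v = v) (h2 : R g (y R v 0) = y R v 0) (h3 : R g (y R v 4) = y R v 4) (s : ZMod 11) :
    ∃ ε : F, (ε = 1 ∨ ε = -1) ∧ R g (y R v s) = ε • y R v s := by
  obtain ⟨ε, hε, -, h4⟩ := orbit h (Or.inr rfl) g
  rcases h4 with ⟨-, x, a, rfl⟩ | ⟨s, h4⟩
  · obtain ⟨δ, hδ, h5⟩ := t_y h a
    have h6 : ∀ s, R (u x * t a) (y R v s) = δ • y R v (x + (a : ZMod 11) ^ 2 * s) := by
      intro s
      rw [map_mul, Module.End.mul_apply, h5, map_smul, R_u_y]
    rw [h6] at h2 h3
    have h7 := y_inj hF hV h hirr h2.symm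
    rw [mul_zero, add_zero] at h7
    have h8 := y_inj hF hV h hirr h3.symm
    rw [← h7, zero_add] at h8
    have h9 : (a : ZMod 11) ^ 2 = 1 := by
      have h10 : (4 : ZMod 11) ≠ 0 := by decide
      apply mul_right_cancel₀ h10
      rw [one_mul]
      exact h8.symm
    refine ⟨δ, hδ, ?_⟩
    rw [h6, ← h7, h9, one_mul, zero_add]
  · rw [h1] at h4
    exact absurd h4 (v_ne hF hV h hirr hε s)

end abstract_part

section concrete

variable {F : Type u'} [Field F] [Fintype F]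

/-- the representation by matrices -/
noncomputable def rep (ρ : G11 →* GL (Fin 6) F) : G11 →* Module.End F (Fin 6 → F) :=
  (Matrix.toLinAlgEquiv' : Matrix (Fin 6) (Fin 6) F ≃ₐ[F] _).toAlgHom.toRingHom.toMonoidHom.comp ((Units.coeHom _).comp ρ)

theorem rep_apply (ρ : G11 →* GL (Fin 6) F) (g : G11) (x : Fin 6 → F) :
    rep ρ g x = (ρ g : Matrix (Fin 6) (Fin 6) F) *ᵥ x := rfl

theorem finrank_six : finrank F (Fin 6 → F) = 6 := by rw [Module.finrank_fin_fun]

theorem irr_rep {P : Subgroup (GL (Fin 6) F)} (ρ : G11 →* GL (Fin 6) F) (hρ : ρ.range = P)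
    (hirr : ActsIrreducibly (matrixSet P)) : Irr (rep ρ) := by
  intro W hW
  apply hirr
  rintro _ ⟨g, hg, rfl⟩
  have hg' : g ∈ P := hg
  rw [← hρ] at hg'
  obtain ⟨g', rfl⟩ := hg'
  rintro _ ⟨x, hx, rfl⟩
  exact hW g' x hx

/-- a homomorphism with trivial kernel and normalised data -/
theorem exists_nice (hF : Fintype.card F = 3) {P : Subgroup (GL (Fin 6) F)} (hC : Core P)
    (e : Soc P ≃* ProjectiveSpecialLinearGroup (Fin 2) (ZMod 11)) :
    ∃ (ρ : G11 →* GL (Fin 6) F) (v : Fin 6 → F), ρ.range = P ∧ Function.Injective ρ ∧ Irr (rep ρ) ∧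
      Dat (rep ρ) v (-1) 1 := by
  obtain ⟨ρ, hρ, hρe⟩ := exists_rep hC.perfect (by rw [ZMod.card]; norm_num) (by rw [ZMod.card]; norm_num)
    (by rw [ZMod.card]; norm_num) e
  have hirr := irr_rep ρ hρ hC.absIrred.1
  have hne : rep ρ ≠ 1 := by
    intro h
    have h1 : ρ = 1 := by
      ext1 g
      apply Units.ext
      have h2 : rep ρ g = 1 := DFunLike.congr_fun h g
      exact Matrix.toLinAlgEquiv'.injective (h2.trans (map_one _).symm)
    subst h1
    subst hρ
    apply hC.nonabelian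
    have h3 : Subsingleton (1 : G11 →* GL (Fin 6) F).range := by
      rw [MonoidHom.range_one]
      infer_instance
    have h2 : Subsingleton (Soc (1 : G11 →* GL (Fin 6) F).range) := (toSoc_surjective _).subsingleton
    exact ⟨⟨fun a b => Subsingleton.elim _ _⟩⟩
  obtain ⟨v, ω, c', hD, hω⟩ := exists_dat (rep ρ) hF finrank_six hne
  have hω1 : ω = -1 := hω.resolve_left (omega_ne_one hF finrank_six hirr hD)
  subst hω1
  have hc : c' = 1 ∨ c' = -1 := by
    rw [← mul_self_eq_one_iff]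
    have h1 := cc hD hF
    linear_combination h1
  have hinj : Function.Injective ρ := by
    rw [injective_iff_map_eq_one]
    intro g hg
    have h3 : ρ g ∈ P := by rw [← hρ]; exact ⟨g, rfl⟩
    have h4 := hρe g h3
    have h5 : (QuotientGroup.mk ⟨ρ g, h3⟩ : Soc P) = 1 := by
      rw [QuotientGroup.eq_one_iff, Subgroup.mem_subgroupOf]
      change ρ g ∈ _
      rw [hg]
      exact one_mem _
    rw [h5, map_one] at h4
    have h1 := (QuotientGroup.eq_one_iff g).1 h4.symm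
    rw [Matrix.SpecialLinearGroup.mem_center_iff] at h1
    obtain ⟨r, hr1, hr2⟩ := h1
    rw [Fintype.card_fin, sq, mul_self_eq_one_iff] at hr1
    rcases hr1 with h3 | h3
    · apply Subtype.ext
      rw [← hr2, h3]
      simp
    · exfalso
      have h6 : g = t (-1) := by
        apply Subtype.ext
        rw [← hr2, h3, t_coe]
        ext i j
        fin_cases i <;> fin_cases j <;> simp [Matrix.scalar_apply]
      have h7 := hD.neg
      rw [rep_apply, ← h6, hg, Units.val_one, Matrix.one_mulVec, neg_one_smul] at h7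
      have h8 : (3 : F) • v = 0 := by rw [three_eq_zero hF, zero_smul]
      have h9 : (2 : F) • v = 0 := by
        rw [two_smul]
        nth_rewrite 2 [h7]
        rw [add_neg_cancel]
      apply hD.ne
      have h10 : v = (3 : F) • v - (2 : F) • v := by rw [← sub_smul]; norm_num
      rw [h10, h8, h9, sub_zero]
  rcases hc with rfl | rfl
  · exact ⟨ρ, v, hρ, hinj, hirr, hD⟩
  · have hdl : Function.Surjective dl := fun g => ⟨dl g, dl_dl g⟩
    have hdi : Function.Injective dl := fun a b h => by rw [← dl_dl a, h, dl_dl]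
    have hr : (ρ.comp dl).range = P := by
      rw [MonoidHom.range_comp, MonoidHom.range_eq_top.2 hdl, ← MonoidHom.range_eq_map, hρ]
    refine ⟨ρ.comp dl, v, hr, hinj.comp hdi, irr_rep _ hr hC.absIrred.1, ?_⟩
    have h1 := hD.twist
    rw [neg_one_mul, neg_neg] at h1
    exact h1

theorem natCast_smul_u (R : G11 →* Module.End F (Fin 6 → F)) {s : ZMod 11} (hs : s ≠ 0) {x : Fin 6 → F}
    (hx : R (u s) x = x) (r : ZMod 11) : R (u r) x = x := by
  have h1 : ∀ n : ℕ, R (u (n * s)) x = x := by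
    intro n
    induction n with
    | zero => simp [u_zero]
    | succ n ih =>
      have h2 : ((n + 1 : ℕ) : ZMod 11) * s = s + n * s := by push_cast; ring
      rw [h2, u_add, map_mul, Module.End.mul_apply, ih, hx]
  have h2 := h1 ((r / s : ZMod 11)).val
  rwa [ZMod.natCast_zmod_val, div_mul_cancel₀ _ hs] at h2

/-- an element of order `11` of `SL₂(11)` -/
theorem conj_u {g : G11} (hg : g ^ 11 = 1) (hg1 : g ≠ 1) : ∃ (k : G11) (s : ZMod 11), s ≠ 0 ∧ g = k * u s * k⁻¹ := by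
  have hnil : IsNilpotent (g.1 - 1) := by
    refine ⟨11, ?_⟩
    rw [sub_pow_char_of_commute 11 (Commute.one_right _), one_pow]
    have h1 : (g ^ 11).1 = g.1 ^ 11 := rfl
    rw [← h1, hg]
    exact sub_self _
  have htr := (Matrix.isNilpotent_trace_of_isNilpotent hnil).eq_zero
  rw [Matrix.trace_fin_two, Matrix.sub_apply, Matrix.sub_apply, Matrix.one_apply_eq, Matrix.one_apply_eq] at htr
  have h2 : g.1 0 0 + g.1 1 1 = 2 := by linear_combination htr
  obtain ⟨k, ε, s, hε, hk⟩ := exists_conj_unip g (by rw [h2]; norm_num)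
  have h3 : ∀ n : ℕ, (t ε * u s) ^ n = t ε ^ n * u (n * s) := by
    intro n
    induction n with
    | zero => simp [u_zero]
    | succ n ih =>
      have h4 : t ε * u s = u s * t ε := t_sq_central hε (u s)
      rw [pow_succ, ih, h4, mul_assoc, ← mul_assoc (u _), ← u_add, ← t_sq_central hε, ← mul_assoc, ← pow_succ]
      congr 2
      push_cast
      ring
  have h4 : (k * (t ε * u s) * k⁻¹) ^ 11 = k * (t ε * u s) ^ 11 * k⁻¹ := conj_pow
  rw [hk, h4, h3] at hg
  have h5 : ((11 : ℕ) : ZMod 11) = 0 := by decide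
  rw [h5, zero_mul, u_zero, mul_one, mul_inv_eq_one, mul_eq_left] at hg
  have h6 : t ε ^ 2 = 1 := by rw [sq, ← t_mul, ← sq, hε, t_one]
  have h7 : t ε = 1 := by
    have h8 : t ε ^ 11 = (t ε ^ 2) ^ 5 * t ε := by rw [← pow_mul, ← pow_succ]
    rwa [h8, h6, one_pow, one_mul] at hg
  rw [h7, one_mul] at hk
  refine ⟨k, s, ?_, hk⟩
  rintro rfl
  apply hg1
  rw [hk, u_zero, mul_one, mul_inv_cancel]

/-- **The 24 vectors, intrinsically.** -/
theorem mem_Om_iff (hF : Fintype.card F = 3) {P : Subgroup (GL (Fin 6) F)} {ρ : G11 →* GL (Fin 6) F} {v : Fin 6 → F}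
    (hρ : ρ.range = P) (hinj : Function.Injective ρ) (hD : Dat (rep ρ) v (-1) 1) (x : Fin 6 → F) :
    x ∈ Om (rep ρ) v ↔ x ≠ 0 ∧ ∃ g ∈ P, g ≠ 1 ∧ g ^ 11 = 1 ∧ (g : Matrix (Fin 6) (Fin 6) F) *ᵥ x = x := by
  have hu1 : (u (1 : ZMod 11)) ≠ 1 := by
    intro h
    have h1 := congrFun (congrFun (congrArg Subtype.val h) 0) 1
    simp at h1
  have hu11 : (u (1 : ZMod 11)) ^ 11 = 1 := by
    have h3 : ∀ n : ℕ, (u (1 : ZMod 11)) ^ n = u (n : ZMod 11) := by
      intro n
      induction n with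
      | zero => simp [u_zero]
      | succ n ih => rw [pow_succ, ih, ← u_add]; push_cast; rfl
    rw [h3]
    have h5 : ((11 : ℕ) : ZMod 11) = 0 := by decide
    rw [h5, u_zero]
  constructor
  · rintro ⟨ε, hε, hx⟩
    -- `x = ε • R k v`
    obtain ⟨k, hk⟩ : ∃ k : G11, x = ε • rep ρ k v := by
      rcases hx with hx | ⟨s, hx⟩
      · exact ⟨1, by rw [map_one, Module.End.one_apply]; exact hx⟩
      · refine ⟨u s * w 1, ?_⟩
        rw [map_mul, Module.End.mul_apply]
        exact hx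
    have hε0 : ε ≠ 0 := by
      rcases hε with rfl | rfl
      · exact one_ne_zero
      · exact neg_ne_zero.2 one_ne_zero
    refine ⟨?_, ρ (k * u 1 * k⁻¹), by rw [← hρ]; exact ⟨_, rfl⟩, ?_, ?_, ?_⟩
    · rw [hk]
      intro h1
      have h2 := (smul_eq_zero.1 h1).resolve_left hε0
      apply hD.ne
      apply R_injective (rep ρ) k
      rw [h2, map_zero]
    · intro h1
      rw [← map_one ρ] at h1
      have h2 := hinj h1
      rw [mul_inv_eq_one, mul_eq_left] at h2
      exact hu1 h2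
    · rw [← map_pow, conj_pow, hu11, mul_one, mul_inv_cancel, map_one]
    · rw [← rep_apply, hk, map_smul]
      congr 1
      rw [← Module.End.mul_apply, ← map_mul, inv_mul_cancel_right, map_mul, Module.End.mul_apply, hD.fix]
  · rintro ⟨hx0, g, hg, hg1, hg11, hgx⟩
    rw [← hρ] at hg
    obtain ⟨g', rfl⟩ := hg
    have h1 : g' ^ 11 = 1 := by
      apply hinj
      rw [map_pow, hg11, map_one]
    have h2 : g' ≠ 1 := by
      rintro rfl
      exact hg1 (map_one ρ)
    obtain ⟨k, s, hs, rfl⟩ := conj_u h1 h2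
    rw [← rep_apply] at hgx
    have h3 : rep ρ (u s) (rep ρ k⁻¹ x) = rep ρ k⁻¹ x := by
      have h4 := congrArg (rep ρ k⁻¹) hgx
      rwa [← Module.End.mul_apply, ← map_mul, mul_assoc, inv_mul_cancel_left, map_mul, Module.End.mul_apply] at h4
    obtain ⟨c, hc⟩ := hD.uniq _ (fun r => natCast_smul_u (rep ρ) hs h3 r)
    have h5 : x = c • rep ρ k v := by
      have h6 := congrArg (rep ρ k) hc
      rwa [← Module.End.mul_apply, ← map_mul, mul_inv_cancel, map_one, Module.End.one_apply, map_smul] at h6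
    have hc0 : c ≠ 0 := by
      rintro rfl
      exact hx0 (by rw [h5, zero_smul])
    have hc1 := sq_eq_one hF hc0
    obtain ⟨ε, hε, -, h6⟩ := orbit hD (Or.inr rfl) k
    have h7 : c * ε = 1 ∨ c * ε = -1 := by
      rcases hc1 with rfl | rfl <;> rcases hε with rfl | rfl <;> simp
    refine ⟨c * ε, h7, ?_⟩
    rcases h6 with ⟨h6, -⟩ | ⟨s, h6⟩
    · left; rw [h5, h6, smul_smul]
    · right; exact ⟨s, by rw [h5, h6, smul_smul]⟩

/-- the setwise stabiliser of a set of vectors in `SL₆` -/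
def stab (S : Set (Fin 6 → F)) : Subgroup (GL (Fin 6) F) where
  carrier := {g | g ∈ specialLinear (Fin 6) F ∧ ∀ x, (g : Matrix (Fin 6) (Fin 6) F) *ᵥ x ∈ S ↔ x ∈ S}
  one_mem' := ⟨one_mem _, fun x => by rw [Units.val_one, Matrix.one_mulVec]⟩
  mul_mem' {a b} ha hb := ⟨mul_mem ha.1 hb.1, fun x => by
    rw [Units.val_mul, ← Matrix.mulVec_mulVec, ha.2, hb.2]⟩
  inv_mem' {a} ha := ⟨inv_mem ha.1, fun x => by
    rw [← ha.2, Matrix.mulVec_mulVec, ← Units.val_mul, mul_inv_cancel, Units.val_one, Matrix.one_mulVec]⟩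

/-- an endomorphism of order dividing three as an element of `SL₆(3)` -/
theorem exists_gl (hF : Fintype.card F = 3) {E : Module.End F (Fin 6 → F)} (hE : E * E * E = 1) :
    ∃ g : GL (Fin 6) F, g ∈ specialLinear (Fin 6) F ∧ ∀ x, (g : Matrix (Fin 6) (Fin 6) F) *ᵥ x = E x := by
  set A := LinearMap.toMatrixAlgEquiv' E with hA
  have h1 : A * A * A = 1 := by rw [hA, ← map_mul, ← map_mul, hE, map_one]
  let g : GL (Fin 6) F := ⟨A, A * A, by rw [← Matrix.mul_assoc, h1], h1⟩
  have hg3 : g ^ 3 = 1 := by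
    apply Units.ext
    rw [Units.val_pow_eq_pow_val, pow_succ, pow_two]
    exact h1
  refine ⟨g, ?_, fun x => ?_⟩
  · change Matrix.GeneralLinearGroup.det g = 1
    have h2 : Matrix.GeneralLinearGroup.det g ^ 3 = 1 := by rw [← map_pow, hg3, map_one]
    apply Units.ext
    have h3 := FiniteField.pow_card ((Matrix.GeneralLinearGroup.det g : Fˣ) : F)
    rw [hF, ← Units.val_pow_eq_pow_val, h2] at h3
    exact h3.symm
  · change A *ᵥ x = E x
    rw [hA, ← Matrix.toLin'_apply]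
    have h2 : Matrix.toLin' (LinearMap.toMatrixAlgEquiv' E) = E := Matrix.toLin'_toMatrix' E
    rw [h2]

/-- **`2.L₂(11)` in dimension six over the field with three elements.** -/
theorem not_maximal (hF : Fintype.card F = 3) {H P : Subgroup (GL (Fin 6) F)}
    (hH : IsMaximalIn (specialLinear (Fin 6) F) H) (hP : IsResidualCore H P)
    (e : Soc P ≃* ProjectiveSpecialLinearGroup (Fin 2) (ZMod 11)) : False := by
  have hC := core_of_residual hP
  obtain ⟨ρ, v, hρ, hinj, hirr, hD⟩ := exists_nice hF hC e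
  have hV := finrank_six (F := F)
  have hOm := mem_Om_iff hF hρ hinj hD
  -- `H` permutes the vectors
  have hHX : H ≤ stab (Om (rep ρ) v) := by
    have key : ∀ h ∈ H, ∀ x, x ∈ Om (rep ρ) v → (h : Matrix (Fin 6) (Fin 6) F) *ᵥ x ∈ Om (rep ρ) v := by
      intro h hh x hx
      rw [hOm] at hx ⊢
      obtain ⟨hx0, g, hg, hg1, hg11, hgx⟩ := hx
      refine ⟨?_, h * g * h⁻¹, hP.normal h hh g hg, ?_, ?_, ?_⟩
      · intro h1
        apply hx0
        have h2 := congrArg (fun y => ((h⁻¹ : GL (Fin 6) F) : Matrix (Fin 6) (Fin 6) F) *ᵥ y) h1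
        simp only [Matrix.mulVec_mulVec, ← Units.val_mul, inv_mul_cancel, Units.val_one, Matrix.one_mulVec,
          Matrix.mulVec_zero] at h2
        exact h2
      · intro h1
        rw [mul_inv_eq_one, mul_eq_left] at h1
        exact hg1 h1
      · rw [conj_pow, hg11, mul_one, mul_inv_cancel]
      · rw [Matrix.mulVec_mulVec, ← Units.val_mul, inv_mul_cancel_right, Units.val_mul, ← Matrix.mulVec_mulVec, hgx]
    intro h hh
    refine ⟨hH.1.le hh, fun x => ⟨fun hx => ?_, key h hh x⟩⟩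
    have h1 := key h⁻¹ (inv_mem hh) _ hx
    rwa [Matrix.mulVec_mulVec, ← Units.val_mul, inv_mul_cancel, Units.val_one, Matrix.one_mulVec] at h1
  obtain ⟨E, hE3, Ev, E0, E1, E2, E3, E4, E5, E6, E7, E8, E9, E10⟩ := exists_E hF hV hD hirr
  obtain ⟨T, hT3, xT, hxT, hTx⟩ := exists_T hF hV hD hirr
  obtain ⟨gE, hgE, hgE2⟩ := exists_gl hF hE3
  obtain ⟨gT, hgT, hgT2⟩ := exists_gl hF hT3
  have hEOm : ∀ x, x ∈ Om (rep ρ) v → E x ∈ Om (rep ρ) v := by
    have hEy : ∀ s, ∃ r, E (y (rep ρ) v s) = y (rep ρ) v r :=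
      all_s (fun s => ∃ r, E (y (rep ρ) v s) = y (rep ρ) v r) ⟨_, E0⟩ ⟨_, E1⟩ ⟨_, E2⟩ ⟨_, E3⟩ ⟨_, E4⟩ ⟨_, E5⟩ ⟨_, E6⟩
        ⟨_, E7⟩ ⟨_, E8⟩ ⟨_, E9⟩ ⟨_, E10⟩
    rintro x ⟨ε, hε, rfl | ⟨s, rfl⟩⟩
    · exact ⟨ε, hε, Or.inl (by rw [map_smul, Ev])⟩
    · obtain ⟨r, hr⟩ := hEy s
      exact ⟨ε, hε, Or.inr ⟨r, by rw [map_smul, hr]⟩⟩
  have hEX : gE ∈ stab (Om (rep ρ) v) := by
    refine ⟨hgE, fun x => ?_⟩
    rw [hgE2]
    refine ⟨fun hx => ?_, hEOm x⟩
    have h1 := hEOm _ (hEOm _ hx)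
    have h2 : E (E (E x)) = x := DFunLike.congr_fun hE3 x
    rwa [h2] at h1
  have hTX : gT ∉ stab (Om (rep ρ) v) := by
    intro h
    apply hTx
    rw [← hgT2]
    exact (h.2 xT).2 hxT
  have hX : stab (Om (rep ρ) v) = H := by
    refine (hH.2 _ hHX (fun g hg => hg.1)).resolve_right (fun h => hTX ?_)
    rw [h]
    exact hgT
  have hEH : gE ∈ H := by rw [← hX]; exact hEX
  -- the commutator of `E` and `u`
  have hcomm : gE * ρ (u 1) * gE⁻¹ * (ρ (u 1))⁻¹ ∈ P :=
    mul_mem (hP.normal gE hEH _ (by rw [← hρ]; exact ⟨_, rfl⟩)) (inv_mem (by rw [← hρ]; exact ⟨_, rfl⟩))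
  have hcomm' := hcomm
  rw [← hρ] at hcomm'
  obtain ⟨g', hg'⟩ := hcomm'
  -- its action
  have hEinv : ∀ x z, E x = z → ((gE⁻¹ : GL (Fin 6) F) : Matrix (Fin 6) (Fin 6) F) *ᵥ z = x := by
    intro x z hxz
    rw [← hxz, ← hgE2, Matrix.mulVec_mulVec, ← Units.val_mul, inv_mul_cancel, Units.val_one, Matrix.one_mulVec]
  have hact : ∀ a b c d f : Fin 6 → F, rep ρ (u (-1)) a = b → E c = b → rep ρ (u 1) c = d → E d = f →
      rep ρ g' a = f := by
    intro a b c d f h1 h2 h3 h4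
    have h5 : (ρ (u 1))⁻¹ = ρ (u (-1)) := by
      rw [← map_inv]
      congr 1
      rw [inv_eq_iff_mul_eq_one, ← u_add, add_neg_cancel, u_zero]
    rw [rep_apply, hg', h5, Units.val_mul, Units.val_mul, Units.val_mul, ← Matrix.mulVec_mulVec, ← Matrix.mulVec_mulVec,
      ← Matrix.mulVec_mulVec, ← rep_apply ρ (u (-1)), h1, hEinv _ _ h2, ← rep_apply, h3, hgE2, h4]
  have cv := hact v v v v v (hD.fix _) Ev (hD.fix _) Ev
  have c0 := hact (y (rep ρ) v 0) (y (rep ρ) v 10) (y (rep ρ) v 10) (y (rep ρ) v 0) (y (rep ρ) v 0)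
    (by rw [R_u_y]; congr 1) E10 (by rw [R_u_y]; congr 1) E0
  have c4 := hact (y (rep ρ) v 4) (y (rep ρ) v 3) (y (rep ρ) v 6) (y (rep ρ) v 7) (y (rep ρ) v 4)
    (by rw [R_u_y]; congr 1) E6 (by rw [R_u_y]; congr 1) E7
  have c1 := hact (y (rep ρ) v 1) (y (rep ρ) v 0) (y (rep ρ) v 0) (y (rep ρ) v 1) (y (rep ρ) v 6)
    (by rw [R_u_y]; congr 1) E0 (by rw [R_u_y]; congr 1) E1
  obtain ⟨ε, hε, h1⟩ := rigid hF hV hD hirr cv c0 c4 1
  rw [c1] at h1
  have h2 := y_inj hF hV hD hirr h1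
  revert h2
  decide

end concrete

end Cfsg.Agent.H830.L11
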