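import Cfsg.Agent.H830.MonThree
import Cfsg.Agent.H830.Transp
import Cfsg.Agent.H830.Over24
import Cfsg.Agent.H849.ThreeNorm
import Cfsg.Agent.H849.FrTwelve
import Cfsg.Agent.H820.Bridge
import Cfsg.Agent.LThreeMB.CoOneFin

/-!
# The normaliser of a 3-central subgroup of order 3 of `C(z, y)` in a group of Monster type (helper830)

`exists_data` : the data `ThreeNorm.Data x t π` with `F = Fi24`.  `quasi` : `C(x)` is quasisimple.
-/

set_option autoImplicit false

namespace Cfsg.Agent.H830.MonData

open Cfsg Cfsg.Spor Cfsg.Agent.MonsterU Cfsg.Agent.MonsterU.Lam2 Cfsg.Agent.MonsterU.Ch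
open Cfsg.Agent.H819 Cfsg.Agent.H819.Base Cfsg.Agent.H819.Frame
open Cfsg.Agent.LThreeMB (fr XX Zx)
open Cfsg.Agent.MonsterU.CoFrameL2 (f0 F)
open Cfsg.Agent.H849.ThreeNorm
open Subgroup (centralizer zpowers mem_centralizer_singleton_iff)

theorem center_commutator : Subgroup.center ↥(_root_.commutator Spor.Fi24) = ⊥ := by
  have hs : IsSimpleGroup ↥(_root_.commutator Spor.Fi24) := Cfsg.Agent.R08.FiTwentyFour.isFi24'.1
  have hc : Nat.card ↥(_root_.commutator Spor.Fi24) = 1255205709190661721292800 :=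
    Cfsg.Agent.R08.FiTwentyFour.card_commutator
  have : Finite Spor.Fi24 := Cfsg.Agent.R08.FiTwentyFour.finite_Fi24
  rcases (inferInstance : (Subgroup.center ↥(_root_.commutator Spor.Fi24)).Normal).eq_bot_or_eq_top with h | h
  · exact h
  · exfalso
    have h1 : ∀ a b : ↥(_root_.commutator Spor.Fi24), a * b = b * a := fun a b => by
      have : b ∈ Subgroup.center ↥(_root_.commutator Spor.Fi24) := by rw [h]; trivial
      exact Subgroup.mem_center_iff.1 this a
    let _ : CommGroup ↥(_root_.commutator Spor.Fi24) := { (inferInstance : Group _) with mul_comm := h1 }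
    have h2 : IsSimpleGroup ↥(_root_.commutator Spor.Fi24) := hs
    have h3 : (Nat.card ↥(_root_.commutator Spor.Fi24)).Prime := IsSimpleGroup.prime_card
    rw [hc] at h3
    revert h3
    norm_num

/-- a central extension of a simple group with trivial centre, with kernel in the derived subgroup, is quasisimple -/
theorem isQuasisimple {C S : Type*} [Group C] [Group S] [hs : IsSimpleGroup S] (hZ : Subgroup.center S = ⊥)
    (π : C →* S) (hπ : Function.Surjective π) (hk : ∀ k : C, π k = 1 → k ∈ Subgroup.center C)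
    (hk' : ∀ k : C, π k = 1 → k ∈ _root_.commutator C) : IsQuasisimple C := by
  have hker : π.ker = Subgroup.center C := by
    ext c
    rw [MonoidHom.mem_ker]
    constructor
    · exact hk c
    · intro hc
      have h1 : π c ∈ Subgroup.center S := by
        rw [Subgroup.mem_center_iff]
        intro g
        obtain ⟨g, rfl⟩ := hπ g
        rw [← map_mul, ← map_mul, Subgroup.mem_center_iff.1 hc]
      rwa [hZ, Subgroup.mem_bot] at h1
  have hperfS : _root_.commutator S = ⊤ := by
    rcases (inferInstance : (_root_.commutator S).Normal).eq_bot_or_eq_top with h | h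
    · exfalso
      have h1 : ∀ a : S, a ∈ Subgroup.center S := by
        intro a
        rw [Subgroup.mem_center_iff]
        intro b
        have h2 : b * a * b⁻¹ * a⁻¹ ∈ _root_.commutator S :=
          Subgroup.commutator_mem_commutator (Subgroup.mem_top _) (Subgroup.mem_top _)
        rw [h, Subgroup.mem_bot] at h2
        calc b * a = b * a * b⁻¹ * a⁻¹ * (a * b) := by group
          _ = a * b := by rw [h2, one_mul]
      obtain ⟨a, b, hab⟩ := hs.toNontrivial.exists_pair_ne
      have h3 := h1 a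
      have h4 := h1 b
      rw [hZ, Subgroup.mem_bot] at h3 h4
      exact hab (h3.trans h4.symm)
    · exact h
  refine ⟨Group.isPerfect_def.2 ?_, ?_⟩
  · rw [eq_top_iff]
    intro c _
    have h1 : (_root_.commutator C).map π = ⊤ := by
      rw [_root_.commutator_def, Subgroup.map_commutator, Subgroup.map_top_of_surjective _ hπ,
        ← _root_.commutator_def, hperfS]
    obtain ⟨d, hd, hdc⟩ : π c ∈ (_root_.commutator C).map π := by rw [h1]; trivial
    have h2 : d⁻¹ * c ∈ _root_.commutator C := hk' _ (by rw [map_mul, map_inv, hdc, inv_mul_cancel])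
    have h3 := mul_mem hd h2
    rwa [mul_inv_cancel_left] at h3
  · exact ((QuotientGroup.quotientMulEquivOfEq hker.symm).trans
      (QuotientGroup.quotientKerEquivOfSurjective π hπ)).isSimpleGroup

/-- `C(x)` is quasisimple -/
theorem quasi {G : Type*} [Group G] {x t : G} {π : centralizer ({x} : Set G) →* ↥(_root_.commutator Spor.Fi24)}
    (D : Data x t π) : IsQuasisimple ↥(centralizer ({x} : Set G)) := by
  have hs : IsSimpleGroup ↥(_root_.commutator Spor.Fi24) := Cfsg.Agent.R08.FiTwentyFour.isFi24'.1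
  refine isQuasisimple center_commutator π D.surj ?_ ?_
  · intro k hk
    exact Data.center_of k ((D.ker k).1 hk)
  · intro k hk
    obtain ⟨i, hi⟩ := Subgroup.mem_zpowers_iff.1 ((D.ker k).1 hk)
    have h1 : k = (⟨x, mem_centralizer_singleton_iff.2 rfl⟩ : centralizer ({x} : Set G)) ^ i := Subtype.ext hi.symm
    rw [h1]
    exact Subgroup.zpow_mem _ (D.comm _) i

variable {G : Type*} [Group G] {P : Subgroup G} {z y : G} {eta : G → L2}
  {pi : Subgroup.centralizer ({z} : Set G) →* Co1}

/-- **The data.** -/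
theorem exists_data [Finite G] [IsSimpleGroup G] (h : Chart P z eta pi) (hyP : y ∈ P) (h4 : IsType 4 (eta y))
    (R : Sylow 3 ↥(centralizer ({z, y} : Set G))) {x : ↥(centralizer ({z, y} : Set G))}
    (hxR : x ∈ (R : Subgroup _)) (hc : ∀ r ∈ (R : Subgroup _), x * r = r * x) (hx : orderOf x = 3) :
    ∃ (t : G) (π : centralizer ({(x : G)} : Set G) →* ↥(_root_.commutator Spor.Fi24)), Data (x : G) t π := by
  obtain ⟨s, hs⟩ := AmalSideOf.exists_smul_f0 h4
  have h' := h.smul s
  have hx1 : x ≠ 1 := by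
    rintro rfl
    rw [orderOf_one] at hx
    norm_num at hx
  have hfr := MonThree.fr_eq h' hyP hs R hxR hc hx1
  obtain ⟨t, ht⟩ := MonThree.exists_inv h' hyP hs R hxR hc hx
  obtain ⟨e⟩ := Cfsg.Agent.H849.FrTwelve.iso_fi h' Cfsg.Agent.LThreeMB.CoOneFin.coOne (x := toZ x)
    (by rw [← Subgroup.orderOf_coe]; show orderOf (x : G) = 3; rw [Subgroup.orderOf_coe, hx]) hfr
  have hk1 : ∀ u, e u = 1 ↔ u = 1 := fun u =>
    ⟨fun hu => e.injective (hu.trans (map_one e).symm), fun hu => by rw [hu]; exact map_one e⟩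
  refine ⟨t, e.toMonoidHom.comp (QuotientGroup.mk' (Zx (x : G))), ?_⟩
  exact
    { ord := by rw [Subgroup.orderOf_coe, hx]
      inv := congrArg Subtype.val ht
      surj := e.surjective.comp (QuotientGroup.mk'_surjective _)
      ker := by
        intro k
        refine (hk1 (QuotientGroup.mk' (Zx (x : G)) k)).trans ?_
        show (QuotientGroup.mk k : XX (x : G)) = 1 ↔ _
        rw [QuotientGroup.eq_one_iff, Zx, Subgroup.mem_zpowers_iff, Subgroup.mem_zpowers_iff]
        constructor
        · rintro ⟨n, hn⟩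
          exact ⟨n, congrArg Subtype.val hn⟩
        · rintro ⟨n, hn⟩
          exact ⟨n, Subtype.ext hn⟩
      comm := fun hx' => MonThree.mem_comm h' hyP hs R hxR hc hx1 hx' }

/-- **The centraliser and the normaliser.** -/
theorem final {G : Type*} [Group G] [Finite G] {x t : G}
    {π : centralizer ({x} : Set G) →* ↥(_root_.commutator Spor.Fi24)} (D : Data x t π)
    (C : Subgroup G) (hC : C = centralizer ({x} : Set G)) (B : Subgroup G) (hB : B = zpowers x)
    [hn : (B.subgroupOf C).Normal] [hn' : (B.subgroupOf (Subgroup.normalizer (B : Set G))).Normal] :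
    IsQuasisimple ↥C ∧ Spor.IsoFi24' (↥C ⧸ B.subgroupOf C) ∧
    ∃ E : Set (↥(Subgroup.normalizer (B : Set G)) ⧸ B.subgroupOf (Subgroup.normalizer (B : Set G))),
      IsThreeTranspositionClass E ∧ IsOfTypeM24 _ E := by
  subst hC
  subst hB
  refine ⟨quasi D, ⟨?_⟩, ?_⟩
  · have hk : (zpowers x).subgroupOf (centralizer ({x} : Set G)) = π.ker := by
      ext k
      rw [Subgroup.mem_subgroupOf, MonoidHom.mem_ker, D.ker]
    exact (QuotientGroup.quotientMulEquivOfEq hk).trans (QuotientGroup.quotientKerEquivOfSurjective π D.surj)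
  · have hfin : Finite Spor.Fi24 := Cfsg.Agent.R08.FiTwentyFour.finite_Fi24
    obtain ⟨_, ⟨e⟩⟩ := D.quot_iso Cfsg.Agent.R08.FiTwentyFour.index_commutator center_commutator
      Cfsg.Agent.KFacts.FiTF.exists_conj
    obtain ⟨hF, -, -, hT⟩ := Transp.fi24 e.symm
    exact ⟨_, hF.cls, hT⟩

/-- **The main result.** -/
theorem main [Finite G] [IsSimpleGroup G] (h : Chart P z eta pi) (hyP : y ∈ P) (h4 : IsType 4 (eta y))
    (Y : Subgroup G) (hY : Y ≤ centralizer ({z, y} : Set G)) (hY3 : Nat.card ↥Y = 3)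
    (hc : ∃ R : Sylow 3 ↥(centralizer ({z, y} : Set G)), Y.subgroupOf (centralizer ({z, y} : Set G)) ≤
      (Subgroup.center ↥(R : Subgroup ↥(centralizer ({z, y} : Set G)))).map
        (R : Subgroup ↥(centralizer ({z, y} : Set G))).subtype) :
    ∃ (x t : G) (π : centralizer ({x} : Set G) →* ↥(_root_.commutator Spor.Fi24)),
      Y = zpowers x ∧ centralizer (Y : Set G) = centralizer ({x} : Set G) ∧ Data x t π := by
  obtain ⟨R, hR⟩ := hc
  have : Fact (Nat.Prime 3) := ⟨by norm_num⟩
  have hcyc : IsCyclic ↥Y := isCyclic_of_prime_card hY3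
  obtain ⟨⟨x0, hx0Y⟩, hx0⟩ := hcyc.exists_generator
  have hYx0 : Y = zpowers x0 := by
    apply le_antisymm
    · intro b hb
      obtain ⟨i, hi⟩ := Subgroup.mem_zpowers_iff.1 (hx0 ⟨b, hb⟩)
      exact ⟨i, congrArg Subtype.val hi⟩
    · rw [Subgroup.zpowers_le]; exact hx0Y
  have hx0o : orderOf x0 = 3 := by rw [← Nat.card_zpowers, ← hYx0, hY3]
  let x1 : ↥(centralizer ({z, y} : Set G)) := ⟨x0, hY hx0Y⟩
  have hx1o : orderOf x1 = 3 := by rw [← hx0o]; exact (Subgroup.orderOf_coe x1).symm
  obtain ⟨u, hu, hux⟩ := hR (show x1 ∈ Y.subgroupOf _ from hx0Y)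
  have hux' : (u : ↥(centralizer ({z, y} : Set G))) = x1 := hux
  have hxR : x1 ∈ (R : Subgroup _) := by rw [← hux']; exact u.2
  have hcen : ∀ r ∈ (R : Subgroup _), x1 * r = r * x1 := by
    intro r hr
    have h1 := Subgroup.mem_center_iff.1 hu ⟨r, hr⟩
    rw [← hux']
    exact (congrArg Subtype.val h1).symm
  obtain ⟨t, π, D⟩ := exists_data h hyP h4 R hxR hcen hx1o
  refine ⟨x0, t, π, hYx0, ?_, D⟩
  rw [hYx0]
  ext g
  rw [Subgroup.mem_centralizer_iff, mem_centralizer_singleton_iff]
  constructor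
  · intro h9
    exact (h9 x0 (Subgroup.mem_zpowers _)).symm
  · rintro h9 _ ⟨m, rfl⟩
    have h10 : Commute g x0 := h9
    exact (h10.zpow_right m).eq.symm

end Cfsg.Agent.H830.MonData
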