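import Cfsg.Agent.H819.Eight
import Cfsg.Agent.LThreeMB.CTwelveFix

/-!
# The Sylow 3-subgroup of `2^11.M24`: the centre has fixed rank 12 (helper830)

`exists_S'` : helper819's Sylow 3-subgroup `S` of `M24`, with `a ∈ [S, S]`, `Z(S) = ⟨a⟩`, `a` conjugate to `a²` and to the
permutation of `g12`; `fr_a : fr (j a) = 2 ^ 12`.
-/

set_option autoImplicit false
set_option maxRecDepth 10000

namespace Cfsg.Agent.H830.MonPerm

open Cfsg Cfsg.Agent.KFacts.MM.El Cfsg.Agent.SporadicA.GolayBase Cfsg.Agent.SporadicA.GolayPerm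
open Cfsg.Agent.H819.Syl3
open Cfsg.Agent.H819.Eight (j)
open Cfsg.Agent.MonsterU.CoFrameL2 (F)
open Cfsg.Agent.SporadicA.Co0Mono (permCo0)
open Cfsg.Agent.SporadicStructure.Co0Matrix Cfsg.Agent.CoOneType.CoEval
open Cfsg.Agent.LThreeMB (fr)
open Cfsg.Spor (Co1)

/-- the permutation of `g12` -/
def P12 : ℕ := 303329110903606810653138586390616256

/-- it is conjugate to `A` by this one -/
def K12 : ℕ := 274462186435234854531045829899752726

/-- `A²` is conjugate to `A` by this one -/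
def KA : ℕ := 683034529225508988185221380175995953

theorem ok12 : (isPerm P12 && isPerm K12 && isPerm KA && isAut P12 && isAut K12 && isAut KA) = true := by
  decide +kernel

theorem conj12 : weq [K12, P12] [A, K12] = true := by decide +kernel

theorem conjAA : weq [KA, A, A] [A, KA] = true := by decide +kernel

theorem cubeA : weq [A, A, A] [] = true := by decide +kernel

theorem neA : weq [A] [] = false := by decide +kernel

theorem comBC : weq [B, C] [A, C, B] = true := by decide +kernel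

/-- the words commuting with `B` and `C` -/
theorem cen_L : (L.all fun l => !(weq (B :: l) (l ++ [B]) && weq (C :: l) (l ++ [C])) ||
    (weq l [] || (weq l [A] || weq l [A, A]))) = true := by decide +kernel

theorem okP : isPerm P12 = true ∧ isAut P12 = true ∧ isPerm K12 = true ∧ isAut K12 = true ∧
    isPerm KA = true ∧ isAut KA = true := by
  have h := ok12
  simp only [Bool.and_eq_true] at h
  obtain ⟨⟨⟨⟨⟨h1, h2⟩, h3⟩, h4⟩, h5⟩, h6⟩ := h
  exact ⟨h1, h4, h2, h5, h3, h6⟩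

/-- the permutation of `g12` in `M24` -/
noncomputable def m12 : M24 := ⟨pm P12, pm_mem_M24 okP.1 okP.2.1⟩

theorem okl1 {g : ℕ} (hg : isPerm g = true) : okl [g] = true := okl_cons' hg (by rfl)

theorem okA : isPerm A = true := (okABC List.mem_cons_self).1
theorem okB : isPerm B = true := (okABC (List.mem_cons_of_mem _ List.mem_cons_self)).1
theorem okC : isPerm C = true :=
  (okABC (List.mem_cons_of_mem _ (List.mem_cons_of_mem _ List.mem_cons_self))).1

theorem B_mem : pm B ∈ SP := by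
  obtain ⟨m, hm, h⟩ := gen_mul (g := B) (List.mem_cons_of_mem _ List.mem_cons_self) (l := []) List.mem_cons_self
  exact ⟨m, hm, by rw [h, pr_nil, mul_one]⟩

theorem C_mem : pm C ∈ SP := by
  obtain ⟨m, hm, h⟩ := gen_mul (g := C)
    (List.mem_cons_of_mem _ (List.mem_cons_of_mem _ List.mem_cons_self)) (l := []) List.mem_cons_self
  exact ⟨m, hm, by rw [h, pr_nil, mul_one]⟩

theorem pm_conj12 : pm K12 * pm P12 = pm A * pm K12 := by
  have h := pr_of_weq (okl_cons' okP.2.2.1 (okl1 okP.1)) (okl_cons' okA (okl1 okP.2.2.1)) conj12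
  rwa [pr_cons, pr_one, pr_cons, pr_one] at h

theorem pm_conjAA : pm KA * (pm A * pm A) = pm A * pm KA := by
  have h := pr_of_weq (okl_cons' okP.2.2.2.2.1 (okl_cons' okA (okl1 okA)))
    (okl_cons' okA (okl1 okP.2.2.2.2.1)) conjAA
  rwa [pr_cons, pr_cons, pr_one, pr_cons, pr_one] at h

theorem pm_cubeA : pm A * (pm A * pm A) = 1 := by
  have h := pr_of_weq (okl_cons' okA (okl_cons' okA (okl1 okA))) (by rfl) cubeA
  rwa [pr_cons, pr_cons, pr_one, pr_nil] at h

theorem pm_neA : pm A ≠ 1 := by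
  have h := pr_ne (okl1 okA) (by rfl) neA
  rwa [pr_one, pr_nil] at h

theorem pm_comBC : pm B * pm C = pm A * (pm C * pm B) := by
  have h := pr_of_weq (okl_cons' okB (okl1 okC)) (okl_cons' okA (okl_cons' okC (okl1 okB))) comBC
  rwa [pr_cons, pr_one, pr_cons, pr_cons, pr_one] at h

theorem cen_SP {g : Equiv.Perm GolayPt} (hg : g ∈ SP) (hB : pm B * g = g * pm B) (hC : pm C * g = g * pm C) :
    g = 1 ∨ g = pm A ∨ g = pm A * pm A := by
  obtain ⟨l, hl, rfl⟩ := hg
  have h1 := okl_L hl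
  have h := List.all_eq_true.1 cen_L l hl
  rw [Bool.or_eq_true, Bool.not_eq_true', Bool.and_eq_false_iff] at h
  rcases h with (h | h) | h
  · exfalso
    refine pr_ne (okl_cons' okB h1) (okl_append h1 (okl1 okB)) h ?_
    rw [pr_cons, pr_append, pr_one, hB]
  · exfalso
    refine pr_ne (okl_cons' okC h1) (okl_append h1 (okl1 okC)) h ?_
    rw [pr_cons, pr_append, pr_one, hC]
  · rw [Bool.or_eq_true, Bool.or_eq_true] at h
    rcases h with h | h | h
    · left
      rw [pr_of_weq h1 (by rfl) h, pr_nil]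
    · right; left
      rw [pr_of_weq h1 (okl1 okA) h, pr_one]
    · right; right
      rw [pr_of_weq h1 (okl_cons' okA (okl1 okA)) h, pr_cons, pr_one]

/-- **A Sylow 3-subgroup of `M24`.** -/
theorem exists_S' : ∃ (S : Subgroup M24) (a : M24), Nat.card ↥S = 27 ∧ a ∈ S ∧ (∀ s ∈ S, a * s = s * a) ∧
    (∃ b ∈ S, ∃ c ∈ S, b * c * b⁻¹ * c⁻¹ = a) ∧
    (∀ s ∈ S, (∀ u ∈ S, u * s = s * u) → s = 1 ∨ s = a ∨ s = a * a) ∧
    a ^ 3 = 1 ∧ a ≠ 1 ∧ (∃ k : M24, k * (a * a) * k⁻¹ = a) ∧ ∃ k : M24, k * m12 * k⁻¹ = a := by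
  refine ⟨SP.subgroupOf M24, ⟨pm A, SP_le A_mem⟩, ?_, A_mem, fun s hs => Subtype.ext (A_comm hs),
    ⟨⟨pm B, SP_le B_mem⟩, B_mem, ⟨pm C, SP_le C_mem⟩, C_mem, ?_⟩, ?_, ?_, ?_,
    ⟨⟨pm KA, pm_mem_M24 okP.2.2.2.2.1 okP.2.2.2.2.2⟩, ?_⟩,
    ⟨⟨pm K12, pm_mem_M24 okP.2.2.1 okP.2.2.2.1⟩, ?_⟩⟩
  · rw [Nat.card_congr (Subgroup.subgroupOfEquivOfLe SP_le).toEquiv, card_SP]
  · apply Subtype.ext
    show pm B * pm C * (pm B)⁻¹ * (pm C)⁻¹ = pm A
    rw [mul_inv_eq_iff_eq_mul, mul_inv_eq_iff_eq_mul, pm_comBC, mul_assoc]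
  · rintro ⟨s, hsM⟩ hs hu
    have h1 := cen_SP (g := s) hs (congrArg Subtype.val (hu ⟨pm B, SP_le B_mem⟩ B_mem))
      (congrArg Subtype.val (hu ⟨pm C, SP_le C_mem⟩ C_mem))
    rcases h1 with h1 | h1 | h1
    · exact Or.inl (Subtype.ext h1)
    · exact Or.inr (Or.inl (Subtype.ext h1))
    · exact Or.inr (Or.inr (Subtype.ext h1))
  · apply Subtype.ext
    show (pm A) ^ 3 = 1
    rw [pow_succ', pow_two, pm_cubeA]
  · intro h
    exact pm_neA (congrArg Subtype.val h)
  · apply Subtype.ext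
    show pm KA * (pm A * pm A) * (pm KA)⁻¹ = pm A
    rw [mul_inv_eq_iff_eq_mul, pm_conjAA]
  · apply Subtype.ext
    show pm K12 * pm P12 * (pm K12)⁻¹ = pm A
    rw [mul_inv_eq_iff_eq_mul, pm_conj12]

/-! ### The element `g12` of `Co₀` -/

open Cfsg.Agent.LThreeMB.CTwelveFix (g12 rP repP fr_g12)

/-- the inverse of the permutation of `g12` -/
def Q12 : ℕ := (List.range 24).foldr (fun i acc => acc * 32 + [0, 11, 9, 3, 14, 7, 1, 23, 18, 22, 10, 6, 12, 15, 17, 19,
  8, 4, 16, 13, 20, 21, 2, 5].getD i 0) 0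

theorem okQ : isPerm Q12 = true := by decide +kernel

theorem invQ : weq [P12, Q12] [] = true := by decide +kernel

theorem pm_Q : (pm P12)⁻¹ = pm Q12 := by
  have h := pr_of_weq (okl_cons' okP.1 (okl1 okQ)) (by rfl) invQ
  rw [pr_cons, pr_one, pr_nil] at h
  exact (eq_inv_of_mul_eq_one_right h).symm

theorem vec_eq : ∀ p : GolayPt, vec betaL (pt (papp Q12 (idx p))) = vec (ap rP betaL) p := by
  decide +kernel

theorem g12_eq : permCo0 m12 = g12 := by
  apply eq_of_fix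
  apply Subtype.ext
  have h1 := Rep.apply repP (v := beta) (l := betaL) (by decide) rfl
  have h2 : (((permCo0 m12).1 beta : leechLattice) : GolayPt → ℤ) =
      fun p => vec betaL ((pm P12)⁻¹ p) := rfl
  rw [h2]
  have h1' : ((g12.1 beta : leechLattice) : GolayPt → ℤ) = vec (ap rP betaL) := h1
  rw [h1']
  funext p
  have h3 := val_pm okQ (idx_lt p)
  unfold val at h3
  rw [pt_idx] at h3
  have h4 : pm Q12 p = pt (papp Q12 (idx p)) := by rw [← h3, pt_idx]
  rw [pm_Q, ← vec_eq p, h4]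

/-- **Fixed rank 12.** -/
theorem fr_j {a : M24} (ha : ∃ k : M24, k * m12 * k⁻¹ = a) : fr ((j a : ↥F) : Co1) = 2 ^ 12 := by
  obtain ⟨k, rfl⟩ := ha
  have h1 : ((j m12 : ↥F) : Co1) = (QuotientGroup.mk g12 : Co1) := by
    show Cfsg.Agent.CoOneType.CoOneE.pr (permCo0 m12) = _
    rw [g12_eq]
    rfl
  have h2 : ((j (k * m12 * k⁻¹) : ↥F) : Co1) = ((j k : ↥F) : Co1) * ((j m12 : ↥F) : Co1) * ((j k : ↥F) : Co1)⁻¹ := by
    rw [map_mul, map_mul, map_inv]
    rfl
  rw [h2, h1, Cfsg.Agent.LThreeMB.fr_conj, fr_g12]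

end Cfsg.Agent.H830.MonPerm
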