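import Cfsg.Agent.H830.MonPerm

/-!
# Elements of order 3 central in a Sylow 3-subgroup of `C(z, y)` (helper830)

`h : Chart P z eta pi`, `y ∈ P` with `eta y = f0`, `x` of order 3 central in a Sylow 3-subgroup `R` of `C(z, y)`:
`fr_eq : fr (pi x) = 2 ^ 12`, `mem_comm : x ∈ [C(x), C(x)]`, `exists_inv` : `x` is inverted in `C(z, y)`.
-/

set_option autoImplicit false

namespace Cfsg.Agent.H830.MonThree

open Cfsg Cfsg.Spor Cfsg.Agent.MonsterU Cfsg.Agent.MonsterU.Lam2 Cfsg.Agent.MonsterU.Ch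
open Cfsg.Agent.H819 Cfsg.Agent.H819.Base Cfsg.Agent.H819.Frame
open Cfsg.Agent.H819.Eight (j j_injective card_F_three)
open Cfsg.Agent.LThreeMB (fr)
open Cfsg.Agent.MonsterU.CoFrameL2 (f0 F)
open Subgroup (centralizer zpowers mem_centralizer_singleton_iff)

/-- elements of order `p` with the same image modulo a normal `p'`-subgroup are conjugate -/
theorem exists_lift {L F : Type*} [Group L] [Group F] [Finite L] [Finite F] {p : ℕ} (hp : p.Prime) (φ : L →* F)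
    (hk : ¬ p ∣ Nat.card ↥φ.ker) {x u : L} (hx : orderOf x = p) (hx1 : φ x ≠ 1) (hu : u ^ p = 1) (hxu : φ u = φ x) :
    ∃ c : L, c * u * c⁻¹ = x := by
  have : Fact p.Prime := ⟨hp⟩
  let M : Subgroup L := (zpowers (φ x)).comap φ
  let ψ : ↥M →* ↥(zpowers (φ x)) := φ.subgroupComap (zpowers (φ x))
  have hψ : Function.Surjective ψ := by
    rintro ⟨_, i, rfl⟩
    exact ⟨⟨x ^ i, ⟨i, (map_zpow φ x i).symm⟩⟩, Subtype.ext (map_zpow φ x i)⟩
  have hψk : ¬ p ∣ Nat.card ↥ψ.ker := by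
    intro h
    apply hk
    refine h.trans ?_
    let g : ↥ψ.ker →* ↥φ.ker :=
      { toFun := fun g => ⟨((g : ↥M) : L), by
          rw [MonoidHom.mem_ker]
          exact congrArg Subtype.val g.2⟩
        map_one' := rfl
        map_mul' := fun _ _ => rfl }
    refine Subgroup.card_dvd_of_injective g ?_
    intro a b hab
    apply Subtype.ext
    apply Subtype.ext
    exact congrArg (fun g : ↥φ.ker => (g : L)) hab
  have hxM : x ∈ M := Subgroup.mem_zpowers (φ x)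
  have huM : u ∈ M := by
    show φ u ∈ zpowers (φ x)
    rw [hxu]
    exact Subgroup.mem_zpowers (φ x)
  have hφx : orderOf (φ x) = p := by
    apply orderOf_eq_prime
    · rw [← map_pow, ← hx, pow_orderOf_eq_one, map_one]
    · exact hx1
  have hS : Nat.card ↥(zpowers (⟨x, hxM⟩ : ↥M)) = p ^ (Nat.card ↥M).factorization p := by
    rw [SylLem.factorization_eq ψ hψ hψk, Nat.card_zpowers, Nat.card_zpowers, hφx, hp.factorization_self, pow_one,
      Subgroup.orderOf_mk, hx]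
  obtain ⟨⟨c, hcM⟩, hc⟩ := SylLem.exists_conj_mem hp hS (x := (⟨u, huM⟩ : ↥M)) (n := 1)
    (Subtype.ext (by show u ^ p ^ 1 = 1; rw [pow_one, hu]))
  obtain ⟨i, hi⟩ := Subgroup.mem_zpowers_iff.1 hc
  have hi' : x ^ i = c * u * c⁻¹ := congrArg Subtype.val hi
  refine ⟨c, ?_⟩
  rw [← hi']
  have h1 : φ x ^ i = φ x := by
    rw [← map_zpow, hi', map_mul, map_mul, map_inv, hxu]
    obtain ⟨m, hm⟩ := Subgroup.mem_zpowers_iff.1 (show φ c ∈ zpowers (φ x) from hcM)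
    rw [← hm]
    group
  have h2 : φ x ^ (i - 1) = 1 := by rw [zpow_sub_one, h1, mul_inv_cancel]
  have h3 : (p : ℤ) ∣ i - 1 := by
    rw [← hφx]
    exact orderOf_dvd_iff_zpow_eq_one.2 h2
  have h4 : x ^ (i - 1) = 1 := by
    apply orderOf_dvd_iff_zpow_eq_one.1
    rw [hx]
    exact h3
  rw [zpow_sub_one, mul_inv_eq_one] at h4
  exact h4

variable {G : Type*} [Group G] {P : Subgroup G} {z y : G} {eta : G → L2}
  {pi : Subgroup.centralizer ({z} : Set G) →* Co1}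

/-- `φ` is injective on a Sylow 3-subgroup -/
theorem inj [Finite G] (h : Chart P z eta pi) (hyP : y ∈ P) (hy : eta y = f0)
    (R : Sylow 3 ↥(centralizer ({z, y} : Set G))) {r r' : ↥(centralizer ({z, y} : Set G))}
    (hr : r ∈ (R : Subgroup _)) (hr' : r' ∈ (R : Subgroup _)) (he : phi h hyP hy r = phi h hyP hy r') : r = r' := by
  have : Fact (Nat.Prime 3) := ⟨by norm_num⟩
  have hm : r * r'⁻¹ ∈ (R : Subgroup _) := mul_mem hr (inv_mem hr')
  obtain ⟨k, hk⟩ := R.isPGroup' ⟨_, hm⟩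
  have h5 : (r * r'⁻¹) ^ 3 ^ k = 1 := congrArg Subtype.val hk
  have h6 : orderOf (r * r'⁻¹) ∣ 3 ^ k := orderOf_dvd_of_pow_eq_one h5
  have h3 : phi h hyP hy (r * r'⁻¹) = 1 := by rw [map_mul, map_inv, he, mul_inv_cancel]
  have h7 : orderOf (r * r'⁻¹) ∣ Nat.card ↥(phi h hyP hy).ker := by
    have h8 := orderOf_dvd_natCard (⟨r * r'⁻¹, h3⟩ : ↥(phi h hyP hy).ker)
    have h9 : orderOf (⟨r * r'⁻¹, h3⟩ : ↥(phi h hyP hy).ker) = orderOf (r * r'⁻¹) := Subgroup.orderOf_mk _ _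
    rwa [h9] at h8
  have h9 : Nat.Coprime (3 ^ k) (Nat.card ↥(phi h hyP hy).ker) :=
    Nat.Coprime.pow_left k ((Nat.Prime.coprime_iff_not_dvd (by norm_num)).2
      (not_dvd_ker h hyP hy (by norm_num) (by norm_num)))
  have h10 := Nat.dvd_gcd h6 h7
  rw [h9] at h10
  have h11 : r * r'⁻¹ = 1 := orderOf_eq_one_iff.1 (Nat.dvd_one.1 h10)
  exact mul_inv_eq_one.1 h11

/-- **The image of a central element.** -/
theorem exists_image [Finite G] (h : Chart P z eta pi) (hyP : y ∈ P) (hy : eta y = f0)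
    (R : Sylow 3 ↥(centralizer ({z, y} : Set G))) {x : ↥(centralizer ({z, y} : Set G))}
    (hxR : x ∈ (R : Subgroup _)) (hc : ∀ r ∈ (R : Subgroup _), x * r = r * x) (hx1 : x ≠ 1) :
    ∃ (f : ↥F) (a s : M24), a ^ 3 = 1 ∧ (s = a ∨ s = a * a) ∧ (∃ k : M24, k * (a * a) * k⁻¹ = a) ∧
      (∃ k : M24, k * MonPerm.m12 * k⁻¹ = a) ∧ f * phi h hyP hy x * f⁻¹ = j s ∧
      ∃ b ∈ (R : Subgroup _), ∃ c ∈ (R : Subgroup _), f * phi h hyP hy (b * c * b⁻¹ * c⁻¹) * f⁻¹ = j a := by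
  have : Fact (Nat.Prime 3) := ⟨by norm_num⟩
  obtain ⟨S, a, hcard, ha, hac, ⟨b, hb, c, hcS, hbc⟩, hZ, ha3, -, hk, hm⟩ := MonPerm.exists_S'
  have hSF : Nat.card ↥(S.map j) = 3 ^ (Nat.card ↥F).factorization 3 := by
    rw [← Nat.card_congr (S.equivMapOfInjective _ j_injective).toEquiv, hcard, card_F_three]
    norm_num
  have hRF : Nat.card ↥((R : Subgroup _).map (phi h hyP hy)) = 3 ^ (Nat.card ↥F).factorization 3 := by
    rw [← SylLem.factorization_eq (phi h hyP hy) (phi_surj h hyP hy)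
      (not_dvd_ker h hyP hy (by norm_num) (by norm_num)), ← R.card_eq_multiplicity]
    have hinj : Function.Injective ((phi h hyP hy).domRestrict (R : Subgroup _)) := by
      intro r r' hrr
      exact Subtype.ext (inj h hyP hy R r.2 r'.2 hrr)
    have h1 : (R : Subgroup _).map (phi h hyP hy) = ((phi h hyP hy).domRestrict (R : Subgroup _)).range := by
      ext u
      constructor
      · rintro ⟨r, hr, rfl⟩
        exact ⟨⟨r, hr⟩, rfl⟩
      · rintro ⟨r, rfl⟩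
        exact ⟨r, r.2, rfl⟩
    rw [h1]
    exact (Nat.card_congr (MonoidHom.ofInjective hinj).toEquiv).symm
  let S1 : Sylow 3 ↥F := Sylow.ofCard _ hSF
  let R1 : Sylow 3 ↥F := Sylow.ofCard _ hRF
  obtain ⟨f, hf⟩ := MulAction.exists_smul_eq ↥F R1 S1
  have hfwd : ∀ r ∈ (R : Subgroup _), ∃ s ∈ S, j s = f * phi h hyP hy r * f⁻¹ := by
    intro r hr
    have h2 : (MulAut.conj f) (phi h hyP hy r) ∈ ((f • R1 : Sylow 3 ↥F) : Subgroup ↥F) := by
      rw [Sylow.coe_subgroup_smul]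
      exact Subgroup.smul_mem_pointwise_smul _ _ _ ⟨r, hr, rfl⟩
    rw [hf] at h2
    obtain ⟨s, hs, hs'⟩ := h2
    exact ⟨s, hs, hs'⟩
  have hbwd : ∀ s ∈ S, ∃ r ∈ (R : Subgroup _), f * phi h hyP hy r * f⁻¹ = j s := by
    intro s hs
    have h2 : j s ∈ ((f • R1 : Sylow 3 ↥F) : Subgroup ↥F) := by
      rw [hf]
      exact ⟨s, hs, rfl⟩
    rw [Sylow.coe_subgroup_smul] at h2
    obtain ⟨u, ⟨r, hr, rfl⟩, hu⟩ := h2
    exact ⟨r, hr, hu⟩
  obtain ⟨s, hs, hsx⟩ := hfwd x hxR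
  have hcen : ∀ u ∈ S, u * s = s * u := by
    intro u hu
    obtain ⟨r, hr, hru⟩ := hbwd u hu
    apply j_injective
    rw [map_mul, map_mul, hsx, ← hru]
    have h3 : phi h hyP hy x * phi h hyP hy r = phi h hyP hy r * phi h hyP hy x := by
      rw [← map_mul, ← map_mul, hc r hr]
    calc f * phi h hyP hy r * f⁻¹ * (f * phi h hyP hy x * f⁻¹) =
          f * (phi h hyP hy r * phi h hyP hy x) * f⁻¹ := by group
      _ = f * (phi h hyP hy x * phi h hyP hy r) * f⁻¹ := by rw [h3]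
      _ = _ := by group
  have hs1 : s ≠ 1 := by
    rintro rfl
    rw [map_one] at hsx
    have h4 : phi h hyP hy x = 1 := by
      calc phi h hyP hy x = f⁻¹ * (f * phi h hyP hy x * f⁻¹) * f := by group
        _ = 1 := by rw [← hsx]; group
    exact hx1 (inj h hyP hy R hxR (one_mem _) (by rw [h4, map_one]))
  obtain ⟨r1, hr1, hb1⟩ := hbwd b hb
  obtain ⟨r2, hr2, hc2⟩ := hbwd c hcS
  refine ⟨f, a, s, ha3, (hZ s hs hcen).resolve_left hs1, hk, hm, hsx.symm, r1, hr1, r2, hr2, ?_⟩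
  rw [← hbc, map_mul, map_mul, map_mul, map_inv, map_inv, map_mul, map_mul, map_mul, map_inv, map_inv, ← hb1, ← hc2]
  group

/-- **Fixed rank 12.** -/
theorem fr_eq [Finite G] (h : Chart P z eta pi) (hyP : y ∈ P) (hy : eta y = f0)
    (R : Sylow 3 ↥(centralizer ({z, y} : Set G))) {x : ↥(centralizer ({z, y} : Set G))}
    (hxR : x ∈ (R : Subgroup _)) (hc : ∀ r ∈ (R : Subgroup _), x * r = r * x) (hx1 : x ≠ 1) :
    fr (pi (toZ x)) = 2 ^ 12 := by
  obtain ⟨f, a, s, ha3, hs, hk, hm, hfx, -⟩ := exists_image h hyP hy R hxR hc hx1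
  have h2 : ∃ k : M24, k * MonPerm.m12 * k⁻¹ = s := by
    rcases hs with rfl | rfl
    · exact hm
    · obtain ⟨k, hk⟩ := hk
      obtain ⟨m, hm⟩ := hm
      refine ⟨k⁻¹ * m, ?_⟩
      calc k⁻¹ * m * MonPerm.m12 * (k⁻¹ * m)⁻¹ = k⁻¹ * (m * MonPerm.m12 * m⁻¹) * k := by group
        _ = k⁻¹ * (k * (a * a) * k⁻¹) * k := by rw [hm, hk]
        _ = a * a := by group
  have h3 := MonPerm.fr_j h2
  rw [← hfx] at h3
  have h4 : ((f * phi h hyP hy x * f⁻¹ : ↥F) : Co1) = (f : Co1) * pi (toZ x) * (f : Co1)⁻¹ := rfl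
  rw [h4, Cfsg.Agent.LThreeMB.fr_conj] at h3
  exact h3

/-- **`x` is inverted in `C(z, y)`.** -/
theorem exists_inv [Finite G] (h : Chart P z eta pi) (hyP : y ∈ P) (hy : eta y = f0)
    (R : Sylow 3 ↥(centralizer ({z, y} : Set G))) {x : ↥(centralizer ({z, y} : Set G))}
    (hxR : x ∈ (R : Subgroup _)) (hc : ∀ r ∈ (R : Subgroup _), x * r = r * x) (hx : orderOf x = 3) :
    ∃ t : ↥(centralizer ({z, y} : Set G)), t * x * t⁻¹ = x⁻¹ := by
  have hx1 : x ≠ 1 := by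
    rintro rfl
    rw [orderOf_one] at hx
    norm_num at hx
  obtain ⟨f, a, s, ha3, hs, ⟨k, hk⟩, hm, hfx, -⟩ := exists_image h hyP hy R hxR hc hx1
  have hai : a * a = a⁻¹ := by
    rw [eq_inv_iff_mul_eq_one]
    rw [← ha3, pow_succ, pow_two]
  obtain ⟨τ, hτ⟩ : ∃ τ : M24, τ * s⁻¹ * τ⁻¹ = s := by
    rcases hs with rfl | rfl
    · exact ⟨k, by rw [← hai, hk]⟩
    · refine ⟨k⁻¹, ?_⟩
      rw [hai, inv_inv]
      calc k⁻¹ * a * k⁻¹⁻¹ = k⁻¹ * (k * (a * a) * k⁻¹) * k := by rw [hk]; group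
        _ = a * a := by group
        _ = a⁻¹ := hai
  obtain ⟨t, ht⟩ := phi_surj h hyP hy (f⁻¹ * j τ * f)
  have hφx : phi h hyP hy x ≠ 1 := by
    intro h4
    exact hx1 (inj h hyP hy R hxR (one_mem _) (by rw [h4, map_one]))
  have hu : phi h hyP hy (t * x⁻¹ * t⁻¹) = phi h hyP hy x := by
    have e1 : phi h hyP hy x = f⁻¹ * j s * f := by rw [← hfx]; group
    rw [map_mul, map_mul, map_inv, map_inv, ht, e1]
    calc f⁻¹ * j τ * f * (f⁻¹ * j s * f)⁻¹ * (f⁻¹ * j τ * f)⁻¹ = f⁻¹ * (j τ * (j s)⁻¹ * (j τ)⁻¹) * f := by group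
      _ = f⁻¹ * j s * f := by rw [← map_inv, ← map_inv, ← map_mul, ← map_mul, hτ]
  obtain ⟨c, hc'⟩ := exists_lift (by norm_num : (3 : ℕ).Prime) (phi h hyP hy)
    (not_dvd_ker h hyP hy (by norm_num) (by norm_num)) hx hφx (u := t * x⁻¹ * t⁻¹)
    (by rw [conj_pow, inv_pow, ← hx, pow_orderOf_eq_one, inv_one, mul_one, mul_inv_cancel]) hu
  refine ⟨c * t, ?_⟩
  calc c * t * x * (c * t)⁻¹ = (c * (t * x⁻¹ * t⁻¹) * c⁻¹)⁻¹ := by group
    _ = x⁻¹ := by rw [hc']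

/-- **`x` is a product of commutators in `C(x)`.** -/
theorem mem_comm [Finite G] (h : Chart P z eta pi) (hyP : y ∈ P) (hy : eta y = f0)
    (R : Sylow 3 ↥(centralizer ({z, y} : Set G))) {x : ↥(centralizer ({z, y} : Set G))}
    (hxR : x ∈ (R : Subgroup _)) (hc : ∀ r ∈ (R : Subgroup _), x * r = r * x) (hx1 : x ≠ 1)
    (hx : (x : G) ∈ centralizer ({(x : G)} : Set G)) :
    (⟨x, hx⟩ : centralizer ({(x : G)} : Set G)) ∈ _root_.commutator (centralizer ({(x : G)} : Set G)) := by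
  obtain ⟨f, a, s, ha3, hs, ⟨k, hk⟩, hm, hfx, b, hb, c, hcR, hbc⟩ := exists_image h hyP hy R hxR hc hx1
  have hbC : (b : G) ∈ centralizer ({(x : G)} : Set G) :=
    mem_centralizer_singleton_iff.2 (congrArg Subtype.val (hc b hb)).symm
  have hcC : (c : G) ∈ centralizer ({(x : G)} : Set G) :=
    mem_centralizer_singleton_iff.2 (congrArg Subtype.val (hc c hcR)).symm
  have hm1 : b * c * b⁻¹ * c⁻¹ ∈ (R : Subgroup _) :=
    mul_mem (mul_mem (mul_mem hb hcR) (inv_mem hb)) (inv_mem hcR)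
  have hcom : (⟨b, hbC⟩ * ⟨c, hcC⟩ * (⟨b, hbC⟩ : centralizer ({(x : G)} : Set G))⁻¹ *
      (⟨c, hcC⟩ : centralizer ({(x : G)} : Set G))⁻¹) ∈ _root_.commutator (centralizer ({(x : G)} : Set G)) :=
    Subgroup.commutator_mem_commutator (Subgroup.mem_top _) (Subgroup.mem_top _)
  rcases hs with rfl | rfl
  · have h5 : x = b * c * b⁻¹ * c⁻¹ := by
      apply inj h hyP hy R hxR hm1
      have h6 := hfx.trans hbc.symm
      exact mul_left_cancel (mul_right_cancel h6)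
    have h7 : (⟨x, hx⟩ : centralizer ({(x : G)} : Set G)) = ⟨b, hbC⟩ * ⟨c, hcC⟩ *
        (⟨b, hbC⟩ : centralizer ({(x : G)} : Set G))⁻¹ * (⟨c, hcC⟩ : centralizer ({(x : G)} : Set G))⁻¹ :=
      Subtype.ext (congrArg (fun g : ↥(centralizer ({z, y} : Set G)) => (g : G)) h5)
    rw [h7]
    exact hcom
  · have h5 : x = (b * c * b⁻¹ * c⁻¹) * (b * c * b⁻¹ * c⁻¹) := by
      apply inj h hyP hy R hxR (mul_mem hm1 hm1)
      have h6 : f * phi h hyP hy x * f⁻¹ =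
          f * phi h hyP hy ((b * c * b⁻¹ * c⁻¹) * (b * c * b⁻¹ * c⁻¹)) * f⁻¹ := by
        rw [hfx, map_mul j, ← hbc, map_mul (phi h hyP hy) (b * c * b⁻¹ * c⁻¹)]
        group
      exact mul_left_cancel (mul_right_cancel h6)
    have h7 : (⟨x, hx⟩ : centralizer ({(x : G)} : Set G)) = (⟨b, hbC⟩ * ⟨c, hcC⟩ *
        (⟨b, hbC⟩ : centralizer ({(x : G)} : Set G))⁻¹ * (⟨c, hcC⟩ : centralizer ({(x : G)} : Set G))⁻¹) *
        (⟨b, hbC⟩ * ⟨c, hcC⟩ *
        (⟨b, hbC⟩ : centralizer ({(x : G)} : Set G))⁻¹ * (⟨c, hcC⟩ : centralizer ({(x : G)} : Set G))⁻¹) :=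
      Subtype.ext (congrArg (fun g : ↥(centralizer ({z, y} : Set G)) => (g : G)) h5)
    rw [h7]
    exact mul_mem hcom hcom

end Cfsg.Agent.H830.MonThree
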