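import Cfsg.Agent.CpAut.Fi22Row

/-!
# Conjugacy of semilinear involutions of `F ^ 6`, `|F| = 4` (helper830)

Two semilinear involutory isometries with the same normal form, whose product is a scalar times an element of `SU`,
are conjugate under `SU`.
-/

set_option autoImplicit false
set_option linter.unusedSectionVars false

namespace Cfsg.Agent.H830.SemiConj

open Cfsg Cfsg.Agent.LieClassical.HermBasic Cfsg.Agent.ClassicalGeometry.UnitTransv
open Cfsg.Agent.SporadicStructure.UnitTwo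
open Cfsg.Agent.R01.Lifts Cfsg.Agent.R01.PSUSix Cfsg.Agent.R01.Label Cfsg.Agent.R01.InvForm
open Cfsg.Agent.R01.Frames (Hyp)
open Cfsg.Agent.R01.ComLabel (Iso)
open Cfsg.Agent.U62.Semi Cfsg.Agent.U62.Semi2 Cfsg.Agent.CpAut.UnitSp
open Matrix

variable {F : Type*} [Field F] [Fintype F]

/-- The normal form: `c = 0` symplectic, `c = 1` orthonormal. -/
structure Norm (c : F) (φ : (Fin 6 → F) → (Fin 6 → F)) (g k : Fin 3 → (Fin 6 → F)) : Prop where
  sem : Sem (F := F) 2 φ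
  hyp : Hyp g k
  fg : ∀ i, φ (g i) = g i
  k1 : φ (k 1) = k 1
  k2 : φ (k 2) = k 2
  k0 : φ (k 0) = k 0 + c • g 0

/-- The matrix of the normal form. -/
def tv (c : F) : Matrix (Fin 3 ⊕ Fin 3) (Fin 3 ⊕ Fin 3) F := Matrix.transvection (Sum.inl 0) (Sum.inr 0) c

theorem det_tv (c : F) : (tv c).det = 1 := Matrix.det_transvection_of_ne _ _ (by simp) _

theorem tv_mulVec (c : F) (w : Fin 3 ⊕ Fin 3 → F) :
    tv c *ᵥ w = w + Pi.single (Sum.inl 0) (c * w (Sum.inr 0)) := by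
  rw [tv, Matrix.transvection, Matrix.add_mulVec, Matrix.one_mulVec]
  congr 1
  funext i
  rw [Matrix.mulVec, dotProduct]
  by_cases hi : i = Sum.inl 0
  · subst hi
    rw [Pi.single_eq_same, Finset.sum_eq_single (Sum.inr 0)]
    · rw [Matrix.single_apply_same]
    · intro j _ hj
      rw [Matrix.single_apply_of_ne, zero_mul]
      exact fun h => hj h.2.symm
    · intro h
      exact absurd (Finset.mem_univ _) h
  · rw [Pi.single_eq_of_ne hi]
    apply Finset.sum_eq_zero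
    intro j _
    rw [Matrix.single_apply_of_ne, zero_mul]
    exact fun h => hi h.1.symm

theorem PP_add (g k : Fin 3 → (Fin 6 → F)) (u w : Fin 3 ⊕ Fin 3 → F) :
    PP g k *ᵥ (u + w) = PP g k *ᵥ u + PP g k *ᵥ w := Matrix.mulVec_add _ _ _

theorem PP_single (g k : Fin 3 → (Fin 6 → F)) (x : F) :
    PP g k *ᵥ (Pi.single (Sum.inl 0) x) = x • g 0 := by
  rw [PP_apply, Fin.sum_univ_three]
  simp

variable {c : F} {φ ψ : (Fin 6 → F) → (Fin 6 → F)} {g k g' k' : Fin 3 → (Fin 6 → F)}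

theorem Norm.coord (h : Norm c φ g k) (u : Fin 3 ⊕ Fin 3 → F) :
    φ (PP g k *ᵥ u) = PP g k *ᵥ (tv c *ᵥ fun i => u i ^ 2) := by
  rw [tv_mulVec, PP_add, PP_single, PP_apply, PP_apply, Fin.sum_univ_three, Fin.sum_univ_three]
  simp only [h.sem.add, h.sem.smul, h.fg, h.k1, h.k2, h.k0]
  module

variable (hF : Fintype.card F = 2 ^ 2)
include hF

theorem det_sq {n : Type*} [Fintype n] [DecidableEq n] (N : Matrix n n F) :
    Matrix.det (fun i j => N i j ^ 2) = N.det ^ 2 := by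
  have : CharP F 2 := CharTwo.of_one_ne_zero_of_two_eq_zero one_ne_zero (two_eq_zero hF)
  have h := RingHom.map_det (frobenius F 2) N
  rw [frobenius_def] at h
  rw [h]
  rfl

theorem conj (hc : c ^ 2 = c) (h : Norm c φ g k) (h' : Norm c ψ g' k') {b : F} (hb0 : b ≠ 0) {σ : SU 6 F 2}
    (hW : ∀ v, φ (ψ v) = b • act σ v) : ∃ m : SU 6 F 2, ∀ v, act m (φ v) = ψ (act m v) := by
  have hb3 : b ^ 3 = 1 := pow_three hF hb0
  obtain ⟨N, hN⟩ : ∃ N, N = QQ g k * PP g' k' := ⟨_, rfl⟩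
  have hPN : ∀ u, PP g' k' *ᵥ u = PP g k *ᵥ (N *ᵥ u) := by
    intro u
    rw [hN, ← Matrix.mulVec_mulVec, PP_QQ_vec hF h.hyp]
  obtain ⟨S, hS, hSd⟩ : ∃ S : Matrix (Fin 6) (Fin 6) F, (∀ v, S *ᵥ v = act σ v) ∧ S.det = 1 :=
    ⟨((σ : Matrix.SpecialLinearGroup (Fin 6) F) : Matrix (Fin 6) (Fin 6) F), fun v => rfl,
      (σ : Matrix.SpecialLinearGroup (Fin 6) F).2⟩
  obtain ⟨N2, hN2⟩ : ∃ N2 : Matrix (Fin 3 ⊕ Fin 3) (Fin 3 ⊕ Fin 3) F, N2 = fun i j => N i j ^ 2 := ⟨_, rfl⟩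
  have hA2 : (fun i j => tv c i j ^ 2 : Matrix (Fin 3 ⊕ Fin 3) (Fin 3 ⊕ Fin 3) F) = tv c := by
    funext i j
    rw [tv, Matrix.transvection, Matrix.add_apply]
    rw [Matrix.one_apply, Matrix.single_apply]
    by_cases h1 : i = j
    · subst h1
      have h2 : ¬ (Sum.inl 0 = i ∧ Sum.inr 0 = i) := by
        rintro ⟨h3, h4⟩
        rw [← h3] at h4
        simp at h4
      rw [if_pos rfl, if_neg h2]
      ring
    · rw [if_neg h1]
      split_ifs
      · rw [zero_add, hc]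
      · ring
  have key : ∀ u, ((QQ g k * (b • S) * PP g k) * N) *ᵥ u = (tv c * N2 * tv c) *ᵥ u := by
    intro u
    have h1 := hW (PP g' k' *ᵥ u)
    rw [h'.coord, hPN, h.coord] at h1
    have h2 : (fun i => (N *ᵥ (tv c *ᵥ fun i => u i ^ 2)) i ^ 2) = N2 *ᵥ (tv c *ᵥ u) := by
      rw [sq_mulVec hF, ← hN2, sq_mulVec hF, hA2]
      congr 2
      funext i
      rw [← pow_mul]
      exact pow_four hF (u i)
    rw [h2, ← hS] at h1
    have h3 := congrArg (fun v => QQ g k *ᵥ v) h1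
    simp only [QQ_PP_vec hF h.hyp] at h3
    rw [← Matrix.mulVec_mulVec u (tv c * N2), ← Matrix.mulVec_mulVec _ (tv c) N2, h3, ← Matrix.mulVec_mulVec,
      ← Matrix.mulVec_mulVec, ← Matrix.mulVec_mulVec, ← hPN, Matrix.smul_mulVec]
  have key2 : (QQ g k * (b • S) * PP g k) * N = tv c * N2 * tv c := by
    apply Matrix.toLin'.injective
    apply LinearMap.ext
    intro u
    rw [Matrix.toLin'_apply, Matrix.toLin'_apply, key]
  have key3 := congrArg Matrix.det key2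
  rw [Matrix.det_mul, Matrix.det_conj_of_mul_eq_one (QQ_PP hF h.hyp) (PP_QQ hF h.hyp), Matrix.det_mul,
    Matrix.det_mul, det_tv, Matrix.det_smul, hSd, Fintype.card_fin, hN2, det_sq hF] at key3
  have hN0 : N.det ≠ 0 := by
    intro h0
    have h1 : N * (QQ g' k' * PP g k) = 1 := by
      rw [hN, Matrix.mul_assoc, ← Matrix.mul_assoc (PP g' k'), PP_QQ hF h'.hyp, Matrix.one_mul, QQ_PP hF h.hyp]
    have h2 := congrArg Matrix.det h1
    rw [Matrix.det_mul, h0, zero_mul, Matrix.det_one] at h2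
    exact zero_ne_one h2
  have hN1 : N.det = 1 := by
    apply mul_left_cancel₀ hN0
    linear_combination -key3 + N.det * (b ^ 3 + 1) * hb3
  obtain ⟨M, hM⟩ : ∃ M, M = PP g k * N * QQ g k := ⟨_, rfl⟩
  have hMd : M.det = 1 := by
    rw [hM, Matrix.det_conj_of_mul_eq_one (PP_QQ hF h.hyp) (QQ_PP hF h.hyp), hN1]
  have hMv : ∀ v, M *ᵥ v = PP g' k' *ᵥ (QQ g k *ᵥ v) := by
    intro v
    rw [hM, ← Matrix.mulVec_mulVec, ← Matrix.mulVec_mulVec, hPN]
  have hMh : ∀ x y, hermForm 6 F 2 (M *ᵥ x) (M *ᵥ y) = hermForm 6 F 2 x y := by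
    intro x y
    rw [hMv, hMv, herm_PP hF h'.hyp, ← herm_PP hF h.hyp, PP_QQ_vec hF h.hyp, PP_QQ_vec hF h.hyp]
  refine ⟨mk M hMd hMh, fun v => ?_⟩
  rw [act_mk, act_mk, hMv, hMv, h'.coord]
  congr 1
  conv_lhs => rw [← PP_QQ_vec hF h.hyp v]
  rw [h.coord, QQ_PP_vec hF h.hyp]

end Cfsg.Agent.H830.SemiConj
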