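import Cfsg.Agent.H464.Sl2Dims

/-!
# The type of the invariant form of an irreducible representation of `SL₂(K)` in cross characteristic (helper830)

`form_type`: an invariant bilinear form `M` satisfies `Mᵀ = ω M` where `ω = ±1` is the scalar by which the central
element `-1` acts. No characters: if `Mᵀ = ε M` with `ε ≠ ω` then `B(x, g x) = 0` for all `x` and all `g` with
`g² = -1`; with `x` spanning a weight space `V_b` (dimension one) this gives `E_{-b} R(g) E_b = 0` for all `g`.
-/

set_option autoImplicit false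
set_option linter.unusedSectionVars false

namespace Cfsg.Agent.H830.Sl2Form

open Matrix Module Cfsg Cfsg.Geo Cfsg.Agent.H464.Sl2

theorem u_inv {K : Type*} [Field K] (x : K) : (u x)⁻¹ = u (-x) := by
  rw [inv_eq_iff_mul_eq_one, ← u_add, add_neg_cancel, u_zero]

section Op

variable {K : Type*} [Field K] [Fintype K] {k : Type*} [Field k] {V : Type*} [AddCommGroup V] [Module k V]
  [FiniteDimensional k V] (R : SpecialLinearGroup (Fin 2) K →* Module.End k V) {ψ : AddChar K k}
  (B : V →ₗ[k] V →ₗ[k] k) (hB : ∀ g x y, B (R g x) (R g y) = B x y)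

include hB

omit [Fintype K] [FiniteDimensional k V] in
theorem B_R (g : SpecialLinearGroup (Fin 2) K) (x y : V) : B (R g x) y = B x (R g⁻¹ y) := by
  rw [← hB g x (R g⁻¹ y), ← Module.End.mul_apply (R g) (R g⁻¹), ← map_mul, mul_inv_cancel, map_one,
    Module.End.one_apply]

omit [FiniteDimensional k V] in
theorem B_E (b : K) (x y : V) : B (E R ψ b x) y = B x (E R ψ (-b) y) := by
  unfold E
  simp only [LinearMap.smul_apply, LinearMap.sum_apply, map_smul, map_sum]
  congr 1
  rw [← Equiv.sum_comp (Equiv.neg K)]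
  refine Finset.sum_congr rfl fun s _ => ?_
  rw [Equiv.neg_apply, B_R R B hB, u_inv, neg_neg]
  congr 2
  ring

theorem form_aux (hψ : ψ.IsPrimitive) (hK : (Fintype.card K : k) ≠ 0)
    (hspan : Submodule.span k (Set.range R) = ⊤) (hR : R ≠ 1) (hnd : ∀ x, (∀ y, B y x = 0) → x = 0)
    {ε ω : k} (hε : ∀ x y, B y x = ε * B x y) (hω : R (t (-1)) = ω • 1) : ε = ω := by
  classical
  -- a non-zero value of the form
  obtain ⟨b, hb, hbV⟩ := exists_E_ne R hψ hK hR
  have hdim := finrank_E_le_one R hψ hK hspan hb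
  have hEb : E R ψ b ≠ 0 := by
    intro h
    rw [h, LinearMap.range_zero, finrank_bot] at hbV
    exact hbV rfl
  obtain ⟨x₀, hx₀⟩ : ∃ x, E R ψ b x ≠ 0 := by
    by_contra hcon
    push Not at hcon
    exact hEb (LinearMap.ext hcon)
  obtain ⟨y₀, hy₀⟩ : ∃ y, B y (E R ψ b x₀) ≠ 0 := by
    by_contra hcon
    push Not at hcon
    exact hx₀ (hnd _ hcon)
  -- the signs
  have hε2 : ε * ε = 1 := by
    have h1 := hε (E R ψ b x₀) y₀
    rw [hε y₀ (E R ψ b x₀), ← mul_assoc] at h1
    exact mul_right_cancel₀ hy₀ (by rw [one_mul]; exact h1.symm)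
  have hω2 : ω * ω = 1 := by
    have h1 : R (t (-1)) * R (t (-1)) = 1 := by
      rw [← map_mul, ← t_mul]
      simp [t_one]
    rw [hω, smul_mul_assoc, one_mul, smul_smul] at h1
    have h2 := congrArg (fun f : Module.End k V => f (E R ψ b x₀)) h1
    simp only [LinearMap.smul_apply, Module.End.one_apply] at h2
    have h3 : (ω * ω - 1) • (E R ψ b x₀) = 0 := by rw [sub_smul, one_smul, h2, sub_self]
    rcases smul_eq_zero.1 h3 with h4 | h4
    · exact sub_eq_zero.1 h4
    · exact absurd h4 hx₀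
  by_contra hne
  -- the form vanishes on `(x, g x)`
  have key : ∀ g : SpecialLinearGroup (Fin 2) K, g * g = t (-1) → ∀ x, B x (R g x) = 0 := by
    intro g hg x
    have h1 : g⁻¹ = t (-1) * g := by
      rw [inv_eq_iff_mul_eq_one, ← mul_assoc, ← t_sq_central (by simp : (-1 : Kˣ) ^ 2 = 1), mul_assoc, hg, ← t_mul]
      simp [t_one]
    have h2 : B x (R g x) = ω * ε * B x (R g x) := by
      conv_lhs => rw [hε (R g x) x, B_R R B hB, h1, map_mul, hω]
      simp only [smul_mul_assoc, one_mul, LinearMap.smul_apply, map_smul, smul_eq_mul]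
      ring
    by_contra h3
    have h4 : ω * ε = 1 := mul_right_cancel₀ h3 (by rw [one_mul]; exact h2.symm)
    apply hne
    calc ε = (ω * ω) * ε := by rw [hω2, one_mul]
      _ = ω * (ω * ε) := by ring
      _ = ω := by rw [h4, mul_one]
  -- the compression vanishes
  have hE : ∀ v ∈ LinearMap.range (E R ψ b), E R ψ b v = v := by
    rintro _ ⟨x, rfl⟩
    rw [← Module.End.mul_apply, E_mul_self R hψ hK]
  have hone : ∀ y, ∃ c : k, E R ψ b y = c • E R ψ b x₀ := by
    intro y
    have h1 := finrank_le_one_iff.1 hdim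
    obtain ⟨v, hv⟩ := h1
    obtain ⟨c, hc⟩ := hv ⟨E R ψ b x₀, LinearMap.mem_range_self _ _⟩
    obtain ⟨d, hd⟩ := hv ⟨E R ψ b y, LinearMap.mem_range_self _ _⟩
    have hc1 : c • (v : V) = E R ψ b x₀ := congrArg Subtype.val hc
    have hd1 : d • (v : V) = E R ψ b y := congrArg Subtype.val hd
    have hc0 : c ≠ 0 := by
      rintro rfl
      rw [zero_smul] at hc1
      exact hx₀ hc1.symm
    refine ⟨d / c, ?_⟩
    rw [← hc1, ← hd1, smul_smul, div_mul_cancel₀ _ hc0]
  have hg2 : ∀ g : SpecialLinearGroup (Fin 2) K, g * g = t (-1) → E R ψ (-b) * R g * E R ψ b = 0 := by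
    intro g hg
    ext z
    change E R ψ (-b) (R g (E R ψ b z)) = 0
    apply hnd
    intro y
    rw [← B_E R B hB]
    obtain ⟨c, hc⟩ := hone y
    obtain ⟨d, hd⟩ := hone z
    rw [hc, hd, map_smul, map_smul, map_smul, LinearMap.smul_apply, key g hg, smul_zero, smul_zero]
  have hall : ∀ g : SpecialLinearGroup (Fin 2) K, E R ψ (-b) * R g * E R ψ b = 0 := by
    intro g
    rcases bruhat g with ⟨x, a, rfl⟩ | ⟨x, c, y, rfl⟩
    · rw [map_mul, ← mul_assoc, E_mul_R, smul_mul_assoc, smul_mul_assoc]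
      by_cases ha : a * a = -1
      · rw [hg2 (t a) (by rw [← t_mul, ha]), smul_zero]
      · rw [mul_assoc, t_mul_E, ← mul_assoc, E_mul_of_ne R hψ hK, zero_mul, smul_zero]
        intro h
        apply ha
        have ha0 : (a : K) ^ 2 ≠ 0 := pow_ne_zero 2 a.ne_zero
        rw [eq_div_iff ha0] at h
        have h2 : (a : K) * a = -1 := by
          apply mul_left_cancel₀ hb
          rw [mul_neg_one]
          linear_combination -h
        exact Units.ext (by simpa using h2)
    · rw [map_mul, map_mul]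
      calc E R ψ (-b) * (R (u x) * R (w c) * R (u y)) * E R ψ b
          = (E R ψ (-b) * R (u x)) * R (w c) * (R (u y) * E R ψ b) := by simp only [mul_assoc]
        _ = 0 := by
            rw [E_mul_R, R_mul_E]
            simp only [smul_mul_assoc, mul_smul_comm, smul_smul]
            rw [hg2 (w c) (by rw [w_mul_w, div_self']), smul_zero]
  have hallA : ∀ A : Module.End k V, E R ψ (-b) * A * E R ψ b = 0 := by
    intro A
    have hA : A ∈ Submodule.span k (Set.range R) := by rw [hspan]; trivial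
    induction hA using Submodule.span_induction with
    | mem x hx =>
      obtain ⟨g, rfl⟩ := hx
      exact hall g
    | zero => simp
    | add x y _ _ hx hy => rw [mul_add, add_mul, hx, hy, add_zero]
    | smul a x _ hx => rw [mul_smul_comm, smul_mul_assoc, hx, smul_zero]
  obtain ⟨φ, hφ⟩ := exists_dual (k := k) hx₀
  have hz : ∀ z, E R ψ (-b) z = 0 := by
    intro z
    have h1 := congrArg (fun f : Module.End k V => f x₀) (hallA (φ.smulRight z))
    simp only [Module.End.mul_apply, LinearMap.smulRight_apply, hφ, one_smul, LinearMap.zero_apply] at h1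
    exact h1
  apply hx₀
  apply hnd
  intro y
  rw [hε (E R ψ b x₀) y, B_E R B hB, hz, map_zero, mul_zero]

end Op

section Mat

variable {K : Type*} [Field K] [Fintype K] {F : Type*} [Field F] {n : ℕ}

/-- **The type of the form.** -/
theorem form_type (hK : (Fintype.card K : F) ≠ 0) (ρ : SpecialLinearGroup (Fin 2) K →* GL (Fin n) F) (hρ : ρ ≠ 1)
    (habs : ActsAbsolutelyIrreducibly (matrixSet ρ.range)) {ω : F}
    (hω : ((ρ (t (-1)) : GL (Fin n) F) : Matrix (Fin n) (Fin n) F) = ω • 1) {M : Matrix (Fin n) (Fin n) F}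
    (hM : ∀ g, ((ρ g : GL (Fin n) F) : Matrix (Fin n) (Fin n) F)ᵀ * M * (ρ g : Matrix (Fin n) (Fin n) F) = M) :
    Mᵀ = ω • M := by
  classical
  by_cases hM0 : M = 0
  · rw [hM0]; simp
  have hsp := span_eq_top ρ habs
  -- the kernel of `M` is trivial
  have hker : ∀ v : Fin n → F, M *ᵥ v = 0 → v = 0 := by
    intro v hv
    by_contra hv0
    apply hM0
    have h1 : ∀ A : Matrix (Fin n) (Fin n) F, M *ᵥ (A *ᵥ v) = 0 := by
      intro A
      have hA : A ∈ Submodule.span F (Set.range fun g => (ρ g : Matrix (Fin n) (Fin n) F)) := by rw [hsp]; trivial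
      induction hA using Submodule.span_induction with
      | mem x hx =>
        obtain ⟨g, rfl⟩ := hx
        change M *ᵥ ((ρ g : Matrix (Fin n) (Fin n) F) *ᵥ v) = 0
        have h2 := hM g⁻¹
        have h3 : M * (ρ g : Matrix (Fin n) (Fin n) F) =
            ((ρ g⁻¹ : GL (Fin n) F) : Matrix (Fin n) (Fin n) F)ᵀ * M := by
          conv_lhs => rw [← h2]
          rw [Matrix.mul_assoc, ← Units.val_mul, ← map_mul, inv_mul_cancel, map_one, Units.val_one, Matrix.mul_one]
        rw [Matrix.mulVec_mulVec, h3, ← Matrix.mulVec_mulVec, hv, Matrix.mulVec_zero]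
      | zero => simp
      | add x y _ _ hx hy => rw [Matrix.add_mulVec, Matrix.mulVec_add, hx, hy, add_zero]
      | smul a x _ hx => rw [Matrix.smul_mulVec, Matrix.mulVec_smul, hx, smul_zero]
    obtain ⟨i, hi⟩ : ∃ i, v i ≠ 0 := by
      by_contra hcon
      push Not at hcon
      exact hv0 (funext hcon)
    ext a j
    have h4 := congrFun (h1 (Matrix.single j i ((v i)⁻¹))) a
    rw [Matrix.single_mulVec] at h4
    simpa [hi, Matrix.mulVec, dotProduct, Pi.single_apply, Function.update_apply] using h4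
  have hdet : M.det ≠ 0 := by
    intro h
    obtain ⟨v, hv, hv2⟩ := Matrix.exists_mulVec_eq_zero_iff.2 h
    exact hv (hker v hv2)
  have hdetu : IsUnit M.det := isUnit_iff_ne_zero.2 hdet
  -- the transpose is a multiple of the form
  obtain ⟨ε, hε⟩ : ∃ ε : F, Mᵀ = ε • M := by
    have h1 : ∀ g, M * (ρ g : Matrix (Fin n) (Fin n) F) =
        ((ρ g⁻¹ : GL (Fin n) F) : Matrix (Fin n) (Fin n) F)ᵀ * M := by
      intro g
      conv_lhs => rw [← hM g⁻¹]
      rw [Matrix.mul_assoc, ← Units.val_mul, ← map_mul, inv_mul_cancel, map_one, Units.val_one, Matrix.mul_one]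
    have h1' : ∀ g, Mᵀ * (ρ g : Matrix (Fin n) (Fin n) F) =
        ((ρ g⁻¹ : GL (Fin n) F) : Matrix (Fin n) (Fin n) F)ᵀ * Mᵀ := by
      intro g
      have h2 := congrArg Matrix.transpose (h1 g⁻¹)
      rw [Matrix.transpose_mul, Matrix.transpose_mul, Matrix.transpose_transpose, inv_inv] at h2
      exact h2.symm
    have h2 : ∀ g, (M⁻¹ * Mᵀ) * (ρ g : Matrix (Fin n) (Fin n) F) = (ρ g : Matrix (Fin n) (Fin n) F) * (M⁻¹ * Mᵀ) := by
      intro g
      rw [Matrix.mul_assoc, h1', ← Matrix.mul_assoc, ← Matrix.mul_assoc]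
      congr 1
      calc M⁻¹ * ((ρ g⁻¹ : GL (Fin n) F) : Matrix (Fin n) (Fin n) F)ᵀ
          = M⁻¹ * (((ρ g⁻¹ : GL (Fin n) F) : Matrix (Fin n) (Fin n) F)ᵀ * M) * M⁻¹ := by
            rw [Matrix.mul_assoc, Matrix.mul_assoc, Matrix.mul_nonsing_inv _ hdetu, Matrix.mul_one]
        _ = M⁻¹ * (M * (ρ g : Matrix (Fin n) (Fin n) F)) * M⁻¹ := by rw [h1]
        _ = _ := by rw [← Matrix.mul_assoc, Matrix.nonsing_inv_mul _ hdetu, Matrix.one_mul]
    have h3 : ∀ A : Matrix (Fin n) (Fin n) F, (M⁻¹ * Mᵀ) * A = A * (M⁻¹ * Mᵀ) := by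
      intro A
      have hA : A ∈ Submodule.span F (Set.range fun g => (ρ g : Matrix (Fin n) (Fin n) F)) := by rw [hsp]; trivial
      induction hA using Submodule.span_induction with
      | mem x hx =>
        obtain ⟨g, rfl⟩ := hx
        exact h2 g
      | zero => simp
      | add x y _ _ hx hy => rw [mul_add, add_mul, hx, hy]
      | smul a x _ hx => simp only [mul_smul_comm, smul_mul_assoc, hx]
    obtain ⟨ε, hε⟩ := Matrix.mem_range_scalar_of_commute_single (M := M⁻¹ * Mᵀ)
      (fun i j _ => (h3 (Matrix.single i j 1)).symm)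
    refine ⟨ε, ?_⟩
    calc Mᵀ = M * (M⁻¹ * Mᵀ) := by rw [← Matrix.mul_assoc, Matrix.mul_nonsing_inv _ hdetu, Matrix.one_mul]
      _ = M * Matrix.scalar (Fin n) ε := by rw [hε]
      _ = _ := by rw [Matrix.scalar_apply, ← Matrix.smul_one_eq_diagonal, Matrix.mul_smul, Matrix.mul_one]
  -- extend scalars
  set k := AlgebraicClosure F
  set f : F →+* k := algebraMap F k
  have hKk : (Fintype.card K : k) ≠ 0 := by
    intro h
    apply hK
    apply f.injective
    rw [map_natCast, h, map_zero]
  obtain ⟨ψ, hψ⟩ := exists_prim (K := K) hKk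
  have hMg : ∀ g, ((ρ g : Matrix (Fin n) (Fin n) F).map f)ᵀ * (M.map f) * ((ρ g : Matrix (Fin n) (Fin n) F).map f) =
      M.map f := by
    intro g
    rw [← Matrix.transpose_map, ← Matrix.map_mul, ← Matrix.map_mul, hM]
  have hBinv : ∀ (g : SpecialLinearGroup (Fin 2) K) (x y : Fin n → k),
      Matrix.toLinearMap₂' k (M.map f) (ext ρ k g x) (ext ρ k g y) = Matrix.toLinearMap₂' k (M.map f) x y := by
    intro g x y
    rw [ext_apply, Matrix.toLinearMap₂'_apply', Matrix.toLinearMap₂'_apply', Matrix.toLin'_apply,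
      Matrix.toLin'_apply]
    conv_rhs => rw [← hMg g]
    rw [← Matrix.mulVec_mulVec, ← Matrix.mulVec_mulVec, Matrix.dotProduct_mulVec x, Matrix.vecMul_transpose]
  have hBnd : ∀ x : Fin n → k, (∀ y : Fin n → k, Matrix.toLinearMap₂' k (M.map f) y x = 0) → x = 0 := by
    intro x hx
    have h1 : (M.map f) *ᵥ x = 0 := by
      ext i
      have h2 := hx (Pi.single i 1)
      rw [Matrix.toLinearMap₂'_apply', single_one_dotProduct] at h2
      exact h2
    by_contra hx0
    have h3 : (M.map f).det = 0 := Matrix.exists_mulVec_eq_zero_iff.1 ⟨x, hx0, h1⟩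
    have h4 : (M.map f).det = f M.det := by
      rw [RingHom.map_det]
      rfl
    rw [h4] at h3
    exact hdet (f.injective (by rw [h3, map_zero]))
  have hBsym : ∀ x y : Fin n → k, Matrix.toLinearMap₂' k (M.map f) y x =
      f ε * Matrix.toLinearMap₂' k (M.map f) x y := by
    intro x y
    have h1 : (M.map f)ᵀ = f ε • (M.map f) := by
      rw [← Matrix.transpose_map, hε]
      ext i j
      simp
    rw [Matrix.toLinearMap₂'_apply', Matrix.toLinearMap₂'_apply', Matrix.dotProduct_mulVec, dotProduct_comm,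
      ← Matrix.mulVec_transpose, h1, Matrix.smul_mulVec, dotProduct_smul, smul_eq_mul]
  have hω' : ext ρ k (t (-1)) = f ω • 1 := by
    rw [ext_apply, hω]
    have h1 : (ω • (1 : Matrix (Fin n) (Fin n) F)).map f = f ω • (1 : Matrix (Fin n) (Fin n) k) := by
      ext i j
      by_cases hij : i = j
      · rw [hij]; simp
      · simp [Matrix.one_apply_ne hij]
    rw [h1, map_smul, Matrix.toLin'_one]
    rfl
  have h := form_aux (ext ρ k) (ψ := ψ) (Matrix.toLinearMap₂' k (M.map f)) hBinv hψ hKk (span_ext ρ k hsp)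
    (ext_ne_one ρ k hρ) hBnd hBsym hω'
  rw [hε, f.injective h]

end Mat

end Cfsg.Agent.H830.Sl2Form
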